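import Groth.Agent.QuadLib.Orth
import Mathlib.LinearAlgebra.QuadraticForm.Radical

/-!
# Fibrewise non-degeneracy and the half-discriminant
-/

set_option autoImplicit false
set_option linter.unusedSectionVars false

noncomputable section

open scoped TensorProduct
open Matrix

universe u v w

namespace Groth.Agent.QuadLib

/-- Over a field the half-discriminant is non-zero iff the quadric is non-degenerate. -/
theorem hd_ne_zero_iff_nondegenerate {k : Type u} [Field k] {V : Type v} [AddCommGroup V] [Module k V]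
    {n : ℕ} (hn : Odd n) (b : Module.Basis (Fin n) k V) (Q : QuadraticForm k V)
    (B : Matrix (Fin n) (Fin n) k)
    (hQ : ∀ x : V, Q x = (b.repr x : Fin n → k) ⬝ᵥ (B *ᵥ (b.repr x : Fin n → k))) :
    hd (cf B) ≠ 0 ↔ QuadraticMap.Nondegenerate (Q := Q) := by
  set P := B + B.transpose with hP
  have hpol : ∀ x y : V, QuadraticMap.polar Q x y =
      (b.repr y : Fin n → k) ⬝ᵥ (P *ᵥ (b.repr x : Fin n → k)) := by
    intro x y
    simp only [QuadraticMap.polar, hQ, map_add, Finsupp.coe_add, Matrix.mulVec_add, dotProduct_add,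
      add_dotProduct, hP, Matrix.add_mulVec]
    rw [Matrix.dotProduct_mulVec (b.repr y : Fin n → k) B.transpose, Matrix.vecMul_transpose,
      dotProduct_comm (B *ᵥ (b.repr y : Fin n → k))]
    abel
  have hker : ∀ x : V, x ∈ LinearMap.ker Q.polarBilin ↔ P *ᵥ (b.repr x : Fin n → k) = 0 := by
    intro x
    rw [LinearMap.mem_ker]
    constructor
    · intro h
      funext i
      have := LinearMap.congr_fun h (b i)
      simpa [hpol, Finsupp.single_eq_pi_single] using this
    · intro h
      ext y
      simp [hpol, h]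
  let T : ∀ (r : Fin n → k) (i : Fin n), Matrix (Fin n) (Fin n) k := fun r i =>
    (1 : Matrix (Fin n) (Fin n) k).updateCol i r
  have key : ∀ (r : Fin n → k) (i : Fin n), P *ᵥ r = 0 → r i ≠ 0 →
      ∃ M' : Matrix (Fin n) (Fin n) k, (r i) ^ 2 * hd (cf B) = (r ⬝ᵥ (B *ᵥ r)) * M'.det ∧
        ∀ v, M' *ᵥ v = 0 ↔ v i = 0 ∧ P *ᵥ (T r i *ᵥ v) = 0 := by
    intro r i hr hi
    have hGd : (T r i).det = r i := by
      rw [← Matrix.cramer_apply, Matrix.cramer_one]
      rfl
    have hGu : IsUnit (T r i).transpose.det := by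
      rw [Matrix.det_transpose, hGd]; exact isUnit_iff_ne_zero.mpr hi
    have hGr : ∀ a, T r i a i = r a := fun a => by simp [T]
    let K := (T r i).transpose * B * T r i
    have hQK : (T r i).transpose * P * T r i = pm (cf K) := by
      rw [pm_cf, hP]
      simp only [K, Matrix.transpose_mul, Matrix.transpose_transpose, Matrix.mul_add, Matrix.add_mul,
        Matrix.mul_assoc]
    have hPr : r ᵥ* P = 0 := by rw [← hr, ← Matrix.mulVec_transpose, hP, transpose_pm_cf]
    have hQrow : ∀ j, ((T r i).transpose * P * T r i) i j = 0 := fun j => by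
      rw [Matrix.mul_apply]
      refine Finset.sum_eq_zero fun a _ => ?_
      rw [show ((T r i).transpose * P) i a = (r ᵥ* P) a by simp [Matrix.mul_apply, Matrix.vecMul,
        dotProduct, hGr], hPr, Pi.zero_apply, zero_mul]
    have hrow : ∀ j, j ≠ i → cf K s(i, j) = 0 := fun j hj => by
      have := hQrow j
      rwa [hQK, pm, Matrix.of_apply, if_neg (Ne.symm hj)] at this
    refine ⟨(pm (cf K)).updateRow i (Pi.single i 1), ?_, fun v => ?_⟩
    · have hq : cf K s(i, i) = r ⬝ᵥ (B *ᵥ r) := by
        rw [cf_mk, if_pos rfl]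
        simp [K, Matrix.mul_apply, Matrix.mulVec, dotProduct, hGr, Finset.mul_sum, Finset.sum_mul,
          mul_assoc]
      rw [← hq, ← hd_row hn (cf K) i hrow, hd_cf_congr hn, hGd]
    · have h1 : P *ᵥ (T r i *ᵥ v) = 0 ↔ pm (cf K) *ᵥ v = 0 := by
        rw [← hQK, Matrix.mul_assoc, ← Matrix.mulVec_mulVec, ← Matrix.mulVec_mulVec]
        refine ⟨fun h => by rw [h, Matrix.mulVec_zero], fun h => ?_⟩
        exact Matrix.mulVec_injective_iff_isUnit.mpr ((Matrix.isUnit_iff_isUnit_det _).mpr hGu)
          (h.trans (Matrix.mulVec_zero _).symm)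
      rw [h1]
      constructor
      · intro h
        have hvi : v i = 0 := by simpa [Matrix.mulVec] using congrFun h i
        refine ⟨hvi, funext fun a => ?_⟩
        rcases eq_or_ne a i with rfl | ha
        · rw [← hQK]
          simp [Matrix.mulVec, dotProduct, hQrow]
        · simpa [Matrix.mulVec, Matrix.updateRow_ne ha] using congrFun h a
      · rintro ⟨hvi, h⟩
        funext a
        rcases eq_or_ne a i with rfl | ha
        · simp [Matrix.mulVec, hvi]
        · simpa [Matrix.mulVec, Matrix.updateRow_ne ha] using congrFun h a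
  constructor
  · intro hB
    have hline : ∀ r, P *ᵥ r = 0 → r ≠ 0 →
        r ⬝ᵥ (B *ᵥ r) ≠ 0 ∧ ∀ w, P *ᵥ w = 0 → ∃ c : k, w = c • r := by
      intro r hr hr0
      obtain ⟨i, hi⟩ := Function.ne_iff.mp hr0
      obtain ⟨M', hM, hv⟩ := key r i hr hi
      have hne : (r ⬝ᵥ (B *ᵥ r)) * M'.det ≠ 0 := hM ▸ mul_ne_zero (pow_ne_zero _ hi) hB
      refine ⟨left_ne_zero_of_mul hne, fun w hw => ⟨w i / r i, ?_⟩⟩
      let v : Fin n → k := Function.update (w - (w i / r i) • r) i 0
      have hTv : T r i *ᵥ v = w - (w i / r i) • r := by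
        funext a
        simp only [Matrix.mulVec, dotProduct, T]
        rw [Finset.sum_eq_single a]
        · rcases eq_or_ne a i with rfl | ha
          · simp [v, div_mul_cancel₀ _ (show r a ≠ 0 from hi)]
          · simp [v, ha, Matrix.updateCol_ne ha]
        · intro c _ hca
          rcases eq_or_ne c i with rfl | hc
          · simp [v]
          · simp [Matrix.updateCol_ne hc, Matrix.one_apply_ne (Ne.symm hca)]
        · intro h; exact absurd (Finset.mem_univ a) h
      have hv0 : v = 0 := by
        by_contra hne'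
        refine right_ne_zero_of_mul hne (Matrix.exists_mulVec_eq_zero_iff.mp ⟨v, hne', (hv v).mpr
          ⟨by simp [v], ?_⟩⟩)
        rw [hTv, Matrix.mulVec_sub, Matrix.mulVec_smul, hw, hr, smul_zero, sub_zero]
      rw [← sub_eq_zero, ← hTv, hv0, Matrix.mulVec_zero]
    refine ⟨(Submodule.eq_bot_iff _).mpr fun x hx => ?_, ?_⟩
    · obtain ⟨hq, hp⟩ := hx
      by_contra hne
      have hr0 : (b.repr x : Fin n → k) ≠ 0 := fun h =>
        hne (b.repr.injective (by ext i; simpa using congrFun h i))
      exact (hline _ ((hker x).mp hp) hr0).1 ((hQ x).symm.trans hq)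
    · by_cases h0 : ∀ x ∈ LinearMap.ker Q.polarBilin, x = 0
      · rw [(Submodule.eq_bot_iff _).mpr h0, rank_bot]
        exact zero_le_one
      · push Not at h0
        obtain ⟨x, hx, hx0⟩ := h0
        refine (rank_submodule_le_one_iff' _).mpr ⟨x, fun y hy => ?_⟩
        have hr0 : (b.repr x : Fin n → k) ≠ 0 := fun h =>
          hx0 (b.repr.injective (by ext i; simpa using congrFun h i))
        obtain ⟨c, hc⟩ := (hline _ ((hker x).mp hx) hr0).2 _ ((hker y).mp hy)
        refine Submodule.mem_span_singleton.mpr ⟨c, b.repr.injective (Finsupp.ext fun a => ?_)⟩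
        simpa using (congrFun hc a).symm
  · intro h hB
    have hdet : P.det = 0 := by rw [hP, ← pm_cf, ← two_mul_hd hn, hB, mul_zero]
    obtain ⟨r, hr0, hr⟩ := Matrix.exists_mulVec_eq_zero_iff.mpr hdet
    obtain ⟨i, hi⟩ := Function.ne_iff.mp hr0
    rw [Pi.zero_apply] at hi
    have hxr : ∀ w : Fin n → k, (b.repr (b.equivFun.symm w) : Fin n → k) = w :=
      fun w => b.equivFun.apply_symm_apply w
    have hmem : ∀ w : Fin n → k, P *ᵥ w = 0 → b.equivFun.symm w ∈ LinearMap.ker Q.polarBilin :=
      fun w hw => (hker _).mpr (by rw [hxr]; exact hw)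
    have hq : r ⬝ᵥ (B *ᵥ r) ≠ 0 := fun hq => hr0 (by
      have : b.equivFun.symm r ∈ Q.radical := ⟨by rw [hQ, hxr]; exact hq, hmem r hr⟩
      rw [h.radical_eq_bot, Submodule.mem_bot] at this
      exact b.equivFun.symm.injective (this.trans (map_zero _).symm))
    obtain ⟨M', hM, hv⟩ := key r i hr hi
    rw [hB, mul_zero, eq_comm, mul_eq_zero, or_iff_right hq] at hM
    obtain ⟨v, hv0, hMv⟩ := Matrix.exists_mulVec_eq_zero_iff.mpr hM
    obtain ⟨hvi, hPv⟩ := (hv v).mp hMv
    obtain ⟨x₀, hx₀⟩ := (rank_submodule_le_one_iff' _).mp h.rank_rad_polar_le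
    obtain ⟨c₁, hc₁⟩ := Submodule.mem_span_singleton.mp (hx₀ (hmem r hr))
    obtain ⟨c₂, hc₂⟩ := Submodule.mem_span_singleton.mp (hx₀ (hmem _ hPv))
    have hc1 : c₁ ≠ 0 := fun h1 => hr0 (by
      rw [h1, zero_smul, eq_comm] at hc₁
      exact b.equivFun.symm.injective (hc₁.trans (map_zero _).symm))
    have hw : T r i *ᵥ v = (c₂ / c₁) • r := b.equivFun.symm.injective (by
      rw [← hc₂, map_smul, ← hc₁, smul_smul, div_mul_cancel₀ _ hc1])
    have hTv : ∀ a, a ≠ i → (T r i *ᵥ v) a = v a := fun a ha => by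
      simp only [Matrix.mulVec, dotProduct, T]
      rw [Finset.sum_eq_single a]
      · simp [Matrix.updateCol_ne ha]
      · intro c _ hca
        rcases eq_or_ne c i with rfl | hc
        · simp [hvi]
        · simp [Matrix.updateCol_ne hc, Matrix.one_apply_ne (Ne.symm hca)]
      · intro h; exact absurd (Finset.mem_univ a) h
    have hTvi : (T r i *ᵥ v) i = 0 := by
      simp only [Matrix.mulVec, dotProduct, T]
      refine Finset.sum_eq_zero fun c _ => ?_
      rcases eq_or_ne c i with rfl | hc
      · simp [hvi]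
      · simp [Matrix.updateCol_ne hc, Matrix.one_apply_ne (Ne.symm hc)]
    rw [hw, Pi.smul_apply, smul_eq_mul, mul_eq_zero, or_iff_left hi] at hTvi
    refine hv0 (funext fun a => ?_)
    rcases eq_or_ne a i with rfl | ha
    · exact hvi
    · rw [← hTv a ha, hw, hTvi, zero_smul]

variable {R : Type u} [CommRing R] {M : Type v} [AddCommGroup M] [Module R M] [Module.Free R M]
  {n : ℕ} (b : Module.Basis (Fin n) R M) (Q : QuadraticForm R M)

/-- The base changed form in coordinates. -/
theorem baseChangeForm_repr (A : Type w) [CommRing A] [Algebra R A] (x : A ⊗[R] M) :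
    QuadGrp.baseChangeForm A Q x = ((b.baseChange A).repr x : Fin n → A) ⬝ᵥ
      ((Matrix.of fun i j => QuadGrp.bilinLift Q (b i) (b j)).map (algebraMap R A) *ᵥ
        ((b.baseChange A).repr x : Fin n → A)) := by
  set c : Fin n → A := ⇑((b.baseChange A).repr x) with hc
  have hv : ∑ i, c i • (b.baseChange A) i = x := (b.baseChange A).sum_repr x
  rw [← hv]
  simp only [QuadGrp.baseChangeForm, QuadGrp.baseChange, LinearMap.compQuadraticMap_apply,
    LinearMap.BilinMap.toQuadraticMap_apply, map_sum, LinearMap.coe_sum, Finset.sum_apply,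
    map_smul, LinearMap.smul_apply, Module.Basis.baseChange_apply,
    LinearMap.BilinMap.baseChange_tmul, dotProduct, Matrix.mulVec, Finset.mul_sum,
    Matrix.map_apply, smul_eq_mul, LinearEquiv.coe_coe]
  rw [Finset.sum_comm]
  refine Finset.sum_congr rfl fun i _ => Finset.sum_congr rfl fun j _ => ?_
  simp [Algebra.smul_def]
  ring

theorem halfDisc_unit_iff (hn : Odd n) :
    IsUnit (QuadGrp.halfDisc b (LinearEquiv.refl R R) Q) ↔
      ∀ (p : Ideal R) [p.IsPrime],
        QuadraticMap.Nondegenerate (Q := QuadGrp.baseChangeForm p.ResidueField Q) := by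
  set B := Matrix.of fun i j => QuadGrp.bilinLift Q (b i) (b j) with hB
  have hc : QuadGrp.coeffs b (LinearEquiv.refl R R) Q = cf B := by
    funext s
    induction s using Sym2.ind with
    | _ i j =>
      conv_lhs => rw [← QuadGrp.bilinLift_spec Q]
      rcases eq_or_ne i j with rfl | h
      · simp [QuadGrp.coeffs_mk, cf_mk, B]
      · simp [QuadGrp.coeffs_mk, cf_mk, B, h, LinearMap.BilinMap.polar_toQuadraticMap]
  rw [halfDisc_eq_hd, hc]
  have hfib : ∀ (p : Ideal R) [p.IsPrime], hd (cf B) ∉ p ↔
      QuadraticMap.Nondegenerate (Q := QuadGrp.baseChangeForm p.ResidueField Q) := by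
    intro p _
    rw [← hd_ne_zero_iff_nondegenerate hn (b.baseChange p.ResidueField) _
      (B.map (algebraMap R p.ResidueField)) (baseChangeForm_repr b Q _), ← map_cf, ← map_hd, ne_eq,
      Ideal.algebraMap_residueField_eq_zero]
  constructor
  · exact fun hu p _ => (hfib p).mp fun h => Ideal.IsPrime.ne_top ‹_› (p.eq_top_of_isUnit_mem h hu)
  · intro h
    by_contra hu
    obtain ⟨p, hp, hmem⟩ := exists_max_ideal_of_mem_nonunits hu
    haveI := hp
    exact (hfib p).mpr (h p) hmem

end Groth.Agent.QuadLib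

end
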