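import Groth.Prelude.Def_QuadGrp
import Mathlib.GroupTheory.Perm.Cycle.Type
import Mathlib.LinearAlgebra.Matrix.ToLin
import Mathlib.Algebra.MvPolynomial.Eval

/-!
# The half-discriminant of a quadratic form in odd rank

`two_mul_halfDiscUniv`: the universal discriminant of odd rank is twice the half-discriminant;
`halfDisc_comp`: transformation law; `halfDisc_mem_of_polar_mem`: content.
-/

set_option autoImplicit false
set_option linter.unusedSectionVars false

noncomputable section

open MvPolynomial Matrix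

universe u v w

namespace Groth.Agent.QuadLib

/-- The determinant of a symmetric matrix with zero diagonal of odd size vanishes modulo two. -/
theorem det_eq_zero_of_odd_alternating {n : Type*} [Fintype n] [DecidableEq n] {R : Type*}
    [CommRing R] (h2 : (2 : R) = 0) (hn : ¬ 2 ∣ Fintype.card n) (A : Matrix n n R)
    (hsym : ∀ i j, A i j = A j i) (hdiag : ∀ i, A i i = 0) : A.det = 0 := by
  rw [Matrix.det_apply']
  refine Finset.sum_involution (fun σ _ => σ⁻¹) (fun σ _ => ?_) (fun σ _ hne he => hne ?_)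
    (fun σ _ => Finset.mem_univ _) (fun σ _ => inv_inv σ)
  · have h1 : (∏ i, A (σ⁻¹ i) i) = ∏ i, A (σ i) i := by
      refine (Fintype.prod_equiv σ _ _ fun i => ?_).symm
      rw [Equiv.Perm.inv_def, Equiv.symm_apply_apply, hsym]
    rw [h1, Equiv.Perm.sign_inv, ← two_mul, h2, zero_mul]
  · haveI : Fact (Nat.Prime 2) := ⟨Nat.prime_two⟩
    have hσ : σ ^ (2 ^ 1) = 1 := by
      rw [pow_one, pow_two]
      conv_lhs => arg 1; rw [← he]
      exact inv_mul_cancel σ
    obtain ⟨i, hi⟩ := Equiv.Perm.exists_fixed_point_of_prime hn hσ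
    rw [Finset.prod_eq_zero (Finset.mem_univ i) (by rw [hi, hdiag]), mul_zero]

theorem map_univPolarMat {n : ℕ} {S : Type*} [CommRing S] (φ : MvPolynomial (Sym2 (Fin n)) ℤ →+* S) :
    (QuadGrp.univPolarMat n).map φ =
      Matrix.of fun i j => if i = j then 2 * φ (X s(i, j)) else φ (X s(i, j)) := by
  ext i j
  simp only [QuadGrp.univPolarMat, Matrix.map_apply, Matrix.of_apply]
  split_ifs <;> simp [map_ofNat]

theorem two_dvd_coeff_discUniv {n : ℕ} (hn : Odd n) (s : Sym2 (Fin n) →₀ ℕ) :
    (2 : ℤ) ∣ coeff s (QuadGrp.discUniv n) := by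
  have h : MvPolynomial.map (Int.castRingHom (ZMod 2)) (QuadGrp.discUniv n) = 0 := by
    rw [QuadGrp.discUniv, RingHom.map_det, RingHom.mapMatrix_apply, map_univPolarMat]
    have h2 : (2 : MvPolynomial (Sym2 (Fin n)) (ZMod 2)) = 0 := by
      rw [← map_ofNat (C : ZMod 2 →+* _) 2, show (OfNat.ofNat 2 : ZMod 2) = 0 from rfl, map_zero]
    refine det_eq_zero_of_odd_alternating h2 ?_ _ (fun i j => ?_) (fun i => ?_)
    · rw [Fintype.card_fin]
      obtain ⟨m, rfl⟩ := hn
      omega
    · simp only [Matrix.of_apply, eq_comm (a := i), Sym2.eq_swap (a := i)]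
    · simp [h2]
  have := congrArg (coeff s) h
  rw [coeff_map, coeff_zero] at this
  exact (ZMod.intCast_zmod_eq_zero_iff_dvd _ 2).mp this

theorem two_mul_halfDiscUniv {n : ℕ} (hn : Odd n) :
    2 * QuadGrp.halfDiscUniv n = QuadGrp.discUniv n := by
  ext s
  rw [← map_ofNat (C : ℤ →+* _) 2, coeff_C_mul, QuadGrp.coeff_halfDiscUniv]
  exact Int.mul_ediv_cancel' (two_dvd_coeff_discUniv hn s)

section Eval

variable {n : ℕ} {S : Type*} [CommRing S]

/-- The half-discriminant of a coefficient family. -/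
def hd (c : Sym2 (Fin n) → S) : S := eval₂ (Int.castRingHom S) c (QuadGrp.halfDiscUniv n)

/-- The polar matrix of a coefficient family. -/
def pm (c : Sym2 (Fin n) → S) : Matrix (Fin n) (Fin n) S :=
  Matrix.of fun i j => if i = j then 2 * c s(i, j) else c s(i, j)

theorem det_pm (c : Sym2 (Fin n) → S) :
    (pm c).det = eval₂ (Int.castRingHom S) c (QuadGrp.discUniv n) := by
  rw [← coe_eval₂Hom, QuadGrp.discUniv, RingHom.map_det, RingHom.mapMatrix_apply, map_univPolarMat]
  simp [pm]

theorem two_mul_hd (hn : Odd n) (c : Sym2 (Fin n) → S) : 2 * hd c = (pm c).det := by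
  rw [det_pm, ← two_mul_halfDiscUniv hn, eval₂_mul, hd]
  congr 1
  rw [← coe_eval₂Hom, map_ofNat]

theorem map_hd {T : Type*} [CommRing T] (f : S →+* T) (c : Sym2 (Fin n) → S) :
    f (hd c) = hd (f ∘ c) := by
  rw [hd, hd, eval₂_comp_left f, show f.comp (Int.castRingHom S) = Int.castRingHom T from
    Subsingleton.elim _ _]

/-- Keep the diagonal variables only. -/
def killOff (n : ℕ) : MvPolynomial (Sym2 (Fin n)) ℤ →ₐ[ℤ] MvPolynomial (Sym2 (Fin n)) ℤ :=
  aeval fun s => if s.IsDiag then X s else 0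

theorem killOff_monomial (e : Sym2 (Fin n) →₀ ℕ) (a : ℤ) :
    killOff n (monomial e a) = if ∀ s ∈ e.support, s.IsDiag then monomial e a else 0 := by
  rw [killOff, aeval_monomial]
  split_ifs with h
  · rw [monomial_eq, ← algebraMap_eq]
    congr 1
    exact Finsupp.prod_congr fun s hs => by rw [if_pos (h s hs)]
  · push Not at h
    obtain ⟨s, hs, hd⟩ := h
    rw [Finsupp.prod, Finset.prod_eq_zero hs (by
      rw [if_neg hd, zero_pow (Finsupp.mem_support_iff.mp hs)]), mul_zero]

theorem coeff_killOff (f : MvPolynomial (Sym2 (Fin n)) ℤ) (e : Sym2 (Fin n) →₀ ℕ) :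
    coeff e (killOff n f) = if ∀ s ∈ e.support, s.IsDiag then coeff e f else 0 := by
  induction f using MvPolynomial.induction_on' with
  | monomial d a =>
    rw [killOff_monomial]
    by_cases hde : d = e
    · subst hde
      split_ifs <;> simp
    · split_ifs <;> simp [coeff_monomial, hde]
  | add p q hp hq => rw [map_add, coeff_add, hp, hq, coeff_add]; split_ifs <;> simp

theorem killOff_discUniv :
    killOff n (QuadGrp.discUniv n) =
      monomial (∑ i : Fin n, Finsupp.single s(i, i) 1) ((2 : ℤ) ^ n) := by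
  have h : (QuadGrp.univPolarMat n).map (killOff n).toRingHom =
      Matrix.diagonal fun i => 2 * X s(i, i) := by
    rw [map_univPolarMat]
    ext i j
    rcases eq_or_ne i j with rfl | hij
    · simp [killOff]
    · simp [killOff, hij]
  calc killOff n (QuadGrp.discUniv n)
      = ((QuadGrp.univPolarMat n).map (killOff n).toRingHom).det :=
        RingHom.map_det (killOff n).toRingHom _
    _ = ∏ i : Fin n, monomial (Finsupp.single s(i, i) 1) (2 : ℤ) := by
        rw [h, Matrix.det_diagonal]
        refine Finset.prod_congr rfl fun i _ => ?_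
        rw [← map_ofNat (C : ℤ →+* _) 2, X, C_mul_monomial, mul_one]
    _ = _ := by
        rw [monomial_sum_index, Finset.prod_congr rfl (fun i _ => show
            monomial (Finsupp.single s(i, i) 1) (2 : ℤ) = C 2 * monomial (Finsupp.single s(i, i) 1) 1
            by rw [C_mul_monomial, mul_one]), Finset.prod_mul_distrib, Finset.prod_const,
          Finset.card_univ, Fintype.card_fin, map_pow]

theorem killOff_halfDiscUniv (hn : 1 ≤ n) :
    killOff n (QuadGrp.halfDiscUniv n) =
      monomial (∑ i : Fin n, Finsupp.single s(i, i) 1) ((2 : ℤ) ^ (n - 1)) := by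
  ext e
  rw [coeff_killOff, QuadGrp.coeff_halfDiscUniv, coeff_monomial]
  have h := congrArg (coeff e) (killOff_discUniv (n := n))
  rw [coeff_killOff, coeff_monomial] at h
  obtain ⟨m, rfl⟩ : ∃ m, n = m + 1 := ⟨n - 1, by omega⟩
  split_ifs at h ⊢ with h1 h2
  · rw [h, Nat.add_sub_cancel, pow_succ, Int.mul_ediv_cancel _ (by norm_num)]
  · rw [h]; rfl
  · exact absurd h (pow_ne_zero _ (by norm_num : (2 : ℤ) ≠ 0)).symm
  · rfl

theorem hd_eq_of_diag (hn : 1 ≤ n) (c : Sym2 (Fin n) → S) (hc : ∀ i j, i ≠ j → c s(i, j) = 0) :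
    hd c = 2 ^ (n - 1) * ∏ i : Fin n, c s(i, i) := by
  have h : (eval₂Hom (Int.castRingHom S) c).comp (killOff n).toRingHom =
      eval₂Hom (Int.castRingHom S) c := by
    refine MvPolynomial.ringHom_ext (fun r => ?_) (fun s => ?_)
    · simp [killOff]
    · induction s using Sym2.ind with
      | _ i j =>
        rcases eq_or_ne i j with rfl | hij
        · simp [killOff]
        · simp [killOff, hij, hc i j hij]
  have h1 := RingHom.congr_fun h (QuadGrp.halfDiscUniv n)
  simp only [RingHom.comp_apply, AlgHom.toRingHom_eq_coe, RingHom.coe_coe,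
    killOff_halfDiscUniv hn, coe_eval₂Hom] at h1
  rw [hd, ← h1, monomial_sum_index, ← coe_eval₂Hom, map_mul, map_prod, eval₂Hom_C]
  simp

/-- If all polar coefficients lie in an ideal, so does the half-discriminant (rank at least two). -/
theorem hd_mem (hn : 2 ≤ n) (c : Sym2 (Fin n) → S) (I : Ideal S) (hI : ∀ i j, pm c i j ∈ I) :
    hd c ∈ I := by
  rw [← Ideal.Quotient.eq_zero_iff_mem, map_hd]
  have h2 : ∀ i, (2 : S ⧸ I) * Ideal.Quotient.mk I (c s(i, i)) = 0 := fun i => by
    have := Ideal.Quotient.eq_zero_iff_mem.mpr (hI i i)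
    simpa [pm, map_mul, map_ofNat] using this
  rw [hd_eq_of_diag (by omega) _ (fun i j hij => by
    have := Ideal.Quotient.eq_zero_iff_mem.mpr (hI i j)
    simpa [pm, hij] using this)]
  rw [show n - 1 = (n - 2) + 1 by omega, pow_succ, mul_assoc]
  rw [← Finset.mul_prod_erase _ _ (Finset.mem_univ (⟨0, by omega⟩ : Fin n)), ← mul_assoc (2 : S ⧸ I),
    Function.comp_apply, h2, zero_mul, mul_zero]

/-- Coefficients of the quadratic form of a matrix. -/
def cf (M : Matrix (Fin n) (Fin n) S) : Sym2 (Fin n) → S :=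
  Sym2.lift ⟨fun i j => if i = j then M i i else M i j + M j i, fun i j => by
    rcases eq_or_ne i j with rfl | h
    · rfl
    · simp [h, Ne.symm h, add_comm]⟩

theorem pm_cf (M : Matrix (Fin n) (Fin n) S) : pm (cf M) = M + M.transpose := by
  ext i j
  rcases eq_or_ne i j with rfl | h
  · simp [pm, cf, two_mul]
  · simp [pm, cf, h]

theorem map_cf {T : Type*} [CommRing T] (f : S →+* T) (M : Matrix (Fin n) (Fin n) S) :
    f ∘ cf M = cf (M.map f) := by
  funext s
  induction s using Sym2.ind with
  | _ i j => by_cases h : i = j <;> simp [cf, h]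

theorem hd_cf_congr (hn : Odd n) (G B : Matrix (Fin n) (Fin n) S) :
    hd (cf (G.transpose * B * G)) = G.det ^ 2 * hd (cf B) := by
  let U := MvPolynomial ((Fin n × Fin n) ⊕ (Fin n × Fin n)) ℤ
  let G₀ : Matrix (Fin n) (Fin n) U := Matrix.of fun i j => X (Sum.inl (i, j))
  let B₀ : Matrix (Fin n) (Fin n) U := Matrix.of fun i j => X (Sum.inr (i, j))
  have key : hd (cf (G₀.transpose * B₀ * G₀)) = G₀.det ^ 2 * hd (cf B₀) := by
    refine mul_left_cancel₀ (fun h => by simpa [map_ofNat] using congrArg (eval fun _ => (0 : ℤ)) h : (2 : U) ≠ 0) ?_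
    rw [two_mul_hd hn, mul_left_comm, two_mul_hd hn, pm_cf, pm_cf, Matrix.transpose_mul,
      Matrix.transpose_mul, Matrix.transpose_transpose, ← Matrix.mul_assoc, ← Matrix.add_mul,
      ← Matrix.mul_add, Matrix.det_mul, Matrix.det_mul, Matrix.det_transpose]
    ring
  let f : U →+* S := (aeval (Sum.elim (fun q => G q.1 q.2) fun q => B q.1 q.2) :
    U →ₐ[ℤ] S).toRingHom
  have hG : G₀.map f = G := by ext i j; exact aeval_X _ _
  have hB : B₀.map f = B := by ext i j; exact aeval_X _ _
  have := congrArg f key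
  rwa [map_mul, map_pow, map_hd, map_hd, map_cf, map_cf, RingHom.map_det, RingHom.mapMatrix_apply,
    hG, Matrix.map_mul, Matrix.map_mul, Matrix.transpose_map, hG, hB] at this

end Eval

section Form

variable {R : Type u} [CommRing R] {M : Type v} [AddCommGroup M] [Module R M] {n : ℕ}
variable (b : Module.Basis (Fin n) R M) (Q : QuadraticForm R M)

/-- The polar matrix in a basis. -/
def polarMat : Matrix (Fin n) (Fin n) R := Matrix.of fun i j => QuadraticMap.polar Q (b i) (b j)

theorem halfDisc_eq_hd (t : R ≃ₗ[R] R) :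
    QuadGrp.halfDisc b t Q = hd (QuadGrp.coeffs b t Q) := rfl

theorem pm_coeffs : pm (QuadGrp.coeffs b (LinearEquiv.refl R R) Q) = polarMat b Q := by
  ext i j
  rcases eq_or_ne i j with rfl | h
  · simp [pm, polarMat, QuadGrp.coeffs_mk, two_smul, two_mul]
  · simp [pm, polarMat, QuadGrp.coeffs_mk, h]

theorem two_mul_halfDisc (hn : Odd n) :
    2 * QuadGrp.halfDisc b (LinearEquiv.refl R R) Q = (polarMat b Q).det := by
  rw [halfDisc_eq_hd, two_mul_hd hn, pm_coeffs]

theorem halfDisc_mem (hn : 2 ≤ n) (I : Ideal R)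
    (hI : ∀ i j, QuadraticMap.polar Q (b i) (b j) ∈ I) :
    QuadGrp.halfDisc b (LinearEquiv.refl R R) Q ∈ I :=
  hd_mem hn _ I fun i j => by rw [pm_coeffs]; exact hI i j

theorem halfDisc_comp (hn : Odd n) (g : M →ₗ[R] M) :
    QuadGrp.halfDisc b (LinearEquiv.refl R R) (Q.comp g) =
      LinearMap.det g ^ 2 * QuadGrp.halfDisc b (LinearEquiv.refl R R) Q := by
  haveI : Module.Free R M := Module.Free.of_basis b
  obtain ⟨B, rfl⟩ := LinearMap.BilinMap.toQuadraticMap_surjective Q
  let Bm : Matrix (Fin n) (Fin n) R := Matrix.of fun i j => B (b i) (b j)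
  let G := LinearMap.toMatrix b b g
  have h1 : QuadGrp.coeffs b (LinearEquiv.refl R R) B.toQuadraticMap = cf Bm := by
    funext s
    induction s using Sym2.ind with
    | _ i j =>
      rcases eq_or_ne i j with rfl | h
      · simp [QuadGrp.coeffs_mk, cf, Bm]
      · simp [QuadGrp.coeffs_mk, cf, Bm, h, LinearMap.BilinMap.polar_toQuadraticMap]
  have hgb : ∀ i, g (b i) = ∑ a, G a i • b a := fun i => by
    simp only [G, LinearMap.toMatrix_apply]
    exact (b.sum_repr _).symm
  have h3 : ∀ i j, B (g (b i)) (g (b j)) = (G.transpose * Bm * G) i j := fun i j => by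
    rw [hgb, hgb]
    simp only [map_sum, LinearMap.coe_sum, Finset.sum_apply, map_smul, LinearMap.smul_apply, smul_eq_mul, Matrix.mul_apply,
      Matrix.transpose_apply, Finset.sum_mul, Finset.mul_sum, Bm, Matrix.of_apply]
    exact Finset.sum_congr rfl fun a _ => Finset.sum_congr rfl fun c _ => by ring
  have h2 : QuadGrp.coeffs b (LinearEquiv.refl R R) (B.toQuadraticMap.comp g) =
      cf (G.transpose * Bm * G) := by
    funext s
    induction s using Sym2.ind with
    | _ i j =>
      rcases eq_or_ne i j with rfl | h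
      · simp [QuadGrp.coeffs_mk, cf, h3]
      · simp only [QuadGrp.coeffs_mk, cf, Sym2.lift_mk, if_neg h, ← h3]
        simp only [LinearEquiv.refl_apply, QuadraticMap.polar, QuadraticMap.comp_apply,
          LinearMap.BilinMap.toQuadraticMap_apply, map_add, LinearMap.add_apply]
        ring
  rw [halfDisc_eq_hd, halfDisc_eq_hd, h1, h2, hd_cf_congr hn, ← LinearMap.det_toMatrix b]

end Form

end Groth.Agent.QuadLib

end
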