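import Groth.Agent.QuadLib.Centre
import Mathlib.LinearAlgebra.TensorProduct.Basis
import Mathlib.LinearAlgebra.CliffordAlgebra.Fold

/-!
# Infinitesimal rotations over the dual numbers, and non-vanishing of minors
-/

set_option autoImplicit false
set_option linter.unusedSectionVars false

noncomputable section

open scoped TensorProduct DualNumber

universe u v

namespace Groth.Agent.QuadLib

section Rotation

variable {A : Type u} [CommRing A] {V : Type v} [AddCommGroup V] [Module A V]
variable (Q : QuadraticForm A V)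

/-- The skew endomorphism `v ↦ B(v,x) y - B(v,y) x`. -/
def xi (x y : V) : V →ₗ[A] V :=
  (QuadraticMap.polarBilin Q x).smulRight y - (QuadraticMap.polarBilin Q y).smulRight x

theorem xi_apply (x y v : V) :
    xi Q x y v = QuadraticMap.polar Q v x • y - QuadraticMap.polar Q v y • x := by
  simp [xi, QuadraticMap.polar_comm Q x v, QuadraticMap.polar_comm Q y v]

theorem polar_xi (x y v : V) : QuadraticMap.polar Q v (xi Q x y v) = 0 := by
  rw [xi_apply, sub_eq_add_neg, QuadraticMap.polar_add_right, QuadraticMap.polar_neg_right,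
    QuadraticMap.polar_smul_right, QuadraticMap.polar_smul_right, smul_eq_mul, smul_eq_mul]
  ring

variable {e : A} (he : e * e = 0)

/-- `1 + e ξ_{x,y}` for `e² = 0`. -/
def rot (he : e * e = 0) (x y : V) : V ≃ₗ[A] V :=
  LinearEquiv.ofLinearMap (LinearMap.id + e • xi Q x y) (LinearMap.id - e • xi Q x y)
    (LinearMap.ext fun v => by simp [smul_sub, smul_smul, he])
    (LinearMap.ext fun v => by simp [smul_add, smul_smul, he])

theorem rot_apply (x y v : V) : rot Q he x y v = v + e • xi Q x y v := rfl

theorem rot_mem_O (x y : V) : rot Q he x y ∈ QuadGrp.O Q := fun v => by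
  rw [rot_apply, QuadraticMap.map_add (⇑Q) v (e • xi Q x y v), QuadraticMap.map_smul, he, zero_smul, add_zero,
    QuadraticMap.polar_smul_right, polar_xi, smul_zero, add_zero]

theorem rot_det [Module.Free A V] [Module.Finite A V] (x y : V) :
    LinearEquiv.det (rot Q he x y) = 1 := by
  refine Units.ext ?_
  rw [LinearEquiv.coe_det, Units.val_one]
  have h : (rot Q he x y : V →ₗ[A] V) =
      LinearMap.transvection (e • QuadraticMap.polarBilin Q x) y *
        LinearMap.transvection (-(e • QuadraticMap.polarBilin Q y)) x := LinearMap.ext fun v => by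
    simp only [LinearEquiv.coe_coe, rot_apply, xi_apply, Module.End.mul_apply,
      LinearMap.transvection.apply, LinearMap.smul_apply, LinearMap.neg_apply,
      QuadraticMap.polarBilin_apply_apply, QuadraticMap.polar_add_right,
      QuadraticMap.polar_smul_right, smul_eq_mul, QuadraticMap.polar_comm Q x v,
      QuadraticMap.polar_comm Q y v]
    match_scalars
    · ring
    · linear_combination (QuadraticMap.polar Q v y * QuadraticMap.polar Q x x) * he
    · ring
  rw [h, map_mul, LinearMap.transvection.det, LinearMap.transvection.det]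
  simp only [LinearMap.smul_apply, LinearMap.neg_apply, QuadraticMap.polarBilin_apply_apply,
    smul_eq_mul, QuadraticMap.polar_comm Q y x]
  linear_combination (-(QuadraticMap.polar Q x y * QuadraticMap.polar Q x y)) * he

open CliffordAlgebra in
theorem rot_dickson (x y : V) : QuadGrp.IsDicksonTrivial Q (rot Q he x y) (rot_mem_O Q he x y) := by
  intro z hz
  set w : CliffordAlgebra Q := e • (ι Q y * ι Q x) with hw
  have hw2 : w * w = 0 := by rw [hw, smul_mul_smul_comm, he, zero_smul]
  have hinv : (1 + w) * (1 - w) = 1 := by rw [add_mul, one_mul, mul_sub, mul_one, hw2]; abel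
  have hinv' : (1 - w) * (1 + w) = 1 := by rw [sub_mul, one_mul, mul_add, mul_one, hw2]; abel
  have key : ∀ a, CliffordAlgebra.map (QuadGrp.isometryOfMem Q (rot Q he x y) (rot_mem_O Q he x y)) a =
      (1 + w) * a * (1 - w) := by
    intro a
    induction a using CliffordAlgebra.induction with
    | algebraMap r =>
      rw [AlgHom.commutes, ← Algebra.commutes, mul_assoc, hinv, mul_one]
    | ι v =>
      rw [CliffordAlgebra.map_apply_ι]
      show ι Q (rot Q he x y v) = _
      have hsq : w * ι Q v * w = 0 := by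
        rw [hw, smul_mul_assoc, smul_mul_smul_comm, he, zero_smul]
      have h1 : w * ι Q v - ι Q v * w = e • ι Q (xi Q x y v) := by
        rw [hw, xi_apply, map_sub, map_smul, map_smul, smul_mul_assoc, mul_smul_comm, ← smul_sub]
        congr 1
        rw [mul_assoc, ι_mul_ι_comm (a := x) (b := v), mul_sub, ← mul_assoc (ι Q y),
          ι_mul_ι_comm (a := y) (b := v), sub_mul, ← Algebra.commutes, ← Algebra.smul_def,
          ← Algebra.smul_def, QuadraticMap.polar_comm Q x v, QuadraticMap.polar_comm Q y v,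
          mul_assoc]
        abel
      rw [rot_apply, map_add, map_smul, ← h1, add_mul, one_mul, mul_sub, mul_one, add_mul, hsq]
      abel
    | mul a b ha hb =>
      rw [map_mul, ha, hb]
      calc (1 + w) * a * (1 - w) * ((1 + w) * b * (1 - w))
          = (1 + w) * a * ((1 - w) * (1 + w)) * b * (1 - w) := by simp only [mul_assoc]
        _ = _ := by rw [hinv', mul_one]; simp only [mul_assoc]
    | add a b ha hb => rw [map_add, ha, hb, ← add_mul, ← mul_add]
  have hmem : w ∈ CliffordAlgebra.even Q :=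
    Subalgebra.smul_mem _ (show ι Q y * ι Q x ∈ CliffordAlgebra.evenOdd Q 0 by
      simpa using ι_mul_ι_mem_evenOdd_zero Q y x) e
  have hc := congrArg Subtype.val (Subalgebra.mem_center_iff.mp hz ⟨w, hmem⟩)
  simp only [MulMemClass.coe_mul] at hc
  rw [key, show (1 + w) * (z : CliffordAlgebra Q) = (z : CliffordAlgebra Q) * (1 + w) by
    rw [add_mul, one_mul, mul_add, mul_one, hc], mul_assoc, hinv, mul_one]

end Rotation

section DualNumbers

variable {R : Type u} [CommRing R] {M : Type u} [AddCommGroup M] [Module R M] [Module.Free R M]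
  [Module.Finite R M]
variable (Q : QuadraticForm R M)

theorem baseChangeForm_tmul_one (A : Type u) [CommRing A] [Algebra R A] (m : M) :
    QuadGrp.baseChangeForm A Q ((1 : A) ⊗ₜ[R] m) = algebraMap R A (Q m) := by
  simp [QuadGrp.baseChangeForm, QuadGrp.baseChange_tmul, Algebra.smul_def]

theorem polar_baseChangeForm_tmul_one (A : Type u) [CommRing A] [Algebra R A] (m m' : M) :
    QuadraticMap.polar (QuadGrp.baseChangeForm A Q) ((1 : A) ⊗ₜ[R] m) ((1 : A) ⊗ₜ[R] m') =
      algebraMap R A (QuadraticMap.polar Q m m') := by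
  simp only [QuadraticMap.polar, ← TensorProduct.tmul_add, baseChangeForm_tmul_one, map_sub]

theorem mem_O_baseChange_iff (A : Type u) [CommRing A] [Algebra R A]
    (h : (A ⊗[R] M) ≃ₗ[A] (A ⊗[R] M)) :
    h ∈ QuadGrp.O (QuadGrp.baseChangeForm A Q) ↔ h ∈ QuadGrp.orth Q A := by
  refine forall_congr' fun v => ?_
  exact (TensorProduct.AlgebraTensorModule.rid R A A).injective.eq_iff

/-- The infinitesimal rotation over the dual numbers. -/
def dualRot (x y : M) : (R[ε] ⊗[R] M) ≃ₗ[R[ε]] (R[ε] ⊗[R] M) :=
  rot (QuadGrp.baseChangeForm R[ε] Q) DualNumber.eps_mul_eps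
    ((1 : R[ε]) ⊗ₜ[R] x) ((1 : R[ε]) ⊗ₜ[R] y)

theorem dualRot_mem_orth (x y : M) : dualRot Q x y ∈ QuadGrp.orth Q R[ε] :=
  (mem_O_baseChange_iff Q _ _).mp (rot_mem_O _ _ _ _)

theorem dualRot_mem_sorth' (x y : M) : dualRot Q x y ∈ QuadGrp.sorth' Q R[ε] :=
  ⟨dualRot_mem_orth Q x y, rot_det _ _ _ _⟩

theorem dualRot_mem_sorth (x y : M) : dualRot Q x y ∈ QuadGrp.sorth Q R[ε] := by
  unfold QuadGrp.sorth QuadGrp.SO
  split_ifs
  · exact ⟨rot_mem_O _ _ _ _, rot_dickson _ _ _ _⟩
  · exact ⟨rot_mem_O _ _ _ _, rot_det _ _ _ _⟩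

theorem commutes_of_dual {g : M ≃ₗ[R] M}
    (h : ∀ x y : M, g.baseChange R R[ε] M M * dualRot Q x y = dualRot Q x y * g.baseChange R R[ε] M M) :
    Commutes (QuadraticMap.polarBilin Q) g.toLinearMap := by
  intro v x y
  have hrot : ∀ z, dualRot Q x y ((1 : R[ε]) ⊗ₜ[R] z) = (1 : R[ε]) ⊗ₜ[R] z +
      (ε : R[ε]) ⊗ₜ[R] (QuadraticMap.polar Q z x • y - QuadraticMap.polar Q z y • x) := fun z => by
    rw [dualRot, rot_apply, xi_apply, polar_baseChangeForm_tmul_one, polar_baseChangeForm_tmul_one,
      algebraMap_smul, algebraMap_smul, ← TensorProduct.tmul_smul, ← TensorProduct.tmul_smul,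
      ← TensorProduct.tmul_sub, TensorProduct.smul_tmul', smul_eq_mul, mul_one]
  have h1 := LinearEquiv.congr_fun (h x y) ((1 : R[ε]) ⊗ₜ[R] v)
  have hg : ∀ (a : R[ε]) (z : M), g.baseChange R R[ε] M M (a ⊗ₜ[R] z) = a ⊗ₜ[R] g z := fun a z => rfl
  simp only [LinearEquiv.mul_apply, hrot, map_add, hg] at h1
  have h2 := congrArg (fun z => TensorProduct.lid R M
    (LinearMap.rTensor M (TrivSqZeroExt.sndHom R R) z)) h1
  simp only [map_add, LinearMap.rTensor_tmul, TensorProduct.lid_tmul] at h2
  have he1 : TrivSqZeroExt.sndHom R R (ε : R[ε]) = 1 := rfl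
  have he0 : TrivSqZeroExt.sndHom R R (1 : R[ε]) = 0 := rfl
  simp only [he1, he0, zero_smul, one_smul, zero_add] at h2
  simpa [map_sub, map_smul] using h2

end DualNumbers

section Minors

variable {R : Type u} [CommRing R] {M : Type v} [AddCommGroup M] [Module R M]

theorem exists_minor_notMem_of_det {n : ℕ} (hn : 2 ≤ n) (b : Module.Basis (Fin n) R M)
    (Q : QuadraticForm R M) (P : Ideal R) [P.IsMaximal] (hdet : (polarMat b Q).det ∉ P) :
    ∃ v v' p q, minor (QuadraticMap.polarBilin Q) b v v' p q ∉ P := by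
  by_contra hc
  push Not at hc
  letI := Ideal.Quotient.field P
  let π := Ideal.Quotient.mk P
  let A := (polarMat b Q).map π
  have hA : IsUnit A.det := by
    rw [isUnit_iff_ne_zero, show A.det = π (polarMat b Q).det from (RingHom.map_det π _).symm]
    exact fun h0 => hdet (Ideal.Quotient.eq_zero_iff_mem.mp h0)
  have hli := Matrix.linearIndependent_rows_of_isUnit ((Matrix.isUnit_iff_isUnit_det A).mpr hA)
  let i₀ : Fin n := ⟨0, by omega⟩
  let i₁ : Fin n := ⟨1, by omega⟩
  obtain ⟨l, hl⟩ : ∃ l, A i₀ l ≠ 0 := Function.ne_iff.mp (hli.ne_zero i₀)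
  have h01 : i₀ ≠ i₁ := by simp [i₀, i₁, Fin.ext_iff]
  have hrel : A i₁ l • A.row i₀ - A i₀ l • A.row i₁ = 0 := by
    funext c
    have := hc (b i₀) (b i₁) c l
    rw [← Ideal.Quotient.eq_zero_iff_mem] at this
    simp only [minor, QuadraticMap.polarBilin_apply_apply, map_sub, map_mul] at this
    simp only [A, π, Pi.sub_apply, Pi.smul_apply, Matrix.row, Matrix.map_apply, polarMat,
      Matrix.of_apply, smul_eq_mul, Pi.zero_apply]
    linear_combination this
  have hpair := (linearIndependent_fin2.mp (hli.comp ![i₁, i₀] (by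
    intro a c hac
    fin_cases a <;> fin_cases c <;> simp_all [h01.symm])))
  have h2 : A i₀ l • A.row i₁ = A i₁ l • A.row i₀ := (sub_eq_zero.mp hrel).symm
  exact hpair.2 ((A i₀ l)⁻¹ * A i₁ l) (by
    simp only [Function.comp, Matrix.cons_val_one, Matrix.cons_val_zero]
    rw [mul_smul, ← h2, inv_smul_smul₀ hl]) |>.elim

theorem isUnit_det_of_isRegular {n : ℕ} (b : Module.Basis (Fin n) R M) (Q : QuadraticForm R M)
    (hQ : QuadGrp.IsRegular Q) : IsUnit (polarMat b Q).det := by
  choose x hx using fun j => hQ.2 (b.coord j)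
  refine Matrix.isUnit_det_of_left_inverse (B := Matrix.of fun j a => b.repr (x j) a) ?_
  ext j i
  have h := LinearMap.congr_fun (hx j) (b i)
  rw [← b.sum_repr (x j), map_sum, LinearMap.sum_apply, Module.Basis.coord_apply, b.repr_self] at h
  simp only [map_smul, LinearMap.smul_apply, QuadraticMap.polarBilin_apply_apply, smul_eq_mul] at h
  rw [Matrix.mul_apply, Matrix.one_apply]
  simp only [Matrix.of_apply, polarMat]
  rw [h, Finsupp.single_apply]
  simp [eq_comm]

theorem exists_minor_notMem {n : ℕ} (hn : 2 ≤ n) (b : Module.Basis (Fin n) R M)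
    (Q : QuadraticForm R M) (hQ : QuadGrp.IsNondeg b (LinearEquiv.refl R R) Q)
    (P : Ideal R) (hP : P.IsMaximal) :
    ∃ v v' p q, minor (QuadraticMap.polarBilin Q) b v v' p q ∉ P := by
  rcases Nat.even_or_odd n with he | ho
  · exact exists_minor_notMem_of_det hn b Q P fun h =>
      hP.ne_top (P.eq_top_of_isUnit_mem h (isUnit_det_of_isRegular b Q (hQ.1 he)))
  have hu : IsUnit (QuadGrp.halfDisc b (LinearEquiv.refl R R) Q) := hQ.2 ho
  by_cases h2 : (2 : R) ∈ P
  · by_contra hc
    push Not at hc
    refine hP.ne_top (P.eq_top_of_isUnit_mem (halfDisc_mem b Q hn P fun i j => ?_) hu)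
    rcases eq_or_ne i j with rfl | hij
    · rw [QuadraticMap.polar_self]
      simpa [two_smul, two_mul] using P.mul_mem_right (Q (b i)) h2
    · have := hc (b i) (b j) i j
      simp only [minor, QuadraticMap.polarBilin_apply_apply, QuadraticMap.polar_self,
        QuadraticMap.polar_comm Q (b j) (b i)] at this
      refine hP.isPrime.mem_of_pow_mem 2 ?_
      have h4 : (2 • Q (b i)) * (2 • Q (b j)) ∈ P :=
        P.mul_mem_right _ (by simpa [two_smul, two_mul] using P.mul_mem_right (Q (b i)) h2)
      simpa [pow_two] using P.sub_mem h4 this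
  · refine exists_minor_notMem_of_det hn b Q P fun h => ?_
    rw [← two_mul_halfDisc b Q ho] at h
    exact (hP.isPrime.mem_or_mem h).elim h2 fun h => hP.ne_top (P.eq_top_of_isUnit_mem h hu)

theorem scalar_sq_eq_one {n : ℕ} (hn : 2 ≤ n) (b : Module.Basis (Fin n) R M)
    (Q : QuadraticForm R M) (hQ : QuadGrp.IsNondeg b (LinearEquiv.refl R R) Q)
    {g : M ≃ₗ[R] M} (hg : g ∈ QuadGrp.O Q) {c : R} (hc : ∀ z, g z = c • z) : c * c = 1 := by
  by_contra hne
  have key : ∀ v w, (c * c - 1) * QuadraticMap.polar Q v w = 0 := fun v w => by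
    have h1 : QuadraticMap.polar Q (g v) (g w) = QuadraticMap.polar Q v w := by
      simp only [QuadraticMap.polar, ← map_add, hg _]
    rw [hc, hc, QuadraticMap.polar_smul_left, QuadraticMap.polar_smul_right, smul_eq_mul,
      smul_eq_mul] at h1
    linear_combination h1
  let I : Ideal R :=
    { carrier := {x | (c * c - 1) * x = 0}
      add_mem' := fun {x y} hx hy => by
        simp only [Set.mem_setOf_eq] at hx hy ⊢; rw [mul_add, hx, hy, add_zero]
      zero_mem' := mul_zero _
      smul_mem' := fun d x hx => by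
        simp only [Set.mem_setOf_eq, smul_eq_mul] at hx ⊢; rw [mul_left_comm, hx, mul_zero] }
  have hI : I ≠ ⊤ := fun h => hne (sub_eq_zero.mp (by
    have : (c * c - 1) * (1 : R) = 0 := (h ▸ Submodule.mem_top : (1 : R) ∈ I)
    simpa using this))
  obtain ⟨P, hP, hIP⟩ := Ideal.exists_le_maximal I hI
  obtain ⟨v, v', p, q, hD⟩ := exists_minor_notMem hn b Q hQ P hP
  refine hD (hIP ?_)
  show (c * c - 1) * _ = 0
  simp only [minor, QuadraticMap.polarBilin_apply_apply]
  linear_combination QuadraticMap.polar Q v' (b q) * key v (b p) -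
    QuadraticMap.polar Q v' (b p) * key v (b q)

theorem commute_baseChange_of_scalar {R : Type u} [CommRing R] {M : Type u} [AddCommGroup M]
    [Module R M] {g : M ≃ₗ[R] M} {c : R}
    (hc : ∀ z, g z = c • z) (A : Type u) [CommRing A] [Algebra R A]
    (h : (A ⊗[R] M) ≃ₗ[A] (A ⊗[R] M)) :
    g.baseChange R A M M * h = h * g.baseChange R A M M := by
  have hg : ∀ z, g.baseChange R A M M z = algebraMap R A c • z := fun z => by
    induction z with
    | zero => simp
    | add a b ha hb => rw [map_add, ha, hb, smul_add]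
    | tmul a m =>
      show a ⊗ₜ[R] g m = _
      rw [hc, algebraMap_smul, TensorProduct.tmul_smul]
  refine LinearEquiv.ext fun z => ?_
  simp only [LinearEquiv.mul_apply, hg, map_smul]

end Minors

end Groth.Agent.QuadLib

end
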