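import Groth.Agent.QuadLib.Rep
import Groth.Agent.QuadLib.HalfDisc
import Groth.Agent.QuadLib.Infinitesimal
import Mathlib.LinearAlgebra.Matrix.ToLinearEquiv
import Mathlib.RingTheory.Finiteness.Nakayama

/-!
# Orthogonal group schemes as matrix equations; lifting of solutions

`orthEqs`, `sorthEqs` with their `PtData`; the linear algebra behind smoothness: `field_surj`,
`exists_lift_odd`, `exists_lift_regular`.
-/

set_option autoImplicit false
set_option linter.unusedSectionVars false

noncomputable section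

open scoped TensorProduct
open Matrix

universe u v

namespace Groth.Agent.QuadLib

section MatLemmas

variable {n : ℕ} {S : Type*} [CommRing S]

theorem cf_mk (M : Matrix (Fin n) (Fin n) S) (i j : Fin n) :
    cf M s(i, j) = if i = j then M i i else M i j + M j i := rfl

theorem cf_add (M N : Matrix (Fin n) (Fin n) S) : cf (M + N) = cf M + cf N := by
  funext s
  induction s using Sym2.ind with
  | _ i j => by_cases h : i = j <;> simp [cf_mk, h, add_add_add_comm]

theorem cf_smul (a : S) (M : Matrix (Fin n) (Fin n) S) : cf (a • M) = a • cf M := by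
  funext s
  induction s using Sym2.ind with
  | _ i j => by_cases h : i = j <;> simp [cf_mk, h, mul_add]

theorem cf_sub (M N : Matrix (Fin n) (Fin n) S) : cf (M - N) = cf M - cf N := by
  rw [eq_sub_iff_add_eq, ← cf_add, sub_add_cancel]

theorem cf_zero : cf (0 : Matrix (Fin n) (Fin n) S) = 0 := by
  funext s
  induction s using Sym2.ind with
  | _ i j => by_cases h : i = j <;> simp [cf_mk, h]

theorem cf_transpose (M : Matrix (Fin n) (Fin n) S) : cf M.transpose = cf M := by
  funext s
  induction s using Sym2.ind with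
  | _ i j => by_cases h : i = j <;> simp [cf_mk, h, add_comm]

/-- An upper triangular matrix with prescribed coefficients. -/
def ut (c : Sym2 (Fin n) → S) : Matrix (Fin n) (Fin n) S :=
  Matrix.of fun i j => if i ≤ j then c s(i, j) else 0

theorem cf_ut (c : Sym2 (Fin n) → S) : cf (ut c) = c := by
  funext s
  induction s using Sym2.ind with
  | _ i j =>
    rcases lt_trichotomy i j with h | rfl | h
    · simp [cf_mk, ut, h.ne, h.le, h.not_ge]
    · simp [cf_mk, ut]
    · simp [cf_mk, ut, h.ne', h.le, h.not_ge, Sym2.eq_swap]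

theorem ut_mem (c : Sym2 (Fin n) → S) (I : Ideal S) (hc : ∀ s, c s ∈ I) (i j : Fin n) :
    ut c i j ∈ I := by
  simp only [ut, Matrix.of_apply]
  split_ifs
  exacts [hc _, I.zero_mem]

theorem qv_transpose_mul_mul (G M : Matrix (Fin n) (Fin n) S) (x : Fin n → S) :
    (G *ᵥ x) ⬝ᵥ (M *ᵥ (G *ᵥ x)) = x ⬝ᵥ ((G.transpose * M * G) *ᵥ x) := by
  rw [← Matrix.mulVec_mulVec, ← Matrix.mulVec_mulVec, Matrix.dotProduct_mulVec x G.transpose,
    Matrix.vecMul_transpose]

theorem qv_eq_zero_iff (M : Matrix (Fin n) (Fin n) S) :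
    (∀ x : Fin n → S, x ⬝ᵥ (M *ᵥ x) = 0) ↔ cf M = 0 := by
  constructor
  · intro h
    have hd : ∀ i, M i i = 0 := fun i => by
      simpa [Matrix.mulVec_single_one, single_one_dotProduct] using h (Pi.single i 1)
    funext s
    induction s using Sym2.ind with
    | _ i j =>
      rw [cf_mk, Pi.zero_apply]
      split_ifs with hij
      · exact hd i
      · have := h (Pi.single i 1 + Pi.single j 1)
        simp only [Matrix.mulVec_add, add_dotProduct, dotProduct_add, Matrix.mulVec_single_one,
          single_one_dotProduct, Matrix.col_apply, hd, zero_add, add_zero] at this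
        linear_combination this
  · intro h x
    simp only [dotProduct, Matrix.mulVec, Finset.mul_sum]
    rw [← Fintype.sum_prod_type']
    refine Finset.sum_involution (fun p _ => p.swap) (fun p _ => ?_) (fun p _ hne he => hne ?_)
      (fun p _ => Finset.mem_univ _) (fun p _ => Prod.swap_swap p)
    · have := congrFun h s(p.1, p.2)
      rw [cf_mk, Pi.zero_apply] at this
      split_ifs at this with hp
      · rw [Prod.fst_swap, Prod.snd_swap, ← hp, this]
        ring
      · simp only [Prod.fst_swap, Prod.snd_swap]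
        linear_combination x p.1 * x p.2 * this
    · obtain ⟨i, j⟩ := p
      obtain rfl : j = i := congrArg Prod.fst he
      have := congrFun h s(j, j)
      rw [cf_mk, Pi.zero_apply, if_pos rfl] at this
      simp [this]

theorem mul_pow_one_add {c : S} (hc : c * c = 0) (k : ℕ) : (1 + c) ^ k = 1 + k * c := by
  induction k with
  | zero => simp
  | succ k ih => rw [pow_succ, ih]; push_cast; linear_combination (k : S) * hc

theorem mul_eq_zero_of_sq {I : Ideal S} (hI : I ^ 2 = ⊥) {a b : S} (ha : a ∈ I) (hb : b ∈ I) :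
    a * b = 0 := by
  have : a * b ∈ I ^ 2 := by rw [pow_two]; exact Ideal.mul_mem_mul ha hb
  rwa [hI, Ideal.mem_bot] at this

theorem det_one_add_of_sq {I : Ideal S} (hI : I ^ 2 = ⊥) (η : Matrix (Fin n) (Fin n) S)
    (hη : ∀ i j, η i j ∈ I) : (1 + η).det = 1 + η.trace := by
  rw [Matrix.det_apply', Finset.sum_eq_single (1 : Equiv.Perm (Fin n))]
  · simp only [Equiv.Perm.sign_one, Units.val_one, Int.cast_one, one_mul, Equiv.Perm.coe_one, id,
      Matrix.add_apply, Matrix.one_apply_eq, Matrix.trace, Matrix.diag_apply]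
    suffices ∀ t : Finset (Fin n), ∏ i ∈ t, (1 + η i i) = 1 + ∑ i ∈ t, η i i from this _
    intro t
    induction t using Finset.induction_on with
    | empty => simp
    | insert a t ha ih =>
      rw [Finset.prod_insert ha, Finset.sum_insert ha, ih]
      linear_combination mul_eq_zero_of_sq hI (hη a a)
        (I.sum_mem (fun i _ => hη i i) : (∑ i ∈ t, η i i) ∈ I)
  · intro σ _ hσ
    obtain ⟨i, hi⟩ : ∃ i, σ i ≠ i := not_forall.mp fun h => hσ (Equiv.ext h)
    have hi2 : σ (σ i) ≠ σ i := fun h => hi (σ.injective h)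
    rw [← Finset.mul_prod_erase _ _ (Finset.mem_univ i), ← Finset.mul_prod_erase _ _
      (Finset.mem_erase.mpr ⟨hi, Finset.mem_univ (σ i)⟩)]
    simp only [Matrix.add_apply, Matrix.one_apply_ne hi, Matrix.one_apply_ne hi2, zero_add]
    rw [← mul_assoc (η (σ i) i), mul_eq_zero_of_sq hI (hη _ _) (hη _ _), zero_mul, mul_zero]
  · intro h; exact absurd (Finset.mem_univ _) h

theorem transpose_pm_cf (M : Matrix (Fin n) (Fin n) S) :
    (M + M.transpose).transpose = M + M.transpose := by
  rw [Matrix.transpose_add, Matrix.transpose_transpose, add_comm]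

/-- First order change of the coefficients. -/
theorem cf_correct {I : Ideal S} (hI : I ^ 2 = ⊥) (B G η : Matrix (Fin n) (Fin n) S)
    (hη : ∀ i j, η i j ∈ I) (hδ : ∀ s, cf (G.transpose * B * G) s - cf B s ∈ I) :
    cf ((G * (1 + η)).transpose * B * (G * (1 + η))) =
      cf (G.transpose * B * G) + cf ((B + B.transpose) * η) := by
  set K := G.transpose * B * G with hK
  have e : (G * (1 + η)).transpose * B * (G * (1 + η)) =
      K + (η.transpose * K + K * η) + η.transpose * K * η := by
    rw [hK, Matrix.transpose_mul, Matrix.transpose_add, Matrix.transpose_one]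
    noncomm_ring
  have h0 : η.transpose * K * η = 0 := by
    ext i j
    rw [Matrix.mul_apply]
    refine Finset.sum_eq_zero fun k _ => mul_eq_zero_of_sq hI ?_ (hη k j)
    rw [Matrix.mul_apply]
    exact I.sum_mem fun l _ => I.mul_mem_right _ (hη l i)
  have h1 : (K + K.transpose) * η = (B + B.transpose) * η := by
    rw [← sub_eq_zero, ← Matrix.sub_mul, ← pm_cf, ← pm_cf]
    ext i j
    rw [Matrix.mul_apply, Matrix.zero_apply]
    refine Finset.sum_eq_zero fun k _ => mul_eq_zero_of_sq hI ?_ (hη k j)
    simp only [pm, Matrix.sub_apply, Matrix.of_apply]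
    split_ifs
    · rw [← mul_sub]; exact I.mul_mem_left _ (hδ _)
    · exact hδ _
  rw [e, h0, add_zero, cf_add, cf_add]
  congr 1
  rw [← cf_transpose (η.transpose * K), Matrix.transpose_mul, Matrix.transpose_transpose, ← cf_add,
    ← Matrix.add_mul, add_comm, h1]

theorem hd_row (hn : Odd n) (c : Sym2 (Fin n) → S) (i : Fin n) (hc : ∀ j, j ≠ i → c s(i, j) = 0) :
    hd c = c s(i, i) * ((pm c).updateRow i (Pi.single i 1)).det := by
  let U := MvPolynomial (Sym2 (Fin n)) ℤ
  let c₀ : Sym2 (Fin n) → U := fun s => if i ∈ s ∧ s ≠ s(i, i) then 0 else MvPolynomial.X s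
  have hrow : (pm c₀) i = (2 * c₀ s(i, i)) • (Pi.single i 1 : Fin n → U) := by
    funext j
    rcases eq_or_ne i j with rfl | hj
    · simp [pm]
    · simp [pm, c₀, hj, Ne.symm hj]
  have key : hd c₀ = c₀ s(i, i) * ((pm c₀).updateRow i (Pi.single i 1)).det := by
    refine mul_left_cancel₀ (fun h => by
      simpa [map_ofNat] using congrArg (MvPolynomial.eval fun _ => (0 : ℤ)) h : (2 : U) ≠ 0) ?_
    rw [two_mul_hd hn, ← mul_assoc, ← Matrix.det_updateRow_smul, ← hrow, Matrix.updateRow_eq_self]
  let f : U →+* S := MvPolynomial.eval₂Hom (Int.castRingHom S) c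
  have hf : f ∘ c₀ = c := by
    funext s
    simp only [Function.comp_apply, c₀]
    split_ifs with h
    · obtain ⟨h1, h2⟩ := h
      obtain ⟨j, rfl⟩ := h1
      rw [map_zero, hc j (fun e => h2 (by rw [e]))]
    · exact MvPolynomial.eval₂Hom_X' _ _ _
  have h := congrArg f key
  rw [map_hd, hf, map_mul, RingHom.map_det, RingHom.mapMatrix_apply, Matrix.map_updateRow] at h
  rw [h, show f (c₀ s(i, i)) = c s(i, i) from congrFun hf _]
  congr 3
  · rw [← hf]; ext a b; simp [pm, apply_ite f, map_ofNat]
  · funext j; simp [Pi.single_apply, apply_ite f]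

theorem hd_smul (hn : Odd n) (a : S) (c : Sym2 (Fin n) → S) : hd (a • c) = a ^ n * hd c := by
  let U := MvPolynomial (Option (Sym2 (Fin n))) ℤ
  let c₀ : Sym2 (Fin n) → U := fun s => MvPolynomial.X (some s)
  let a₀ : U := MvPolynomial.X none
  have key : hd (a₀ • c₀) = a₀ ^ n * hd c₀ := by
    refine mul_left_cancel₀ (fun h => by
      simpa [map_ofNat] using congrArg (MvPolynomial.eval fun _ => (0 : ℤ)) h : (2 : U) ≠ 0) ?_
    rw [two_mul_hd hn, mul_left_comm, two_mul_hd hn,
      show pm (a₀ • c₀) = a₀ • pm c₀ by ext i j; by_cases h : i = j <;> simp [pm, h, mul_left_comm],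
      Matrix.det_smul, Fintype.card_fin]
  let f : U →+* S := MvPolynomial.eval₂Hom (Int.castRingHom S) (fun o => o.elim a c)
  have h := congrArg f key
  rw [map_hd, map_mul, map_pow, map_hd] at h
  have hf : ∀ o, f (MvPolynomial.X o) = o.elim a c := fun o => MvPolynomial.eval₂Hom_X' _ _ _
  have h1 : f ∘ (a₀ • c₀) = a • c := funext fun s => by
    show f (a₀ * c₀ s) = a * c s
    rw [map_mul, hf, hf]
    rfl
  have h2 : f ∘ c₀ = c := funext fun s => hf (some s)
  rwa [h1, h2, show f a₀ = a from hf none] at h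

end MatLemmas

section Field

variable {n : ℕ} {k : Type*} [Field k]

/-- Surjectivity of the linearised equations over a field. -/
theorem field_surj (m : ℕ) (hn : n = 2 * m + 1) (B : Matrix (Fin n) (Fin n) k) (hB : hd (cf B) ≠ 0)
    (w : Option (Sym2 (Fin n)) → k) :
    ∃ (η : Matrix (Fin n) (Fin n) k) (c : k),
      cf ((B + B.transpose) * η) + c • cf B = (fun s => w (some s)) ∧
        η.trace + c * (m : k) = w none := by
  have hodd : Odd n := ⟨m, hn⟩
  have hdet : 2 * hd (cf B) = (B + B.transpose).det := by rw [two_mul_hd hodd, pm_cf]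
  set P := B + B.transpose with hP
  let w' : Sym2 (Fin n) → k := fun s => w (some s)
  by_cases h2 : (2 : k) = 0
  · -- characteristic two
    obtain ⟨r, hr0, hr⟩ := Matrix.exists_mulVec_eq_zero_iff.mpr
      (show P.det = 0 by rw [← hdet, h2, zero_mul])
    obtain ⟨i, hi⟩ := Function.ne_iff.mp hr0
    rw [Pi.zero_apply] at hi
    let G : Matrix (Fin n) (Fin n) k := (1 : Matrix (Fin n) (Fin n) k).updateCol i r
    have hGd : G.det = r i := by
      rw [← Matrix.cramer_apply, Matrix.cramer_one]
      rfl
    have hGr : ∀ a, G a i = r a := fun a => by simp [G]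
    have hGrow : ∀ v : Fin n → k, (G.transpose *ᵥ v) i = r ⬝ᵥ v := fun v => by
      simp [Matrix.mulVec, dotProduct, hGr]
    let K := G.transpose * B * G
    have hQ : G.transpose * P * G = pm (cf K) := by
      rw [pm_cf, hP]
      simp only [K, Matrix.transpose_mul, Matrix.transpose_transpose, Matrix.mul_add, Matrix.add_mul,
        Matrix.mul_assoc]
    have hPr : r ᵥ* P = 0 := by rw [← hr, ← Matrix.mulVec_transpose, transpose_pm_cf]
    have hQrow : ∀ j, (G.transpose * P * G) i j = 0 := fun j => by
      rw [Matrix.mul_apply]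
      refine Finset.sum_eq_zero fun a _ => ?_
      rw [show (G.transpose * P) i a = (r ᵥ* P) a by simp [Matrix.mul_apply, Matrix.vecMul,
        dotProduct, hGr], hPr, Pi.zero_apply, zero_mul]
    have hrow : ∀ j, j ≠ i → cf K s(i, j) = 0 := fun j hj => by
      have := hQrow j
      rwa [hQ, pm, Matrix.of_apply, if_neg (Ne.symm hj)] at this
    set M' := (pm (cf K)).updateRow i (Pi.single i 1) with hM'
    have hne : cf K s(i, i) * M'.det ≠ 0 := by
      rw [hM', ← hd_row hodd (cf K) i hrow, hd_cf_congr hodd, hGd]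
      exact mul_ne_zero (pow_ne_zero _ hi) hB
    have hq : cf K s(i, i) = r ⬝ᵥ (B *ᵥ r) := by
      rw [cf_mk, if_pos rfl]
      simp [K, Matrix.mul_apply, Matrix.mulVec, dotProduct, hGr, Finset.mul_sum, Finset.sum_mul,
        mul_assoc]
    have hq0 : r ⬝ᵥ (B *ᵥ r) ≠ 0 := hq ▸ left_ne_zero_of_mul hne
    let c := r ⬝ᵥ (ut w' *ᵥ r) / (r ⬝ᵥ (B *ᵥ r))
    let U₁ := ut w' - c • B
    let v := r ᵥ* U₁
    have hv : v ⬝ᵥ r = 0 := by
      simp only [v, ← Matrix.dotProduct_mulVec, U₁, Matrix.sub_mulVec, Matrix.smul_mulVec,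
        dotProduct_sub, dotProduct_smul, smul_eq_mul]
      rw [show c * (r ⬝ᵥ (B *ᵥ r)) = r ⬝ᵥ (ut w' *ᵥ r) from div_mul_cancel₀ _ hq0, sub_self]
    let A : Matrix (Fin n) (Fin n) k :=
      (r i)⁻¹ • (Matrix.vecMulVec (Pi.single i 1) v - Matrix.vecMulVec v (Pi.single i 1))
    have hA : cf A = 0 := by
      rw [show A = (r i)⁻¹ • (Matrix.vecMulVec (Pi.single i 1) v -
        (Matrix.vecMulVec (Pi.single i 1) v).transpose) by simp [A, Matrix.transpose_vecMulVec],
        cf_smul, cf_sub, cf_transpose, sub_self, smul_zero]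
    have hAr : r ᵥ* A = v := by
      have e1 : r ᵥ* Matrix.vecMulVec (Pi.single i 1) v = r i • v := by
        rw [Matrix.vecMul_vecMulVec, dotProduct_single_one]
      have e2 : r ᵥ* Matrix.vecMulVec v (Pi.single i 1) = 0 := by
        rw [Matrix.vecMul_vecMulVec, dotProduct_comm, hv, zero_smul]
      rw [Matrix.vecMul_smul, Matrix.vecMul_sub, e1, e2, sub_zero, smul_smul, inv_mul_cancel₀ hi,
        one_smul]
    let U := U₁ - A
    have hU : r ᵥ* U = 0 := by rw [Matrix.vecMul_sub, hAr, sub_self]
    have hcfU : cf U + c • cf B = w' := by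
      rw [cf_sub, hA, sub_zero, cf_sub, cf_smul, cf_ut, sub_add_cancel]
    let u := M'⁻¹ * (G.transpose * U)
    have hMu : M' * u = G.transpose * U :=
      Matrix.mul_nonsing_inv_cancel_left _ _ (isUnit_iff_ne_zero.mpr (right_ne_zero_of_mul hne))
    have hrowU : ∀ j, (G.transpose * U) i j = 0 := fun j => by
      have := congrFun hU j
      simpa [Matrix.mul_apply, Matrix.vecMul, dotProduct, hGr] using this
    have hPu : P * (G * u) = U := by
      have hGu : IsUnit G.transpose.det := by
        rw [Matrix.det_transpose, hGd]; exact isUnit_iff_ne_zero.mpr hi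
      refine ((Matrix.isUnit_iff_isUnit_det _).mpr hGu).mul_left_cancel ?_
      rw [← Matrix.mul_assoc, ← Matrix.mul_assoc, hQ]
      ext a j
      rcases eq_or_ne a i with rfl | ha
      · rw [hrowU, Matrix.mul_apply]
        refine Finset.sum_eq_zero fun b _ => ?_
        rw [← hQ, hQrow, zero_mul]
      · rw [← hMu, Matrix.mul_apply, Matrix.mul_apply]
        simp [hM', Matrix.updateRow_ne ha]
    let t := w none - c * (m : k) - (G * u).trace
    refine ⟨G * u + Matrix.vecMulVec r (Pi.single i (t / r i)), c, ?_, ?_⟩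
    · rw [Matrix.mul_add, hPu, Matrix.mul_vecMulVec, hr, Matrix.zero_vecMulVec, add_zero]
      exact hcfU
    · rw [Matrix.trace_add, Matrix.trace_vecMulVec, dotProduct_single, mul_div_cancel₀ _ hi]
      ring
  · -- odd characteristic
    have hPu : IsUnit P.det := isUnit_iff_ne_zero.mpr (hdet ▸ mul_ne_zero h2 hB)
    let η₁ := P⁻¹ * ut w'
    let c := 2 * (η₁.trace - w none)
    refine ⟨η₁ - (c / 2) • (1 : Matrix (Fin n) (Fin n) k), c, ?_, ?_⟩
    · rw [Matrix.mul_sub, Matrix.mul_nonsing_inv_cancel_left _ _ hPu, Matrix.mul_smul, mul_one,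
        cf_sub, cf_smul, cf_ut, hP, cf_add, cf_transpose, ← two_smul k (cf B), smul_smul,
        div_mul_cancel₀ _ h2, sub_add_cancel]
    · have hnk : (n : k) = 2 * (m : k) + 1 := by rw [hn]; push_cast; rfl
      rw [Matrix.trace_sub, Matrix.trace_smul, Matrix.trace_one, Fintype.card_fin, hnk, smul_eq_mul]
      simp only [c]
      field_simp
      ring

end Field

section Global

variable {n : ℕ} {R : Type u} [CommRing R]

/-- The linearised equations. -/
def lin (B : Matrix (Fin n) (Fin n) R) :
    Matrix (Fin n) (Fin n) R →ₗ[R] (Option (Sym2 (Fin n)) → R) where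
  toFun η := fun o => o.elim η.trace (cf ((B + B.transpose) * η))
  map_add' x y := by
    funext o; cases o <;> simp [Matrix.mul_add, cf_add]
  map_smul' a x := by
    funext o; cases o <;> simp [cf_smul]

/-- The extra direction. -/
def extra (m : ℕ) (B : Matrix (Fin n) (Fin n) R) : Option (Sym2 (Fin n)) → R :=
  fun o => o.elim (m : R) (cf B)

theorem global_surj (m : ℕ) (hn : n = 2 * m + 1) (B : Matrix (Fin n) (Fin n) R)
    (hB : IsUnit (hd (cf B))) (w : Option (Sym2 (Fin n)) → R) :
    ∃ (η : Matrix (Fin n) (Fin n) R) (c : R), lin B η + c • extra m B = w := by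
  let N := LinearMap.range (lin B) ⊔ Submodule.span R {extra m B}
  suffices hN : N = ⊤ by
    have hw : w ∈ N := hN ▸ Submodule.mem_top
    obtain ⟨a, ⟨η, rfl⟩, b, hb, hab⟩ := Submodule.mem_sup.mp hw
    obtain ⟨c, rfl⟩ := Submodule.mem_span_singleton.mp hb
    exact ⟨η, c, hab⟩
  let J : Ideal R := Submodule.annihilator (⊤ : Submodule R ((Option (Sym2 (Fin n)) → R) ⧸ N))
  have hJ : J = ⊤ := by
    by_contra hJ
    obtain ⟨p, hp, hJp⟩ := Ideal.exists_le_maximal J hJ
    letI := Ideal.Quotient.field p
    have hmem : ∀ v : Option (Sym2 (Fin n)) → R,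
        (Submodule.Quotient.mk v : _ ⧸ N) ∈ p • (⊤ : Submodule R (_ ⧸ N)) := by
      intro v
      let π := Ideal.Quotient.mk p
      have hBk : hd (cf (B.map π)) ≠ 0 := by
        rw [← map_cf, ← map_hd]
        exact (hB.map π).ne_zero
      obtain ⟨η, c, h1, h2⟩ := field_surj m hn (B.map π) hBk (π ∘ v)
      obtain ⟨η', rfl⟩ : ∃ η' : Matrix (Fin n) (Fin n) R, η'.map π = η := by
        choose f hf using fun a b => Ideal.Quotient.mk_surjective (η a b)
        exact ⟨Matrix.of f, by ext a b; exact hf a b⟩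
      obtain ⟨c', rfl⟩ := Ideal.Quotient.mk_surjective c
      have hz : ∀ o, π ((v - (lin B η' + c' • extra m B)) o) = 0 := by
        intro o
        have e : ((B + B.transpose) * η').map π = (B.map π + (B.map π).transpose) * η'.map π := by
          rw [Matrix.map_mul, Matrix.map_add _ (map_add π), Matrix.transpose_map]
        have e' : π η'.trace = (η'.map π).trace := by simp [Matrix.trace, map_sum]
        cases o with
        | none =>
          show π (v none - (η'.trace + c' * (m : R))) = 0
          rw [map_sub, map_add, map_mul, map_natCast, e', sub_eq_zero]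
          exact h2.symm
        | some s =>
          have := congrFun h1 s
          rw [← e, ← map_cf, ← map_cf] at this
          show π (v (some s) - (cf ((B + B.transpose) * η') s + c' * cf B s)) = 0
          rw [map_sub, map_add, map_mul, sub_eq_zero]
          exact this.symm
      have hd' : (Submodule.Quotient.mk v : _ ⧸ N) =
          Submodule.Quotient.mk (v - (lin B η' + c' • extra m B)) := by
        rw [Submodule.Quotient.eq, sub_sub_cancel]
        exact N.add_mem (Submodule.mem_sup_left ⟨η', rfl⟩)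
          (Submodule.mem_sup_right (Submodule.smul_mem _ _ (Submodule.subset_span rfl)))
      rw [hd', pi_eq_sum_univ (v - (lin B η' + c' • extra m B)), ← Submodule.mkQ_apply, map_sum]
      refine Submodule.sum_mem _ fun o _ => ?_
      rw [map_smul]
      exact Submodule.smul_mem_smul (Ideal.Quotient.eq_zero_iff_mem.mp (hz o)) Submodule.mem_top
    obtain ⟨r, hr1, hr⟩ := Submodule.exists_sub_one_mem_and_smul_eq_zero_of_fg_of_le_smul p
      (⊤ : Submodule R ((Option (Sym2 (Fin n)) → R) ⧸ N)) Module.Finite.fg_top (fun x _ => by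
        obtain ⟨v, rfl⟩ := Submodule.Quotient.mk_surjective N x
        exact hmem v)
    refine hp.ne_top ((Ideal.eq_top_iff_one p).mpr ?_)
    simpa using p.sub_mem (hJp (Submodule.mem_annihilator.mpr hr)) hr1
  refine eq_top_iff.mpr fun v _ => ?_
  have h1 : (1 : R) ∈ J := hJ ▸ Submodule.mem_top
  have := Submodule.mem_annihilator.mp h1 (Submodule.Quotient.mk v) Submodule.mem_top
  rwa [one_smul, Submodule.Quotient.mk_eq_zero] at this

end Global

section Lift

variable {n : ℕ} {R : Type u} [CommRing R] {S : Type v} [CommRing S] (f : R →+* S)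

/-- Lifting when the polar form is regular. -/
theorem exists_lift_regular {I : Ideal S} (hI : I ^ 2 = ⊥) (B G : Matrix (Fin n) (Fin n) S)
    (hP : IsUnit (B + B.transpose).det) (hδ : ∀ s, cf (G.transpose * B * G) s - cf B s ∈ I) :
    ∃ η : Matrix (Fin n) (Fin n) S, (∀ i j, η i j ∈ I) ∧
      cf ((G * (1 + η)).transpose * B * (G * (1 + η))) = cf B := by
  let δ := cf (G.transpose * B * G) - cf B
  let η := (B + B.transpose)⁻¹ * ut (-δ)
  have hη : ∀ i j, η i j ∈ I := fun i j => by
    simp only [η, Matrix.mul_apply]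
    exact I.sum_mem fun l _ => I.mul_mem_left _ (ut_mem _ _ (fun s => I.neg_mem (hδ s)) _ _)
  refine ⟨η, hη, ?_⟩
  rw [cf_correct hI B G η hη hδ, Matrix.mul_nonsing_inv_cancel_left _ _ hP, cf_ut]
  simp [δ]

/-- Lifting in odd rank with determinant one. -/
theorem exists_lift_odd (m : ℕ) (hn : n = 2 * m + 1) (B₀ : Matrix (Fin n) (Fin n) R)
    (hB₀ : IsUnit (hd (cf B₀))) {I : Ideal S} (hI : I ^ 2 = ⊥) (G : Matrix (Fin n) (Fin n) S)
    (hδ : ∀ s, cf (G.transpose * B₀.map f * G) s - cf (B₀.map f) s ∈ I) (ht : G.det - 1 ∈ I) :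
    ∃ η : Matrix (Fin n) (Fin n) S, (∀ i j, η i j ∈ I) ∧
      cf ((G * (1 + η)).transpose * B₀.map f * (G * (1 + η))) = cf (B₀.map f) ∧
        (G * (1 + η)).det = 1 := by
  choose ηk ck hk using fun o : Option (Sym2 (Fin n)) =>
    global_surj m hn B₀ hB₀ (Pi.single o 1)
  set B := B₀.map f with hB
  let w : Option (Sym2 (Fin n)) → S := fun o =>
    o.elim (G.det - 1) (fun s => cf (G.transpose * B * G) s - cf B s)
  have hw : ∀ o, w o ∈ I := fun o => by cases o; exacts [ht, hδ _]
  let η : Matrix (Fin n) (Fin n) S := -∑ o, w o • (ηk o).map f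
  let c : S := ∑ o, w o * f (ck o)
  have hη : ∀ i j, η i j ∈ I := fun i j => by
    simp only [η, Matrix.neg_apply, Matrix.sum_apply, Matrix.smul_apply, smul_eq_mul]
    exact I.neg_mem (I.sum_mem fun o _ => I.mul_mem_right _ (hw o))
  have hc : c ∈ I := I.sum_mem fun o _ => I.mul_mem_right _ (hw o)
  have hlinf : ∀ η₀ : Matrix (Fin n) (Fin n) R, ∀ o, f (lin B₀ η₀ o) = lin B (η₀.map f) o := by
    intro η₀ o
    cases o with
    | none => simp [lin, Matrix.trace, map_sum]
    | some s =>
      show f (cf _ s) = cf _ s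
      rw [hB, ← Matrix.transpose_map, ← Matrix.map_add _ (map_add f), ← Matrix.map_mul, ← map_cf]
      rfl
  have hlin : lin B η = -w + c • extra m B := by
    funext o
    have hsum : lin B η o = -∑ o', w o' * lin B ((ηk o').map f) o := by
      simp [η, map_neg, map_sum, Finset.sum_apply]
    rw [hsum, Pi.add_apply, Pi.neg_apply, Pi.smul_apply, smul_eq_mul, Finset.sum_mul,
      show w o = ∑ o', w o' * f ((Pi.single o' 1 : Option (Sym2 (Fin n)) → R) o) by
        simp [Pi.single_apply, apply_ite f], ← Finset.sum_neg_distrib, ← Finset.sum_neg_distrib,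
      ← Finset.sum_add_distrib]
    refine Finset.sum_congr rfl fun o' _ => ?_
    rw [← hk o', Pi.add_apply, Pi.smul_apply, smul_eq_mul, map_add, map_mul, hlinf,
      show f (extra m B₀ o) = extra m B o by
        cases o with
        | none => simp [extra]
        | some s => exact congrFun (map_cf f B₀) s]
    ring
  have hcf : cf ((G * (1 + η)).transpose * B * (G * (1 + η))) = (1 + c) • cf B := by
    rw [cf_correct hI B G η hη hδ]
    funext s
    have := congrFun hlin (some s)
    simp only [lin, LinearMap.coe_mk, AddHom.coe_mk, Option.elim_some, extra, w, Pi.add_apply,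
      Pi.neg_apply, Pi.smul_apply, smul_eq_mul] at this
    rw [Pi.add_apply, Pi.smul_apply, this, smul_eq_mul]
    ring
  have htr : η.trace ∈ I := I.sum_mem fun i _ => hη i i
  have hdet : (G * (1 + η)).det = 1 + (m : S) * c := by
    have := congrFun hlin none
    simp only [lin, LinearMap.coe_mk, AddHom.coe_mk, Option.elim_none, extra, w, Pi.add_apply,
      Pi.neg_apply, Pi.smul_apply, smul_eq_mul] at this
    rw [Matrix.det_mul, det_one_add_of_sq hI η hη]
    linear_combination this + mul_eq_zero_of_sq hI ht htr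
  have hodd : Odd n := ⟨m, hn⟩
  have hc0 : c = 0 := by
    have h1 := hd_cf_congr hodd (G * (1 + η)) B
    rw [hcf, hd_smul hodd, hdet] at h1
    have hu : IsUnit (hd (cf B)) := by
      rw [hB, ← map_cf, ← map_hd]; exact hB₀.map f
    have h2 := hu.mul_right_cancel h1
    have hcc := mul_eq_zero_of_sq hI hc hc
    rw [mul_pow_one_add hcc, hn] at h2
    push_cast at h2
    linear_combination h2 + (m : S) ^ 2 * hcc
  refine ⟨η, hη, ?_, ?_⟩
  · rw [hcf, hc0, add_zero, one_smul]
  · rw [hdet, hc0, mul_zero, add_zero]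

end Lift

section Points

variable {R : Type u} [CommRing R] {M : Type u} [AddCommGroup M] [Module R M] {n : ℕ}
variable (b : Module.Basis (Fin n) R M)

/-- Points of matrix equations as linear automorphisms. -/
def ptData {κ : Type} [Finite κ] (Eq : MatEqs R n κ)
    (S : ∀ (A : Type u) [CommRing A] [Algebra R A], Subgroup ((A ⊗[R] M) ≃ₗ[A] (A ⊗[R] M)))
    (h : ∀ (A : Type u) [CommRing A] [Algebra R A] (g : (A ⊗[R] M) ≃ₗ[A] (A ⊗[R] M)),
      g ∈ S A ↔ ∀ s, Eq.E A (LinearMap.toMatrix (b.baseChange A) (b.baseChange A) g.toLinearMap) s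
        = 0) :
    PtData S Eq.Coord where
  Φ A _ _ := (Eq.equiv A).trans
    { toFun := fun G => ⟨Matrix.toLinearEquiv (b.baseChange A) G.1 G.2.1, (h A _).mpr fun s => by
        have e : (Matrix.toLinearEquiv (b.baseChange A) G.1 G.2.1).toLinearMap =
          Matrix.toLin (b.baseChange A) (b.baseChange A) G.1 := LinearMap.ext fun _ => rfl
        rw [e, LinearMap.toMatrix_toLin]
        exact G.2.2 s⟩
      invFun := fun g => ⟨LinearMap.toMatrix (b.baseChange A) (b.baseChange A) g.1.toLinearMap,
        LinearEquiv.isUnit_det g.1 _ _, (h A _).mp g.2⟩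
      left_inv := fun G => Subtype.ext (LinearMap.toMatrix_toLin _ _ G.1)
      right_inv := fun g => Subtype.ext (LinearEquiv.ext fun z =>
        LinearMap.congr_fun (Matrix.toLin_toMatrix _ _ g.1.toLinearMap) z) }
  nat A B _ _ _ _ φ ψ m := by
    show Matrix.toLin (b.baseChange B) (b.baseChange B) (Eq.equiv B (φ.comp ψ)).1 (1 ⊗ₜ[R] m) =
      LinearMap.rTensor M φ.toLinearMap
        (Matrix.toLin (b.baseChange A) (b.baseChange A) (Eq.equiv A ψ).1 (1 ⊗ₜ[R] m))
    rw [Eq.equiv_comp]
    have key : ((Matrix.toLin (b.baseChange B) (b.baseChange B)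
          ((Eq.equiv A ψ).1.map φ)).restrictScalars R).comp (TensorProduct.mk R B M 1) =
        ((LinearMap.rTensor M φ.toLinearMap).comp
          ((Matrix.toLin (b.baseChange A) (b.baseChange A) (Eq.equiv A ψ).1).restrictScalars R)).comp
            (TensorProduct.mk R A M 1) := by
      refine b.ext fun j => ?_
      simp only [LinearMap.comp_apply, LinearMap.restrictScalars_apply, TensorProduct.mk_apply,
        ← Module.Basis.baseChange_apply, Matrix.toLin_self, map_sum, Matrix.map_apply]
      refine Finset.sum_congr rfl fun i _ => ?_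
      simp [Module.Basis.baseChange_apply, TensorProduct.smul_tmul', LinearMap.rTensor_tmul]
    exact LinearMap.congr_fun key m

variable [Module.Free R M] (Q : QuadraticForm R M)

/-- The matrix of the chosen bilinear lift. -/
def liftMat : Matrix (Fin n) (Fin n) R := Matrix.of fun i j => QuadGrp.bilinLift Q (b i) (b j)

theorem coeffs_eq_cf : QuadGrp.coeffs b (LinearEquiv.refl R R) Q = cf (liftMat b Q) := by
  funext s
  induction s using Sym2.ind with
  | _ i j =>
    conv_lhs => rw [← QuadGrp.bilinLift_spec Q]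
    rcases eq_or_ne i j with rfl | h
    · simp [QuadGrp.coeffs_mk, cf_mk, liftMat]
    · simp [QuadGrp.coeffs_mk, cf_mk, liftMat, h, LinearMap.BilinMap.polar_toQuadraticMap]

theorem polarMat_eq : polarMat b Q = liftMat b Q + (liftMat b Q).transpose := by
  rw [← pm_coeffs, coeffs_eq_cf, pm_cf]

theorem isUnit_hd_liftMat (h : QuadGrp.IsSemiregular b (LinearEquiv.refl R R) Q) :
    IsUnit (hd (cf (liftMat b Q))) := by
  rw [← coeffs_eq_cf, ← halfDisc_eq_hd]
  exact h

theorem baseChangeForm_eq (A : Type u) [CommRing A] [Algebra R A] (v : A ⊗[R] M) :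
    QuadGrp.baseChangeForm A Q v = ((b.baseChange A).repr v : Fin n → A) ⬝ᵥ
      ((liftMat b Q).map (algebraMap R A) *ᵥ ((b.baseChange A).repr v : Fin n → A)) := by
  set x : Fin n → A := ⇑((b.baseChange A).repr v) with hx
  have hv : ∑ i, x i • (b.baseChange A) i = v := (b.baseChange A).sum_repr v
  rw [← hv]
  simp only [QuadGrp.baseChangeForm, QuadGrp.baseChange, LinearMap.compQuadraticMap_apply,
    LinearMap.BilinMap.toQuadraticMap_apply, map_sum, LinearMap.coe_sum, Finset.sum_apply,
    map_smul, LinearMap.smul_apply, Module.Basis.baseChange_apply,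
    LinearMap.BilinMap.baseChange_tmul, dotProduct, Matrix.mulVec, Finset.mul_sum,
    Matrix.map_apply, smul_eq_mul, LinearEquiv.coe_coe]
  rw [Finset.sum_comm]
  refine Finset.sum_congr rfl fun i _ => Finset.sum_congr rfl fun j _ => ?_
  simp [liftMat, Algebra.smul_def]
  ring

/-- The equations of the orthogonal group. -/
def orthEqs : MatEqs R n (Sym2 (Fin n)) where
  E A _ _ G s := cf (G.transpose * (liftMat b Q).map (algebraMap R A) * G) s -
    cf ((liftMat b Q).map (algebraMap R A)) s
  map A B _ _ _ _ φ G s := by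
    have e : ((liftMat b Q).map (algebraMap R A)).map φ = (liftMat b Q).map (algebraMap R B) := by
      ext i j; exact φ.commutes _
    have h : ∀ M' : Matrix (Fin n) (Fin n) A, φ (cf M' s) = cf (M'.map φ) s := fun M' =>
      congrFun (map_cf φ.toRingHom M') s
    rw [map_sub, h, h, Matrix.map_mul, Matrix.map_mul, Matrix.transpose_map, e]

/-- The equations of the naive special orthogonal group. -/
def sorthEqs : MatEqs R n (Option (Sym2 (Fin n))) where
  E A _ _ G o := o.elim (G.det - 1) ((orthEqs b Q).E A G)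
  map A B _ _ _ _ φ G o := by
    cases o with
    | none =>
      show φ (G.det - 1) = (G.map φ).det - 1
      rw [map_sub, map_one, AlgHom.map_det, AlgHom.mapMatrix_apply]
    | some s => exact (orthEqs b Q).map A B φ G s

theorem mem_orth_iff (A : Type u) [CommRing A] [Algebra R A]
    (g : (A ⊗[R] M) ≃ₗ[A] (A ⊗[R] M)) :
    g ∈ QuadGrp.orth Q A ↔ ∀ s, (orthEqs b Q).E A
      (LinearMap.toMatrix (b.baseChange A) (b.baseChange A) g.toLinearMap) s = 0 := by
  set G := LinearMap.toMatrix (b.baseChange A) (b.baseChange A) g.toLinearMap with hG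
  set BA := (liftMat b Q).map (algebraMap R A) with hBA
  have h1 : g ∈ QuadGrp.orth Q A ↔
      ∀ v, QuadGrp.baseChangeForm A Q (g v) = QuadGrp.baseChangeForm A Q v :=
    forall_congr' fun v => ((TensorProduct.AlgebraTensorModule.rid R A A).injective.eq_iff).symm
  rw [h1]
  have h2 : ∀ v, ((b.baseChange A).repr (g v) : Fin n → A) = G *ᵥ (b.baseChange A).repr v :=
    fun v => (LinearMap.toMatrix_mulVec_repr _ _ g.toLinearMap v).symm
  have h3 : (∀ v, QuadGrp.baseChangeForm A Q (g v) = QuadGrp.baseChangeForm A Q v) ↔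
      ∀ x : Fin n → A, x ⬝ᵥ ((G.transpose * BA * G - BA) *ᵥ x) = 0 := by
    simp only [baseChangeForm_eq b Q A, h2, qv_transpose_mul_mul, Matrix.sub_mulVec, dotProduct_sub,
      sub_eq_zero, ← hBA]
    exact ⟨fun h x => by
      simpa only [← Module.Basis.equivFun_apply, LinearEquiv.apply_symm_apply] using
        h ((b.baseChange A).equivFun.symm x), fun h v => h _⟩
  rw [h3, qv_eq_zero_iff, cf_sub, funext_iff]
  rfl

/-- Points of the orthogonal group. -/
def orthPt : PtData (fun A _ _ => QuadGrp.orth Q A) (orthEqs b Q).Coord :=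
  ptData b (orthEqs b Q) _ fun A _ _ g => mem_orth_iff b Q A g

theorem mem_sorth'_iff (A : Type u) [CommRing A] [Algebra R A]
    (g : (A ⊗[R] M) ≃ₗ[A] (A ⊗[R] M)) :
    g ∈ QuadGrp.sorth' Q A ↔ ∀ s, (sorthEqs b Q).E A
      (LinearMap.toMatrix (b.baseChange A) (b.baseChange A) g.toLinearMap) s = 0 := by
  rw [QuadGrp.sorth', QuadGrp.SO', Subgroup.mem_inf, MonoidHom.mem_ker]
  change (g ∈ QuadGrp.orth Q A ∧ _) ↔ _
  rw [mem_orth_iff b Q, Option.forall, and_comm, Units.ext_iff, Units.val_one,
    LinearEquiv.coe_det, ← LinearMap.det_toMatrix (b.baseChange A), ← sub_eq_zero]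
  rfl

/-- Points of the naive special orthogonal group. -/
def sorthPt : PtData (fun A _ _ => QuadGrp.sorth' Q A) (sorthEqs b Q).Coord :=
  ptData b (sorthEqs b Q) _ fun A _ _ g => mem_sorth'_iff b Q A g

end Points

end Groth.Agent.QuadLib

end
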