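import Groth.Agent.QuadLib.Smooth
import Groth.Agent.CAlgH.RegularSmooth
import Mathlib.RingTheory.Smooth.Flat
import Mathlib.RingTheory.Flat.TorsionFree
import Mathlib.LinearAlgebra.Matrix.Permutation

/-!
# The naive special orthogonal group of the split even form over `ℤ` is reduced and not flat
-/

set_option autoImplicit false
set_option linter.unusedSectionVars false

noncomputable section

open scoped TensorProduct
open Matrix CategoryTheory AlgebraicGeometry

universe u

namespace Groth.Agent.QuadLib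

section Split

variable (R : Type u) [CommRing R] (m : ℕ)

theorem splitForm_apply_even (x : Fin (2 * m) → R) :
    QuadGrp.splitForm R (2 * m) x = ∑ i : Fin (2 * m / 2),
      x ⟨2 * i.1, by omega⟩ * x ⟨2 * i.1 + 1, by omega⟩ := by
  have h : (2 * m) % 2 = 0 := by omega
  rw [QuadGrp.splitForm, dif_neg (by omega), add_zero, QuadraticMap.sum_apply]
  refine Finset.sum_congr rfl fun i _ => ?_
  simp only [QuadraticMap.linMulLin_apply, LinearMap.proj_apply, h, add_zero]

/-- The partner index. -/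
def partner (a : Fin (2 * m)) : Fin (2 * m) :=
  ⟨if a.1 % 2 = 0 then a.1 + 1 else a.1 - 1, by split_ifs <;> omega⟩

theorem partner_partner (a : Fin (2 * m)) : partner m (partner m a) = a := by
  apply Fin.ext
  simp only [partner]
  split_ifs <;> omega

theorem polarMat_splitForm :
    polarMat (Pi.basisFun R (Fin (2 * m))) (QuadGrp.splitForm R (2 * m)) =
      Matrix.of fun a b => if b = partner m a then (1 : R) else 0 := by
  ext a b
  simp only [polarMat, Matrix.of_apply, QuadraticMap.polar, Pi.basisFun_apply,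
    splitForm_apply_even, ← Finset.sum_sub_distrib, Pi.add_apply]
  rw [Finset.sum_eq_single (⟨a.1 / 2, by omega⟩ : Fin (2 * m / 2))]
  · simp only [Pi.single_apply, Fin.ext_iff, partner]
    split_ifs <;> first | (exfalso; omega) | ring
  · intro i _ hi
    have : i.1 ≠ a.1 / 2 := fun h => hi (Fin.ext h)
    simp only [Pi.single_apply, Fin.ext_iff]
    split_ifs <;> first | (exfalso; omega) | ring
  · intro h; exact absurd (Finset.mem_univ _) h

theorem isUnit_det_polarMat_splitForm :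
    IsUnit (polarMat (Pi.basisFun R (Fin (2 * m))) (QuadGrp.splitForm R (2 * m))).det := by
  refine Matrix.isUnit_det_of_left_inverse
    (B := polarMat (Pi.basisFun R (Fin (2 * m))) (QuadGrp.splitForm R (2 * m))) ?_
  rw [polarMat_splitForm]
  ext a b
  simp only [Matrix.mul_apply, Matrix.of_apply, ite_mul, one_mul, zero_mul, Finset.sum_ite_eq',
    Finset.mem_univ, if_true, partner_partner, Matrix.one_apply, eq_comm]

theorem isRegular_of_isUnit_det {M : Type u} [AddCommGroup M] [Module R M] {n : ℕ}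
    (b : Module.Basis (Fin n) R M) (Q : QuadraticForm R M) (h : IsUnit (polarMat b Q).det) :
    QuadGrp.IsRegular Q := by
  have e : LinearMap.toMatrix b b.dualBasis (QuadraticMap.polarBilin Q) = (polarMat b Q).transpose := by
    ext i j
    simp [LinearMap.toMatrix_apply, polarMat, Module.Basis.dualBasis_repr]
  exact (LinearEquiv.ofIsUnitDet (f := QuadraticMap.polarBilin Q) (v := b) (v' := b.dualBasis)
    (by rw [e, Matrix.det_transpose]; exact h)).bijective

theorem isNondeg_splitForm :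
    QuadGrp.IsNondeg (Pi.basisFun R (Fin (2 * m))) (LinearEquiv.refl R R)
      (QuadGrp.splitForm R (2 * m)) :=
  ⟨fun _ => isRegular_of_isUnit_det R _ _ (isUnit_det_polarMat_splitForm R m),
    fun h => absurd h (by simp)⟩

theorem qv_liftMat {n : ℕ} (Q : QuadraticForm R (Fin n → R)) (x : Fin n → R) :
    x ⬝ᵥ (liftMat (Pi.basisFun R (Fin n)) Q *ᵥ x) = Q x := by
  conv_rhs => rw [← QuadGrp.bilinLift_spec Q, LinearMap.BilinMap.toQuadraticMap_apply,
    ← (Pi.basisFun R (Fin n)).sum_repr x]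
  simp only [map_sum, LinearMap.coe_sum, Finset.sum_apply, map_smul, LinearMap.smul_apply,
    Pi.basisFun_repr, smul_eq_mul, dotProduct, Matrix.mulVec, Finset.mul_sum, liftMat,
    Matrix.of_apply]
  rw [Finset.sum_comm]
  exact Finset.sum_congr rfl fun i _ => Finset.sum_congr rfl fun j _ => by ring

theorem splitForm_swap (hm : 1 ≤ m) (x : Fin (2 * m) → R) :
    QuadGrp.splitForm R (2 * m)
        (fun i => x (Equiv.swap (⟨0, by omega⟩ : Fin (2 * m)) ⟨1, by omega⟩ i)) =
      QuadGrp.splitForm R (2 * m) x := by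
  simp only [splitForm_apply_even]
  refine Finset.sum_congr rfl fun i _ => ?_
  rcases Nat.eq_zero_or_pos i.1 with h | h
  · have e0 : (⟨2 * i.1, by omega⟩ : Fin (2 * m)) = ⟨0, by omega⟩ := Fin.ext (by simp [h])
    have e1 : (⟨2 * i.1 + 1, by omega⟩ : Fin (2 * m)) = ⟨1, by omega⟩ := Fin.ext (by simp [h])
    rw [e0, e1, Equiv.swap_apply_left, Equiv.swap_apply_right, mul_comm]
  · rw [Equiv.swap_apply_of_ne_of_ne, Equiv.swap_apply_of_ne_of_ne] <;>
      · rw [ne_eq, Fin.ext_iff]; simp only; omega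

end Split

variable (m : ℕ)

/-- The orthogonal coordinate algebra of the split form over `ℤ`. -/
abbrev splitEqs : MatEqs ℤ (2 * m) (Sym2 (Fin (2 * m))) :=
  orthEqs (Pi.basisFun ℤ (Fin (2 * m))) (QuadGrp.splitForm ℤ (2 * m))

/-- The reflection point. -/
theorem exists_det_neg_one (hm : 1 ≤ m) :
    ∃ ψ : (splitEqs m).Coord →ₐ[ℤ] ℤ, ((splitEqs m).matOf ψ).det = -1 := by
  let τ : Equiv.Perm (Fin (2 * m)) := Equiv.swap ⟨0, by omega⟩ ⟨1, by omega⟩
  let G : Matrix (Fin (2 * m)) (Fin (2 * m)) ℤ := τ.permMatrix ℤ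
  have hdet : G.det = -1 := by
    rw [Matrix.det_permutation, Equiv.Perm.sign_swap (fun h => by simp [Fin.ext_iff] at h)]
    simp
  have hG : ∀ x : Fin (2 * m) → ℤ, G *ᵥ x = fun i => x (τ i) := fun x => by
    simp only [G, Matrix.permMatrix_mulVec]
    rfl
  have hsol : ∀ s, (splitEqs m).E ℤ G s = 0 := by
    set B := liftMat (Pi.basisFun ℤ (Fin (2 * m))) (QuadGrp.splitForm ℤ (2 * m)) with hB
    have hBA : B.map (algebraMap ℤ ℤ) = B := by ext i j; simp
    intro s
    show cf (G.transpose * B.map (algebraMap ℤ ℤ) * G) s - cf (B.map (algebraMap ℤ ℤ)) s = 0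
    rw [hBA, ← Pi.sub_apply, ← cf_sub]
    refine congrFun ((qv_eq_zero_iff _).mp fun x => ?_) s
    rw [Matrix.sub_mulVec, dotProduct_sub, ← qv_transpose_mul_mul, hB, qv_liftMat, qv_liftMat, hG,
      splitForm_swap ℤ m hm, sub_self]
  refine ⟨((splitEqs m).equiv ℤ).symm ⟨G, by rw [hdet]; exact isUnit_one.neg, hsol⟩, ?_⟩
  have := congrArg Subtype.val (((splitEqs m).equiv ℤ).apply_symm_apply
    ⟨G, by rw [hdet]; exact isUnit_one.neg, hsol⟩)
  exact (congrArg Matrix.det this).trans hdet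

/-- The universal point's determinant. -/
def detU : (splitEqs m).Coord := ((splitEqs m).matOf (AlgHom.id ℤ _)).det

theorem smooth_coord : Algebra.Smooth ℤ (splitEqs m).Coord :=
  orth_smooth _ _ (isNondeg_splitForm ℤ m) (Or.inl (even_two_mul m))

theorem two_mul_cancel {x : (splitEqs m).Coord} (h : 2 * x = 0) : x = 0 := by
  haveI := smooth_coord m
  have h2 : IsSMulRegular (splitEqs m).Coord (2 : ℤ) :=
    Module.Flat.isSMulRegular_of_isRegular (IsRegular.of_ne_zero two_ne_zero)
  exact h2 (by simp only [smul_zero, zsmul_eq_mul]; exact_mod_cast h)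

theorem dvd_of_dvd_pow_of_smooth {R C : Type} [CommRing R] [CommRing C] [Algebra R C]
    [Algebra.Smooth R C] (r : R) [_root_.IsReduced (R ⧸ Ideal.span {r})] {x : C} {k : ℕ}
    (h : algebraMap R C r ∣ x ^ k) : algebraMap R C r ∣ x := by
  have : _root_.IsReduced ((R ⧸ Ideal.span {r}) ⊗[R] C) :=
    Groth.Agent.CAlgH.isReduced_of_smooth (R ⧸ Ideal.span {r}) _
  obtain ⟨c, hc⟩ := h
  have hr : ∀ y : C, (1 : R ⧸ Ideal.span {r}) ⊗ₜ[R] (algebraMap R C r * y) = 0 := fun y => by
    rw [← Algebra.smul_def, ← TensorProduct.smul_tmul,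
      show r • (1 : R ⧸ Ideal.span {r}) = 0 by
        rw [Algebra.smul_def, mul_one, Ideal.Quotient.algebraMap_eq, Ideal.Quotient.eq_zero_iff_mem]
        exact Ideal.mem_span_singleton_self r,
      TensorProduct.zero_tmul]
  have hx : (1 : R ⧸ Ideal.span {r}) ⊗ₜ[R] x = 0 := by
    refine _root_.IsReduced.eq_zero _ ⟨k, ?_⟩
    rw [Algebra.TensorProduct.tmul_pow, one_pow, hc, hr]
  have h1 := congrArg (TensorProduct.quotTensorEquivQuotSMul C (Ideal.span {r})) hx
  rw [TensorProduct.quotTensorEquivQuotSMul_mk_one_tmul, map_zero, Submodule.Quotient.mk_eq_zero,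
    Submodule.ideal_span_singleton_smul, Submodule.mem_smul_pointwise_iff_exists] at h1
  obtain ⟨y, -, hy⟩ := h1
  exact ⟨y, by rw [← hy, Algebra.smul_def]⟩

theorem two_dvd_of_two_dvd_pow {x : (splitEqs m).Coord} {k : ℕ}
    (h : (2 : (splitEqs m).Coord) ∣ x ^ k) : (2 : (splitEqs m).Coord) ∣ x := by
  haveI := smooth_coord m
  haveI : (Ideal.span {(2 : ℤ)}).IsPrime := (Ideal.span_singleton_prime two_ne_zero).mpr Int.prime_two
  have e : algebraMap ℤ (splitEqs m).Coord 2 = 2 := map_ofNat _ 2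
  rw [← e] at h ⊢
  exact dvd_of_dvd_pow_of_smooth (2 : ℤ) h

theorem exists_d : ∃ d : (splitEqs m).Coord, detU m = 1 - 2 * d ∧ d * d = d := by
  haveI := smooth_coord m
  let U := (splitEqs m).matOf (AlgHom.id ℤ (splitEqs m).Coord)
  have hd2 : detU m * detU m = 1 := by
    have hP := isUnit_det_baseChange (Pi.basisFun ℤ (Fin (2 * m))) (QuadGrp.splitForm ℤ (2 * m))
      (isNondeg_splitForm ℤ m) (Or.inl (even_two_mul m)) (splitEqs m).Coord
    refine hP.mul_right_cancel ?_
    rw [one_mul, ← pow_two]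
    exact det_sq_mul _ U
      (funext fun s => sub_eq_zero.mp (((splitEqs m).matOf_mem (AlgHom.id ℤ _)).2 s))
  obtain ⟨y, hy⟩ := two_dvd_of_two_dvd_pow m (x := detU m - 1) (k := 2)
    ⟨1 - detU m, by linear_combination hd2⟩
  have hy' : 2 * y = detU m - 1 := hy.symm
  refine ⟨-y, by linear_combination -hy', ?_⟩
  rw [← sub_eq_zero]
  refine two_mul_cancel m (two_mul_cancel m ?_)
  linear_combination hd2 + (detU m + 2 * y + 1) * hy'

/-- The equation `det = 1`. -/
def detIdeal : Ideal (splitEqs m).Coord := Ideal.span {detU m - 1}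

theorem isReduced_quot : _root_.IsReduced ((splitEqs m).Coord ⧸ detIdeal m) := by
  haveI := smooth_coord m
  haveI : _root_.IsReduced (splitEqs m).Coord := Groth.Agent.CAlgH.isReduced_of_smooth ℤ _
  obtain ⟨d, hd, hdd⟩ := exists_d m
  have hJ : detIdeal m = Ideal.span {2 * d} := by
    rw [detIdeal, hd, show 1 - 2 * d - 1 = -(2 * d) by ring, Ideal.span_singleton_neg]
  rw [← Ideal.isRadical_iff_quotient_reduced]
  rintro x ⟨k, hk⟩
  rw [hJ, Ideal.mem_span_singleton] at hk ⊢
  obtain ⟨c, hc⟩ := hk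
  have hk1 : ((1 - d) * x) ^ (k + 1) = 0 := by
    rw [mul_pow, pow_succ x, hc, pow_succ (1 - d)]
    linear_combination (-2 * c * x * (1 - d) ^ k) * hdd
  have h0 : (1 - d) * x = 0 := _root_.IsReduced.eq_zero _ ⟨k + 1, hk1⟩
  obtain ⟨z, hz'⟩ := two_dvd_of_two_dvd_pow m (x := x) (k := k)
    ⟨d * c, by rw [hc]; ring⟩
  exact ⟨z, by linear_combination h0 + d * hz'⟩

theorem not_flat_quot (hm : 1 ≤ m) : ¬ Module.Flat ℤ ((splitEqs m).Coord ⧸ detIdeal m) := by
  intro hflat
  obtain ⟨d, hd, hdd⟩ := exists_d m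
  let π := Ideal.Quotient.mk (detIdeal m)
  have h2 : (2 : ℤ) • π d = 0 := by
    rw [← map_zsmul, Ideal.Quotient.eq_zero_iff_mem, detIdeal, Ideal.mem_span_singleton]
    exact ⟨-1, by rw [zsmul_eq_mul, hd]; push_cast; ring⟩
  have hreg : IsSMulRegular ((splitEqs m).Coord ⧸ detIdeal m) (2 : ℤ) :=
    Module.Flat.isSMulRegular_of_isRegular (IsRegular.of_ne_zero two_ne_zero)
  have hd0 : π d = 0 := hreg (by simp only [smul_zero]; exact h2)
  rw [Ideal.Quotient.eq_zero_iff_mem, detIdeal, Ideal.mem_span_singleton] at hd0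
  obtain ⟨c, hc⟩ := hd0
  obtain ⟨ψ, hψ⟩ := exists_det_neg_one m hm
  have hψd : ψ (detU m) = -1 := by
    rw [detU, AlgHom.map_det, AlgHom.mapMatrix_apply, ← hψ]
    rfl
  have e1 : ψ (detU m) = 1 - 2 * ψ d := by rw [hd, map_sub, map_one, map_mul, map_ofNat]
  have e2 := congrArg ψ hc
  rw [map_mul, map_sub, map_one, hψd] at e2
  omega

theorem det_matOf {R : Type u} [CommRing R] {n : ℕ} {κ : Type} [Finite κ] (Eq : MatEqs R n κ)
    {A : Type u} [CommRing A] [Algebra R A] (ψ : Eq.Coord →ₐ[R] A) :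
    (Eq.matOf ψ).det = ψ (Eq.matOf (AlgHom.id R Eq.Coord)).det := by
  rw [AlgHom.map_det, AlgHom.mapMatrix_apply]
  rfl

/-- `SO'` is the closed subscheme `det = 1` of the orthogonal group. -/
theorem exists_algEquiv :
    Nonempty ((sorthEqs (Pi.basisFun ℤ (Fin (2 * m))) (QuadGrp.splitForm ℤ (2 * m))).Coord ≃ₐ[ℤ]
      ((splitEqs m).Coord ⧸ detIdeal m)) := by
  let E := sorthEqs (Pi.basisFun ℤ (Fin (2 * m))) (QuadGrp.splitForm ℤ (2 * m))
  let π : (splitEqs m).Coord →ₐ[ℤ] (splitEqs m).Coord ⧸ detIdeal m := Ideal.Quotient.mkₐ ℤ (detIdeal m)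
  let f : E.Coord →ₐ[ℤ] (splitEqs m).Coord ⧸ detIdeal m :=
    (E.equiv ((splitEqs m).Coord ⧸ detIdeal m)).symm
    ⟨(splitEqs m).matOf (A := (splitEqs m).Coord ⧸ detIdeal m) π,
      ((splitEqs m).matOf_mem _).1, fun o => by
        cases o with
        | some s => exact ((splitEqs m).matOf_mem _).2 s
        | none =>
          show ((splitEqs m).matOf (A := (splitEqs m).Coord ⧸ detIdeal m) π).det - 1 = 0
          have e : ((splitEqs m).matOf (A := (splitEqs m).Coord ⧸ detIdeal m) π).det =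
              π (detU m) := by
            exact det_matOf (splitEqs m) (A := (splitEqs m).Coord ⧸ detIdeal m) π
          rw [e, sub_eq_zero, ← map_one π]
          exact Ideal.Quotient.eq.mpr (Ideal.subset_span rfl)⟩
  let g₀ : (splitEqs m).Coord →ₐ[ℤ] E.Coord := ((splitEqs m).equiv _).symm
    ⟨E.matOf (AlgHom.id ℤ _), (E.matOf_mem _).1, fun s => (E.matOf_mem _).2 (some s)⟩
  have hg₀ : (splitEqs m).matOf g₀ = E.matOf (AlgHom.id ℤ _) :=
    congrArg Subtype.val (((splitEqs m).equiv _).apply_symm_apply _)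
  have hf : E.matOf f = (splitEqs m).matOf (A := (splitEqs m).Coord ⧸ detIdeal m) π :=
    congrArg Subtype.val ((E.equiv _).apply_symm_apply _)
  let g : (splitEqs m).Coord ⧸ detIdeal m →ₐ[ℤ] E.Coord := Ideal.Quotient.liftₐ _ g₀ (fun a ha => by
    obtain ⟨c, rfl⟩ := Ideal.mem_span_singleton.mp ha
    have e : g₀ (detU m) = (E.matOf (AlgHom.id ℤ _)).det := by
      rw [detU, AlgHom.map_det, AlgHom.mapMatrix_apply, ← hg₀]
      rfl
    rw [map_mul, map_sub, map_one, e]
    have h : (E.matOf (AlgHom.id ℤ _)).det - 1 = 0 := (E.matOf_mem (AlgHom.id ℤ _)).2 none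
    rw [h, zero_mul])
  refine ⟨AlgEquiv.ofAlgHom f g ?_ ?_⟩
  · refine Ideal.Quotient.algHom_ext ℤ ?_
    refine ((splitEqs m).equiv ((splitEqs m).Coord ⧸ detIdeal m)).injective (Subtype.ext ?_)
    show (splitEqs m).matOf (f.comp g₀) = (splitEqs m).matOf (A := (splitEqs m).Coord ⧸ detIdeal m) π
    rw [← hf, show (splitEqs m).matOf (f.comp g₀) = ((splitEqs m).matOf g₀).map f from rfl, hg₀]
    rfl
  · refine (E.equiv _).injective (Subtype.ext ?_)
    show E.matOf (g.comp f) = E.matOf (AlgHom.id ℤ _)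
    rw [show E.matOf (g.comp f) = (E.matOf f).map g from rfl, hf, ← hg₀]
    rfl

end Groth.Agent.QuadLib

end
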