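import Groth.Agent.QuadLib.Orth
import Mathlib.RingTheory.Polynomial.Quotient
import Mathlib.RingTheory.Ideal.Quotient.Operations

/-!
# Smoothness of the orthogonal groups of non-degenerate quadratic forms
-/

set_option autoImplicit false
set_option linter.unusedSectionVars false

noncomputable section

open scoped TensorProduct
open Matrix

universe u

namespace Groth.Agent.QuadLib

theorem isUnit_of_isUnit_quot {S : Type*} [CommRing S] {I : Ideal S} (hI : I ^ 2 = ⊥) {a : S}
    (h : IsUnit (Ideal.Quotient.mk I a)) : IsUnit a := by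
  obtain ⟨c, hc⟩ := h.exists_left_inv
  obtain ⟨c, rfl⟩ := Ideal.Quotient.mk_surjective c
  rw [← map_mul, ← (Ideal.Quotient.mk I).map_one, Ideal.Quotient.eq] at hc
  have := mul_eq_zero_of_sq hI hc hc
  exact IsUnit.of_mul_eq_one (c * (2 - c * a)) (by linear_combination -this)

theorem exists_map_eq {S : Type*} [CommRing S] {I : Ideal S} {n : ℕ}
    (G₀ : Matrix (Fin n) (Fin n) (S ⧸ I)) :
    ∃ G : Matrix (Fin n) (Fin n) S, G.map (Ideal.Quotient.mk I) = G₀ := by
  choose f hf using fun a b => Ideal.Quotient.mk_surjective (G₀ a b)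
  exact ⟨Matrix.of f, by ext a b; exact hf a b⟩

theorem map_mul_one_add {S : Type*} [CommRing S] {I : Ideal S} {n : ℕ}
    (G η : Matrix (Fin n) (Fin n) S) (hη : ∀ i j, η i j ∈ I) :
    (G * (1 + η)).map (Ideal.Quotient.mk I) = G.map (Ideal.Quotient.mk I) := by
  have h : η.map (Ideal.Quotient.mk I) = 0 := by
    ext i j; exact Ideal.Quotient.eq_zero_iff_mem.mpr (hη i j)
  rw [mul_add, mul_one, Matrix.map_add _ (map_add _), Matrix.map_mul, h, mul_zero, add_zero]

theorem det_sq_mul {S : Type*} [CommRing S] {n : ℕ} (B G : Matrix (Fin n) (Fin n) S)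
    (h : cf (G.transpose * B * G) = cf B) :
    G.det ^ 2 * (B + B.transpose).det = (B + B.transpose).det := by
  have h1 := congrArg Matrix.det (congrArg pm h)
  rw [pm_cf, pm_cf, Matrix.transpose_mul, Matrix.transpose_mul, Matrix.transpose_transpose,
    ← Matrix.mul_assoc, ← Matrix.add_mul, ← Matrix.mul_add, Matrix.det_mul, Matrix.det_mul,
    Matrix.det_transpose] at h1
  linear_combination h1

variable {R : Type u} [CommRing R] {M : Type u} [AddCommGroup M] [Module R M] {n : ℕ}
  (b : Module.Basis (Fin n) R M) [Module.Free R M] (Q : QuadraticForm R M)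

theorem isUnit_det_polarMat (hQ : QuadGrp.IsNondeg b (LinearEquiv.refl R R) Q)
    (h : Even n ∨ IsUnit (2 : R)) : IsUnit (polarMat b Q).det := by
  rcases Nat.even_or_odd n with he | ho
  · exact isUnit_det_of_isRegular b Q (hQ.1 he)
  · rw [← two_mul_halfDisc b Q ho]
    exact (h.resolve_left (Nat.not_even_iff_odd.mpr ho)).mul (hQ.2 ho)

theorem isUnit_det_baseChange (hQ : QuadGrp.IsNondeg b (LinearEquiv.refl R R) Q)
    (h : Even n ∨ IsUnit (2 : R)) (A : Type u) [CommRing A] [Algebra R A] :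
    IsUnit ((liftMat b Q).map (algebraMap R A) +
      ((liftMat b Q).map (algebraMap R A)).transpose).det := by
  rw [← Matrix.transpose_map, ← Matrix.map_add _ (map_add (algebraMap R A)), ← polarMat_eq,
    ← RingHom.mapMatrix_apply, ← RingHom.map_det]
  exact (isUnit_det_polarMat b Q hQ h).map _

theorem orthEqs_mem (A : Type u) [CommRing A] [Algebra R A] (I : Ideal A)
    (G : Matrix (Fin n) (Fin n) A) (s : Sym2 (Fin n))
    (h : (orthEqs b Q).E (A ⧸ I) (G.map (Ideal.Quotient.mk I)) s = 0) :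
    cf (G.transpose * (liftMat b Q).map (algebraMap R A) * G) s -
      cf ((liftMat b Q).map (algebraMap R A)) s ∈ I := by
  refine Ideal.Quotient.eq_zero_iff_mem.mp ?_
  exact ((orthEqs b Q).map A (A ⧸ I) (Ideal.Quotient.mkₐ R I) G s).trans h

theorem orth_smooth (hQ : QuadGrp.IsNondeg b (LinearEquiv.refl R R) Q)
    (h : Even n ∨ IsUnit (2 : R)) : Algebra.Smooth R (orthEqs b Q).Coord := by
  refine (orthEqs b Q).smooth_of_lift fun A _ _ I hI G₀ => ?_
  obtain ⟨G, hG⟩ := exists_map_eq G₀.1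
  have hδ := fun s => orthEqs_mem b Q A I G s (by rw [hG]; exact G₀.2.2 s)
  obtain ⟨η, hη, hcf⟩ := exists_lift_regular hI _ G (isUnit_det_baseChange b Q hQ h A) hδ
  have hmap : (G * (1 + η)).map (Ideal.Quotient.mk I) = G₀.1 := by rw [map_mul_one_add G η hη, hG]
  refine ⟨⟨G * (1 + η), isUnit_of_isUnit_quot hI ?_, fun s => sub_eq_zero.mpr (congrFun hcf s)⟩,
    hmap⟩
  rw [RingHom.map_det, RingHom.mapMatrix_apply, hmap]
  exact G₀.2.1

theorem sorth_smooth (hQ : QuadGrp.IsNondeg b (LinearEquiv.refl R R) Q)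
    (h : Odd n ∨ IsUnit (2 : R)) : Algebra.Smooth R (sorthEqs b Q).Coord := by
  refine (sorthEqs b Q).smooth_of_lift fun A _ _ I hI G₀ => ?_
  obtain ⟨G, hG⟩ := exists_map_eq G₀.1
  have hδ := fun s => orthEqs_mem b Q A I G s (by rw [hG]; exact G₀.2.2 (some s))
  have ht : G.det - 1 ∈ I := by
    refine Ideal.Quotient.eq_zero_iff_mem.mp ?_
    rw [map_sub, map_one, RingHom.map_det, RingHom.mapMatrix_apply, hG]
    exact G₀.2.2 none
  obtain ⟨η, hη, hcf, hdet⟩ : ∃ η : Matrix (Fin n) (Fin n) A, (∀ i j, η i j ∈ I) ∧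
      cf ((G * (1 + η)).transpose * (liftMat b Q).map (algebraMap R A) * (G * (1 + η))) =
        cf ((liftMat b Q).map (algebraMap R A)) ∧ (G * (1 + η)).det = 1 := by
    rcases h with ho | h2
    · obtain ⟨m, hm⟩ := ho
      exact exists_lift_odd (algebraMap R A) m hm _ (isUnit_hd_liftMat b Q (hQ.2 ⟨m, hm⟩)) hI G hδ ht
    · have hP := isUnit_det_baseChange b Q hQ (Or.inr h2) A
      obtain ⟨η, hη, hcf⟩ := exists_lift_regular hI _ G hP hδ
      refine ⟨η, hη, hcf, ?_⟩
      have h1 := det_sq_mul _ _ hcf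
      set d := (G * (1 + η)).det
      have hd : d * d = 1 := hP.mul_right_cancel (by linear_combination h1)
      have hu : IsUnit (d + 1) := isUnit_of_isUnit_quot hI (by
        rw [map_add, map_one, RingHom.map_det, RingHom.mapMatrix_apply, map_mul_one_add G η hη, hG,
          sub_eq_zero.mp (G₀.2.2 none), one_add_one_eq_two]
        have := (h2.map (algebraMap R A)).map (Ideal.Quotient.mk I)
        rwa [map_ofNat, map_ofNat] at this)
      exact hu.mul_right_cancel (by linear_combination hd)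
  refine ⟨⟨G * (1 + η), hdet ▸ isUnit_one, fun o => ?_⟩, by rw [map_mul_one_add G η hη, hG]⟩
  cases o with
  | none => exact sub_eq_zero.mpr hdet
  | some s => exact sub_eq_zero.mpr (congrFun hcf s)

theorem false_of_orth_smooth (hQ : QuadGrp.IsNondeg b (LinearEquiv.refl R R) Q) (ho : Odd n)
    [Algebra.Smooth R (orthEqs b Q).Coord] (A : Type u) [CommRing A] [Algebra R A] (t : A)
    (h20 : (2 : A) = 0) (ht3 : t ^ 3 = 0) (ht2 : t ^ 2 ≠ 0) : False := by
  let I : Ideal A := Ideal.span {t ^ 2}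
  have hI : I ^ 2 = ⊥ := by
    rw [Ideal.span_singleton_pow, Ideal.span_singleton_eq_bot]
    linear_combination t * ht3
  let π := Ideal.Quotient.mk I
  let u : A ⧸ I := π (1 + t)
  have hu : u * u = 1 := by
    rw [← map_mul, ← map_one π, Ideal.Quotient.eq, Ideal.mem_span_singleton]
    exact ⟨1, by linear_combination t * h20⟩
  let G₀ : (orthEqs b Q).Sol (A ⧸ I) :=
    ⟨u • 1, by
      rw [Matrix.det_smul, Matrix.det_one, mul_one]
      exact (IsUnit.of_mul_eq_one u hu).pow _, fun s => by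
      refine sub_eq_zero.mpr ?_
      rw [Matrix.transpose_smul, Matrix.transpose_one, smul_mul_assoc, Matrix.one_mul,
        mul_smul_comm, Matrix.mul_one, smul_smul, hu, one_smul]⟩
  obtain ⟨G, hG⟩ := (orthEqs b Q).lift_of_smooth A I hI G₀
  have hd2 : G.1.det ^ 2 = 1 := by
    have hhd : IsUnit (hd (cf ((liftMat b Q).map (algebraMap R A)))) := by
      rw [← map_cf, ← map_hd]; exact (isUnit_hd_liftMat b Q (hQ.2 ho)).map _
    refine hhd.mul_right_cancel ?_
    rw [← hd_cf_congr ho, one_mul, funext fun s => sub_eq_zero.mp (G.2.2 s)]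
  have hdI : G.1.det - (1 + t) ∈ I := by
    rw [← Ideal.Quotient.eq_zero_iff_mem, map_sub, sub_eq_zero, RingHom.map_det,
      RingHom.mapMatrix_apply, hG]
    show (u • (1 : Matrix (Fin n) (Fin n) (A ⧸ I))).det = u
    obtain ⟨m, hm⟩ := ho
    rw [Matrix.det_smul, Matrix.det_one, mul_one, Fintype.card_fin, hm, pow_succ, pow_mul, pow_two,
      hu, one_pow, one_mul]
  obtain ⟨a, ha⟩ := Ideal.mem_span_singleton.mp hdI
  refine ht2 ?_
  rw [show G.1.det = 1 + t + t ^ 2 * a by linear_combination ha] at hd2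
  linear_combination hd2 - (t + t ^ 2 * a + t ^ 3 * a) * h20 - a ^ 2 * t * ht3

theorem isUnit_two_of_orth_smooth (hQ : QuadGrp.IsNondeg b (LinearEquiv.refl R R) Q) (ho : Odd n)
    [Algebra.Smooth R (orthEqs b Q).Coord] : IsUnit (2 : R) := by
  by_contra h2
  obtain ⟨p, hp, h2p⟩ := exists_max_ideal_of_mem_nonunits h2
  haveI := hp
  refine false_of_orth_smooth b Q hQ ho
    (Polynomial (R ⧸ p) ⧸ Ideal.span {(Polynomial.X : Polynomial (R ⧸ p)) ^ 3})
    (Ideal.Quotient.mk _ Polynomial.X) ?_ ?_ ?_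
  · have h : (2 : R ⧸ p) = 0 := Ideal.Quotient.eq_zero_iff_mem.mpr h2p
    rw [← map_ofNat (Ideal.Quotient.mk _) 2, ← map_ofNat (Polynomial.C (R := R ⧸ p)) 2, h,
      map_zero, map_zero]
  · rw [← map_pow]; exact Ideal.Quotient.eq_zero_iff_mem.mpr (Ideal.subset_span rfl)
  · intro h
    rw [← map_pow, Ideal.Quotient.eq_zero_iff_mem, Ideal.mem_span_singleton] at h
    have := Polynomial.X_pow_dvd_iff.mp h 2 (by norm_num)
    simp at this

end Groth.Agent.QuadLib

end
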