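import Groth.Agent.QuadLib.Rep
import Mathlib.RingTheory.Smooth.Locus
import Mathlib.RingTheory.LocalRing.Quotient
import Mathlib.AlgebraicGeometry.Morphisms.Affine

/-!
# Coordinate algebras of systems of equations; smoothness from lifting over local rings

`Eqs.Coord`, `Eqs.equiv`, `Eqs.smooth_of_local_lift`; `exists_iso_of_natural`: a scheme with the same
affine points is isomorphic to the spectrum.
-/

set_option autoImplicit false
set_option linter.unusedSectionVars false
set_option linter.style.haveILetI false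

noncomputable section

open CategoryTheory Limits AlgebraicGeometry MvPolynomial

universe u

namespace Groth.Agent.QuadLib

/-- Equations in finitely many unknowns, natural in the algebra. -/
structure Eqs (R : Type u) [CommRing R] (σ : Type) (κ : Type) where
  /-- the equations -/
  E : ∀ (A : Type u) [CommRing A] [Algebra R A], (σ → A) → κ → A
  /-- naturality -/
  map : ∀ (A B : Type u) [CommRing A] [Algebra R A] [CommRing B] [Algebra R B] (φ : A →ₐ[R] B)
    (x : σ → A) (s : κ), φ (E A x s) = E B (φ ∘ x) s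

variable {R : Type u} [CommRing R] {σ κ : Type} [Finite σ] [Finite κ] (Eq : Eqs R σ κ)

/-- Solutions in `A`. -/
def Eqs.Sol (A : Type u) [CommRing A] [Algebra R A] : Type u :=
  {x : σ → A // ∀ s, Eq.E A x s = 0}

/-- The relations. -/
def Eqs.rels (s : κ) : MvPolynomial σ R := Eq.E _ X s

/-- The coordinate algebra. -/
abbrev Eqs.Coord : Type u := MvPolynomial σ R ⧸ Ideal.span (Set.range Eq.rels)

theorem Eqs.finitePresentation : Algebra.FinitePresentation R Eq.Coord :=
  Algebra.FinitePresentation.quotient (Submodule.fg_span (Set.finite_range _))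

/-- Points are solutions. -/
def Eqs.equiv (A : Type u) [CommRing A] [Algebra R A] : (Eq.Coord →ₐ[R] A) ≃ Eq.Sol A where
  toFun ψ := ⟨fun i => ψ (Ideal.Quotient.mk _ (X i)), fun s => by
    have h : (fun i => ψ (Ideal.Quotient.mk _ (X i))) =
      (ψ.comp (Ideal.Quotient.mkₐ R (Ideal.span (Set.range Eq.rels)))) ∘ X := rfl
    rw [h, ← Eq.map]
    show ψ (Ideal.Quotient.mk _ (Eq.rels s)) = 0
    rw [Ideal.Quotient.eq_zero_iff_mem.mpr (Ideal.subset_span (Set.mem_range_self s)), map_zero]⟩
  invFun x := Ideal.Quotient.liftₐ _ (aeval x.1) (fun a ha => by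
    have h : Ideal.span (Set.range Eq.rels) ≤ RingHom.ker (aeval x.1) := by
      rw [Ideal.span_le]
      rintro _ ⟨s, rfl⟩
      rw [SetLike.mem_coe, RingHom.mem_ker, Eqs.rels, Eq.map]
      convert x.2 s
      ext i
      simp
    exact h ha)
  left_inv ψ := by
    refine Ideal.Quotient.algHom_ext R (MvPolynomial.algHom_ext fun i => ?_)
    show (aeval _ : MvPolynomial σ R →ₐ[R] A) (X i) = _
    rw [aeval_X]
    rfl
  right_inv x := by
    apply Subtype.ext
    funext i
    show (aeval x.1 : MvPolynomial σ R →ₐ[R] A) (X i) = _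
    rw [aeval_X]

theorem Eqs.equiv_comp {A B : Type u} [CommRing A] [Algebra R A] [CommRing B] [Algebra R B]
    (φ : A →ₐ[R] B) (ψ : Eq.Coord →ₐ[R] A) :
    (Eq.equiv B (φ.comp ψ)).1 = φ ∘ (Eq.equiv A ψ).1 := rfl

theorem exists_surjective_localization {P C : Type u} [CommRing P] [Algebra R P] [CommRing C] [Algebra R C]
    (mk : P →ₐ[R] C) (hmk : Function.Surjective mk) (q : Ideal C) [q.IsPrime] :
    ∃ f : Localization.AtPrime (q.comap mk) →ₐ[R] Localization.AtPrime q, Function.Surjective f := by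
  let f : Localization.AtPrime (q.comap mk) →ₐ[R] Localization.AtPrime q :=
    IsLocalization.liftAlgHom (M := (q.comap mk).primeCompl) (f := (IsScalarTower.toAlgHom R C _).comp mk)
      fun y => IsLocalization.map_units _ (⟨mk y, y.2⟩ : q.primeCompl)
  have hft : ∀ y, f (algebraMap P _ y) = algebraMap C _ (mk y) := fun y => IsLocalization.lift_eq _ y
  refine ⟨f, fun z => ?_⟩
  obtain ⟨⟨c, s⟩, hz⟩ := IsLocalization.surj q.primeCompl z
  obtain ⟨a, rfl⟩ := hmk c
  obtain ⟨t, ht⟩ := hmk (s : C)
  have htq : t ∈ (q.comap mk).primeCompl := fun h => s.2 (by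
    have h1 : mk t ∈ q := h
    rwa [ht] at h1)
  refine ⟨IsLocalization.mk' _ a ⟨t, htq⟩, (IsLocalization.map_units _ s).mul_right_cancel ?_⟩
  rw [hz, ← ht, ← hft, ← map_mul, IsLocalization.mk'_spec _ a ⟨t, htq⟩, hft]

theorem formallySmooth_localization_of_lift {C : Type u} [CommRing C] [Algebra R C] (q : Ideal C) [q.IsPrime]
    {P : Type u} [CommRing P] [Algebra R P] [IsLocalRing P] [Algebra.FormallySmooth R P]
    (f : P →ₐ[R] Localization.AtPrime q) (hf : Function.Surjective f)
    (H : ∀ (A : Type u) [CommRing A] [Algebra R A] [IsLocalRing A] (φ : A →ₐ[R] Localization.AtPrime q),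
      Function.Surjective φ → RingHom.ker φ.toRingHom ^ 2 = ⊥ →
        ∃ ψ : C →ₐ[R] A, φ.comp ψ = IsScalarTower.toAlgHom R C _) :
    Algebra.FormallySmooth R (Localization.AtPrime q) := by
  have hJ : RingHom.ker f.toRingHom ^ 2 ≠ ⊤ := fun h =>
    RingHom.ker_ne_top f.toRingHom (top_le_iff.1 (h ▸ Ideal.pow_le_self two_ne_zero))
  haveI : Nontrivial (P ⧸ RingHom.ker f.toRingHom ^ 2) := Ideal.Quotient.nontrivial_iff.2 hJ
  haveI : IsLocalRing (P ⧸ RingHom.ker f.toRingHom ^ 2) :=
    IsLocalRing.of_surjective' (Ideal.Quotient.mk _) Ideal.Quotient.mk_surjective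
  have hsurj : Function.Surjective f.kerSquareLift := fun z => by
    obtain ⟨y, rfl⟩ := hf z
    exact ⟨Ideal.Quotient.mk (RingHom.ker f.toRingHom ^ 2) y, rfl⟩
  have hker : RingHom.ker f.kerSquareLift.toRingHom ^ 2 = ⊥ := by
    rw [AlgHom.ker_kerSquareLift]
    exact Ideal.cotangentIdeal_square _
  obtain ⟨ψ, hψ'⟩ := H _ f.kerSquareLift hsurj hker
  have hψ : ∀ c, f.kerSquareLift (ψ c) = algebraMap C _ c := AlgHom.congr_fun hψ'
  haveI : IsLocalHom f.kerSquareLift.toRingHom := .of_surjective f.kerSquareLift.toRingHom hsurj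
  have hu : ∀ y : q.primeCompl, IsUnit (ψ y) := fun y =>
    (isUnit_map_iff f.kerSquareLift.toRingHom _).1 (by
      show IsUnit (f.kerSquareLift (ψ y))
      rw [hψ]
      exact IsLocalization.map_units _ y)
  refine Algebra.FormallySmooth.of_split f (IsLocalization.liftAlgHom (M := q.primeCompl) hu) ?_
  refine IsLocalization.algHom_ext q.primeCompl (AlgHom.ext fun c => ?_)
  show f.kerSquareLift (IsLocalization.lift (M := q.primeCompl) (g := ψ.toRingHom) hu (algebraMap C _ c)) = algebraMap C _ c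
  rw [IsLocalization.lift_eq]
  exact hψ c

/-- Lifting of solutions along square-zero surjections of local rings gives smoothness. -/
theorem Eqs.smooth_of_local_lift
    (H : ∀ (A B : Type u) [CommRing A] [Algebra R A] [CommRing B] [Algebra R B] [IsLocalRing A] [IsLocalRing B]
      (φ : A →ₐ[R] B), Function.Surjective φ → RingHom.ker φ.toRingHom ^ 2 = ⊥ → ∀ y : Eq.Sol B,
        ∃ x : Eq.Sol A, φ ∘ x.1 = y.1) :
    Algebra.Smooth R Eq.Coord := by
  haveI := Eq.finitePresentation
  refine { formallySmooth := (Algebra.smoothLocus_eq_univ_iff).1 (Set.eq_univ_of_forall fun q => ?_)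
           finitePresentation := inferInstance }
  show Algebra.FormallySmooth R (Localization.AtPrime q.asIdeal)
  haveI : Algebra.FormallySmooth R (Localization.AtPrime (q.asIdeal.comap
      (Ideal.Quotient.mkₐ R (Ideal.span (Set.range Eq.rels))))) := by
    haveI : Algebra.FormallySmooth (MvPolynomial σ R) (Localization.AtPrime (q.asIdeal.comap
        (Ideal.Quotient.mkₐ R (Ideal.span (Set.range Eq.rels))))) :=
      Algebra.FormallySmooth.of_isLocalization (q.asIdeal.comap
        (Ideal.Quotient.mkₐ R (Ideal.span (Set.range Eq.rels)))).primeCompl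
    exact Algebra.FormallySmooth.comp R (MvPolynomial σ R) _
  obtain ⟨f, hf⟩ := exists_surjective_localization (Ideal.Quotient.mkₐ R (Ideal.span (Set.range Eq.rels)))
    (Ideal.Quotient.mkₐ_surjective R _) q.asIdeal
  -- generalize Localization.AtPrime (q.asIdeal.comap
  refine formallySmooth_localization_of_lift q.asIdeal f hf fun A _ _ _ φ hs hk => ?_
  obtain ⟨x, hx⟩ := H A _ φ hs hk (Eq.equiv _ (IsScalarTower.toAlgHom R Eq.Coord _))
  exact ⟨(Eq.equiv _).symm x, (Eq.equiv _).injective (Subtype.ext (by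
    rw [Eq.equiv_comp, Equiv.apply_symm_apply]; exact hx))⟩

/-- A scheme over `R` with the affine points of an algebra, naturally, is its spectrum. -/
theorem exists_iso_of_natural {C : Type u} [CommRing C] [Algebra R C] {G : Over (Spec (CommRingCat.of R))}
    (Φ : ∀ (A : Type u) [CommRing A] [Algebra R A], (C →ₐ[R] A) ≃ (QuadGrp.specOver R A ⟶ G))
    (nat : ∀ (A B : Type u) [CommRing A] [Algebra R A] [CommRing B] [Algebra R B] (φ : A →ₐ[R] B)
      (ψ : C →ₐ[R] A), QuadGrp.specOverMap R φ ≫ Φ A ψ = Φ B (φ.comp ψ)) :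
    ∃ u : Spec (CommRingCat.of C) ⟶ G.left, IsIso u ∧
      u ≫ G.hom = Spec.map (CommRingCat.ofHom (algebraMap R C)) := by
  let y₀ : QuadGrp.specOver R C ⟶ G := Φ C (AlgHom.id R C)
  have key : ∀ (A : Type u) [CommRing A] [Algebra R A] (ψ : C →ₐ[R] A),
      QuadGrp.specOverMap R ψ ≫ y₀ = Φ A ψ := fun A _ _ ψ => by
    rw [nat, AlgHom.comp_id]
  have hy₀ : y₀.left ≫ G.hom = Spec.map (CommRingCat.ofHom (algebraMap R C)) := Over.w y₀
  refine ⟨y₀.left, isIso_of_affinePoints _ (fun A h => ?_) (fun A k k' hkk => ?_), hy₀⟩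
  · letI : Algebra R A := (Spec.preimage (h ≫ G.hom)).hom.toAlgebra
    let y : QuadGrp.specOver R A ⟶ G := Over.homMk h (by
      show h ≫ G.hom = Spec.map (CommRingCat.ofHom (algebraMap R A))
      exact (Spec.map_preimage (h ≫ G.hom)).symm)
    refine ⟨Spec.map (CommRingCat.ofHom ((Φ A).symm y).toRingHom), ?_⟩
    have h1 : QuadGrp.specOverMap R ((Φ A).symm y) ≫ y₀ = y := by rw [key, Equiv.apply_symm_apply]
    exact congrArg CommaMorphism.left h1
  · have hk : k ≫ Spec.map (CommRingCat.ofHom (algebraMap R C)) =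
        k' ≫ Spec.map (CommRingCat.ofHom (algebraMap R C)) := by
      rw [← hy₀]
      exact (Category.assoc _ _ _).symm.trans ((congrArg (· ≫ G.hom) hkk).trans (Category.assoc _ _ _))
    obtain ⟨φ, rfl⟩ := Spec.map_surjective k
    obtain ⟨φ', rfl⟩ := Spec.map_surjective k'
    rw [← Spec.map_comp, ← Spec.map_comp] at hk
    have hk' : φ.hom.comp (algebraMap R C) = φ'.hom.comp (algebraMap R C) :=
      congrArg CommRingCat.Hom.hom (Spec.map_injective hk)
    letI : Algebra R A := (φ.hom.comp (algebraMap R C)).toAlgebra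
    let ψ : C →ₐ[R] A := { φ.hom with commutes' := fun r => rfl }
    let ψ' : C →ₐ[R] A := { φ'.hom with commutes' := fun r => (RingHom.congr_fun hk' r).symm }
    have h1 : QuadGrp.specOverMap R ψ ≫ y₀ = QuadGrp.specOverMap R ψ' ≫ y₀ :=
      Over.OverMorphism.ext hkk
    have h2 : ψ = ψ' := (Φ A).injective (by rw [← key, ← key, h1])
    rw [CommRingCat.hom_ext (RingHom.ext fun c => AlgHom.congr_fun h2 c : φ.hom = φ'.hom)]

theorem smooth_isAffineHom_of_natural {C : Type u} [CommRing C] [Algebra R C] [Algebra.Smooth R C]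
    {G : Over (Spec (CommRingCat.of R))}
    (Φ : ∀ (A : Type u) [CommRing A] [Algebra R A], (C →ₐ[R] A) ≃ (QuadGrp.specOver R A ⟶ G))
    (nat : ∀ (A B : Type u) [CommRing A] [Algebra R A] [CommRing B] [Algebra R B] (φ : A →ₐ[R] B)
      (ψ : C →ₐ[R] A), QuadGrp.specOverMap R φ ≫ Φ A ψ = Φ B (φ.comp ψ)) :
    AlgebraicGeometry.Smooth G.hom ∧ IsAffineHom G.hom := by
  obtain ⟨u, hu, he⟩ := exists_iso_of_natural Φ nat
  constructor
  · rw [← MorphismProperty.cancel_left_of_respectsIso @AlgebraicGeometry.Smooth u G.hom, he,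
      HasRingHomProperty.Spec_iff (P := @AlgebraicGeometry.Smooth), CommRingCat.hom_ofHom,
      RingHom.smooth_algebraMap]
    infer_instance
  · rw [← MorphismProperty.cancel_left_of_respectsIso @IsAffineHom u G.hom, he]
    infer_instance

end Groth.Agent.QuadLib

end
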