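import Groth.Agent.QuadLib.HalfDisc
import Mathlib.LinearAlgebra.Transvection.Basic
import Mathlib.LinearAlgebra.Matrix.NonsingularInverse
import Mathlib.Algebra.DualNumber
import Mathlib.RingTheory.Ideal.Maximal

/-!
# The functorial centre of orthogonal groups

An endomorphism commuting with all infinitesimal rotations `1 + ε ξ_{x,y}` over the dual numbers,
`ξ_{x,y} v = B(v,x) y - B(v,y) x`, is a scalar (rank at least three, non-degenerate).
-/

set_option autoImplicit false
set_option linter.unusedSectionVars false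

noncomputable section

open scoped TensorProduct

universe u v

namespace Groth.Agent.QuadLib

section Core

variable {R : Type u} [CommRing R] {M : Type v} [AddCommGroup M] [Module R M]

variable (B : M →ₗ[R] M →ₗ[R] R)

/-- The identity obtained from commutation with the infinitesimal rotations. -/
def Commutes (g : M →ₗ[R] M) : Prop :=
  ∀ v x y : M, B v x • g y - B v y • g x = B (g v) x • y - B (g v) y • x

theorem commutes_coord {g : M →ₗ[R] M} (hg : Commutes B g) {n : ℕ}
    (b : Module.Basis (Fin n) R M) {k i l : Fin n} (hi : k ≠ i) (hl : k ≠ l) (v : M) :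
    B v (b i) * b.repr (g (b l)) k = B v (b l) * b.repr (g (b i)) k := by
  have h := congrArg (fun z => b.repr z k) (hg v (b i) (b l))
  simp [map_sub, map_smul, b.repr_self, Finsupp.single_eq_of_ne hi, Finsupp.single_eq_of_ne hl] at h
  linear_combination h

theorem commutes_diag {g : M →ₗ[R] M} (hg : Commutes B g) {n : ℕ}
    (b : Module.Basis (Fin n) R M) {i j : Fin n} (hij : i ≠ j) (v : M) :
    B v (b i) * b.repr (g (b j)) j - B v (b j) * b.repr (g (b i)) j = B (g v) (b i) := by
  have h := congrArg (fun z => b.repr z j) (hg v (b i) (b j))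
  simpa [map_sub, map_smul, b.repr_self, Finsupp.single_eq_of_ne (Ne.symm hij)] using h

/-- The `(i, l)` minor of the functionals `B v`, `B v'`. -/
def minor {n : ℕ} (b : Module.Basis (Fin n) R M) (v v' : M) (i l : Fin n) : R :=
  B v (b i) * B v' (b l) - B v (b l) * B v' (b i)

/-- Scalar up to a multiplier, in an adapted basis. -/
theorem scalar_of_minors {g : M →ₗ[R] M} (hg : Commutes B g) {n : ℕ}
    (b : Module.Basis (Fin n) R M) (v v' : M) {p q r : Fin n}
    (hpq : p ≠ q) (hpr : p ≠ r) (hqr : q ≠ r) {s : R}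
    (h12 : minor B b v v' p q ∣ s) (h32 : minor B b v v' r q ∣ s) (h13 : minor B b v v' p r ∣ s) :
    ∃ c : R, ∀ z, (s ^ 3) • (g z - c • z) = 0 := by
  set G : Fin n → Fin n → R := fun k j => b.repr (g (b j)) k
  have hoff : ∀ k j, k ≠ j → s ^ 2 * G k j = 0 := by
    intro k j hkj
    obtain ⟨i, l, hi, hl, ⟨e, he⟩⟩ : ∃ i l, k ≠ i ∧ k ≠ l ∧ minor B b v v' i l ∣ s := by
      by_cases hp : k = p
      · exact ⟨r, q, hp ▸ hpr, hp ▸ hpq, h32⟩
      · by_cases hq : k = q
        · exact ⟨p, r, hp, hq ▸ hqr, h13⟩
        · exact ⟨p, q, hp, hq, h12⟩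
    have hi0 : minor B b v v' i l * G k i = 0 := by
      have e1 := commutes_coord B hg b hl hi v
      have e2 := commutes_coord B hg b hl hi v'
      simp only [minor, G]
      linear_combination B v (b i) * e2 - B v' (b i) * e1
    have hj : minor B b v v' i l * G k j =
        (B v (b j) * B v' (b l) - B v' (b j) * B v (b l)) * G k i := by
      have e1 := commutes_coord B hg b hi hkj v
      have e2 := commutes_coord B hg b hi hkj v'
      simp only [minor, G]
      linear_combination B v' (b l) * e1 - B v (b l) * e2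
    rw [he]
    linear_combination e ^ 2 * minor B b v v' i l * hj +
      e ^ 2 * (B v (b j) * B v' (b l) - B v' (b j) * B v (b l)) * hi0
  have hdiag : ∀ j l, s ^ 3 * (G j j - G l l) = 0 := by
    intro j l
    obtain ⟨i, hij, hil, hcol⟩ : ∃ i, i ≠ j ∧ i ≠ l ∧
        ∀ d : R, d * B v (b i) = 0 → d * B v' (b i) = 0 → s * d = 0 := by
      have hp : ∀ d : R, d * B v (b p) = 0 → d * B v' (b p) = 0 → s * d = 0 := by
        intro d e1 e2; obtain ⟨e, rfl⟩ := h12
        simp only [minor]
        linear_combination e * B v' (b q) * e1 - e * B v (b q) * e2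
      have hq : ∀ d : R, d * B v (b q) = 0 → d * B v' (b q) = 0 → s * d = 0 := by
        intro d e1 e2; obtain ⟨e, rfl⟩ := h12
        simp only [minor]
        linear_combination e * B v (b p) * e2 - e * B v' (b p) * e1
      have hr : ∀ d : R, d * B v (b r) = 0 → d * B v' (b r) = 0 → s * d = 0 := by
        intro d e1 e2; obtain ⟨e, rfl⟩ := h32
        simp only [minor]
        linear_combination e * B v' (b q) * e1 - e * B v (b q) * e2
      by_cases h1 : p ≠ j ∧ p ≠ l
      · exact ⟨p, h1.1, h1.2, hp⟩
      by_cases h2 : q ≠ j ∧ q ≠ l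
      · exact ⟨q, h2.1, h2.2, hq⟩
      refine ⟨r, ?_, ?_, hr⟩ <;> (rintro rfl; simp_all)
    have key : ∀ w, s ^ 2 * (G j j - G l l) * B w (b i) = 0 := by
      intro w
      have e1 := commutes_diag B hg b hij w
      have e2 := commutes_diag B hg b hil w
      linear_combination (s ^ 2) * e1 - (s ^ 2) * e2 + B w (b j) * hoff j i (Ne.symm hij) -
        B w (b l) * hoff l i (Ne.symm hil)
    have := hcol _ (key v) (key v')
    linear_combination this
  refine ⟨G p p, fun z => ?_⟩
  have : (s ^ 3) • (g - G p p • LinearMap.id) = 0 := b.ext fun j => b.ext_elem fun k => by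
    simp only [LinearMap.smul_apply, LinearMap.sub_apply, LinearMap.id_apply, map_smul, map_sub,
      Finsupp.smul_apply, Finsupp.sub_apply, b.repr_self, smul_eq_mul, LinearMap.zero_apply,
      map_zero, Finsupp.zero_apply]
    rcases eq_or_ne k j with rfl | hkj
    · rw [Finsupp.single_eq_same, mul_one]
      exact hdiag k p
    · rw [Finsupp.single_eq_of_ne hkj, mul_zero, sub_zero]
      linear_combination s * hoff k j hkj
  simpa using LinearMap.congr_fun this z

/-- Scalar outside any maximal ideal. -/
theorem scalar_local {g : M →ₗ[R] M} (hg : Commutes B g) {n : ℕ} (hn : 3 ≤ n)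
    (b : Module.Basis (Fin n) R M) (P : Ideal R) [P.IsPrime] {v v' : M} {p q : Fin n}
    (hD : minor B b v v' p q ∉ P) :
    ∃ s ∉ P, ∃ c : R, ∀ z, s • (g z - c • z) = 0 := by
  classical
  have hpq : p ≠ q := fun h => hD (by subst h; simp [minor])
  obtain ⟨r, hrp, hrq⟩ : ∃ r : Fin n, r ≠ p ∧ r ≠ q := by
    have hlt : ({p, q} : Finset (Fin n)).card < (Finset.univ : Finset (Fin n)).card := by
      have := Finset.card_le_two (a := p) (b := q)
      rw [Finset.card_univ, Fintype.card_fin]; omega
    obtain ⟨r, -, hr⟩ := Finset.exists_mem_notMem_of_card_lt_card hlt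
    simp at hr
    exact ⟨r, hr.1, hr.2⟩
  obtain ⟨a, ha⟩ : ∃ a : R, minor B b v v' r q + a * minor B b v v' p q ∉ P := by
    by_cases h : minor B b v v' r q ∈ P
    · exact ⟨1, fun hc => hD (by simpa using P.sub_mem hc h)⟩
    · exact ⟨0, by simpa using h⟩
  obtain ⟨a', ha'⟩ : ∃ a' : R, minor B b v v' p r + a' * minor B b v v' p q ∉ P := by
    by_cases h : minor B b v v' p r ∈ P
    · exact ⟨1, fun hc => hD (by simpa using P.sub_mem hc h)⟩
    · exact ⟨0, by simpa using h⟩
  have hφ : b.coord r (a • b p + a' • b q) = 0 := by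
    simp [Finsupp.single_eq_of_ne hrp, Finsupp.single_eq_of_ne hrq]
  set b' := b.map (LinearEquiv.transvection hφ)
  have hb'r : b' r = b r + (a • b p + a' • b q) := by
    simp [b', LinearMap.transvection.apply]
  have hb' : ∀ i, i ≠ r → b' i = b i := fun i hi => by
    simp [b', LinearMap.transvection.apply, Finsupp.single_eq_of_ne (Ne.symm hi)]
  have e1 : minor B b' v v' p q = minor B b v v' p q := by
    simp only [minor, hb' p hrp.symm, hb' q hrq.symm]
  have e2 : minor B b' v v' r q = minor B b v v' r q + a * minor B b v v' p q := by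
    simp only [minor, hb'r, hb' q hrq.symm, map_add, map_smul, smul_eq_mul]
    ring
  have e3 : minor B b' v v' p r = minor B b v v' p r + a' * minor B b v v' p q := by
    simp only [minor, hb'r, hb' p hrp.symm, map_add, map_smul, smul_eq_mul]
    ring
  obtain ⟨c, hc⟩ := scalar_of_minors B hg b' v v' hpq hrp.symm hrq.symm
    (s := minor B b' v v' p q * minor B b' v v' r q * minor B b' v v' p r)
    ⟨minor B b' v v' r q * minor B b' v v' p r, by ring⟩
    ⟨minor B b' v v' p q * minor B b' v v' p r, by ring⟩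
    ⟨minor B b' v v' p q * minor B b' v v' r q, by ring⟩
  refine ⟨_, fun hmem => ?_, c, hc⟩
  have hm := Ideal.IsPrime.mem_of_pow_mem ‹_› 3 hmem
  rw [e1, e2, e3] at hm
  rcases Ideal.IsPrime.mem_or_mem ‹_› hm with h | h
  · rcases Ideal.IsPrime.mem_or_mem ‹_› h with h | h
    exacts [hD h, ha h]
  · exact ha' h

/-- Scalar, given non-vanishing minors at every maximal ideal. -/
theorem isScalar_of_commutes {g : M →ₗ[R] M} (hg : Commutes B g) {n : ℕ} (hn : 3 ≤ n)
    (b : Module.Basis (Fin n) R M)
    (hmin : ∀ P : Ideal R, P.IsMaximal → ∃ v v' p q, minor B b v v' p q ∉ P) :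
    ∃ c : R, ∀ z, g z = c • z := by
  let i₀ : Fin n := ⟨0, by omega⟩
  refine ⟨b.repr (g (b i₀)) i₀, fun z => ?_⟩
  suffices h : g = b.repr (g (b i₀)) i₀ • LinearMap.id by
    conv_lhs => rw [h]
    rfl
  refine b.ext fun j => b.ext_elem fun k => ?_
  simp only [LinearMap.smul_apply, LinearMap.id_apply, map_smul, Finsupp.smul_apply, b.repr_self,
    smul_eq_mul]
  rw [← sub_eq_zero]
  set d := b.repr (g (b j)) k - b.repr (g (b i₀)) i₀ * Finsupp.single j (1 : R) k
  by_contra hd
  let I : Ideal R :=
    { carrier := {x | x * d = 0}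
      add_mem' := fun {x y} hx hy => by
        simp only [Set.mem_setOf_eq] at hx hy ⊢; rw [add_mul, hx, hy, add_zero]
      zero_mem' := zero_mul d
      smul_mem' := fun c x hx => by
        simp only [Set.mem_setOf_eq, smul_eq_mul] at hx ⊢; rw [mul_assoc, hx, mul_zero] }
  have hI : I ≠ ⊤ := fun h => hd (by
    have : (1 : R) * d = 0 := (h ▸ Submodule.mem_top : (1 : R) ∈ I)
    simpa using this)
  obtain ⟨P, hP, hIP⟩ := Ideal.exists_le_maximal I hI
  haveI := hP.isPrime
  obtain ⟨v, v', p, q, hD⟩ := hmin P hP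
  obtain ⟨s, hs, c, hc⟩ := scalar_local B hg hn b P hD
  refine hs (hIP (show s * d = 0 from ?_))
  have h1 := congrArg (fun w => b.repr w k) (hc (b j))
  have h2 := congrArg (fun w => b.repr w i₀) (hc (b i₀))
  simp only [map_smul, map_sub, Finsupp.smul_apply, Finsupp.sub_apply, b.repr_self, smul_eq_mul,
    map_zero, Finsupp.zero_apply, Finsupp.single_eq_same, mul_one] at h1 h2
  linear_combination h1 - (Finsupp.single j (1 : R) k) * h2

end Core

end Groth.Agent.QuadLib

end
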