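import Groth.Agent.CliffStr.Global
import Groth.Agent.QuadLib.Orth

/-!
# The Dickson condition under base change

`dickson_conj`, `trivAt_bc`, `baseChangeForm_push`, `dickson_push_iff`, `exists_dickson_idem`.
-/

set_option autoImplicit false
set_option linter.unusedSectionVars false
set_option linter.style.haveILetI false

universe u v w

open CliffordAlgebra TensorProduct

namespace Groth.Agent.QuadLib

open CliffStr

variable {R : Type u} [CommRing R] {M : Type v} [AddCommGroup M] [Module R M]

/-- Isometry equivalences transport the Dickson condition. -/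
theorem dickson_conj {M' : Type w} [AddCommGroup M'] [Module R M'] [Module.Free R M] [Module.Finite R M]
    [Module.Free R M'] [Module.Finite R M'] {Q : QuadraticForm R M} {Q' : QuadraticForm R M'} (e : M ≃ₗ[R] M')
    (he : ∀ v, Q' (e v) = Q v) {g : M ≃ₗ[R] M} (hg : g ∈ QuadGrp.O Q) {g' : M' ≃ₗ[R] M'} (hg' : g' ∈ QuadGrp.O Q')
    (hc : ∀ v, g' (e v) = e (g v)) :
    QuadGrp.IsDicksonTrivial Q g hg ↔ QuadGrp.IsDicksonTrivial Q' g' hg' := by
  let E : Q.IsometryEquiv Q' := { e with map_app' := he }
  let Ψ := CliffordAlgebra.equivOfIsometry E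
  have hι : ∀ v, Ψ (ι Q v) = ι Q' (e v) := fun v => map_apply_ι _ _
  have hι' : ∀ v, Ψ.symm (ι Q' v) = ι Q (e.symm v) := fun v => by
    rw [AlgEquiv.symm_apply_eq, hι, LinearEquiv.apply_symm_apply]
  have hΨ0 : ∀ y ∈ evenOdd Q 0, Ψ y ∈ evenOdd Q' 0 := fun y hy => by
    induction y, hy using CliffordAlgebra.even_induction with
    | algebraMap r => rw [AlgEquiv.commutes]; exact algebraMap_mem_even r
    | add a c _ _ ha hc => rw [map_add]; exact add_mem ha hc
    | ι_mul_ι_mul m₁ m₂ a _ ha =>
      rw [map_mul, map_mul, hι, hι]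
      simpa using SetLike.mul_mem_graded (ι_mul_ι_mem_evenOdd_zero Q' (e m₁) (e m₂)) ha
  have hΨ0' : ∀ y ∈ evenOdd Q' 0, Ψ.symm y ∈ evenOdd Q 0 := fun y hy => by
    induction y, hy using CliffordAlgebra.even_induction with
    | algebraMap r => rw [AlgEquiv.commutes]; exact algebraMap_mem_even r
    | add a c _ _ ha hc => rw [map_add]; exact add_mem ha hc
    | ι_mul_ι_mul m₁ m₂ a _ ha =>
      rw [map_mul, map_mul, hι', hι']
      simpa using SetLike.mul_mem_graded (ι_mul_ι_mem_evenOdd_zero Q (e.symm m₁) (e.symm m₂)) ha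
  have hmap : ∀ y, Ψ (CliffordAlgebra.map (QuadGrp.isometryOfMem Q g hg) y) =
      CliffordAlgebra.map (QuadGrp.isometryOfMem Q' g' hg') (Ψ y) := fun y => by
    induction y using CliffordAlgebra.induction with
    | algebraMap r => simp
    | ι x =>
      rw [map_apply_ι, hι, hι, map_apply_ι]
      exact congrArg _ (hc x).symm
    | mul a c ha hc' => simp only [map_mul, ha, hc']
    | add a c ha hc' => simp only [map_add, ha, hc']
  rw [dickson_iff hg, dickson_iff hg']
  constructor
  · intro h y h0 hy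
    have h1 := h (Ψ.symm y) (hΨ0' y h0) fun x x' => Ψ.injective (by
      simp only [map_mul, hι, AlgEquiv.apply_symm_apply]
      exact hy (e x) (e x'))
    rw [← Ψ.apply_symm_apply y, ← hmap, h1]
  · intro h y h0 hy
    have h1 := h (Ψ y) (hΨ0 y h0) fun x x' => Ψ.symm.injective (by
      simp only [map_mul, hι', AlgEquiv.symm_apply_apply]
      exact hy (e.symm x) (e.symm x'))
    rw [← hmap] at h1
    exact Ψ.injective h1

section bc

variable [Module.Free R M] [Module.Finite R M] {Q : QuadraticForm R M} {m : ℕ}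
  (hM : Module.finrank R M = 2 * m) (hQ : QuadGrp.IsRegular Q)

include hM hQ in
theorem data_bc (B : Type u) [CommRing B] [Algebra R B] [Nontrivial B] :
    Module.finrank B (B ⊗[R] M) = 2 * m ∧ QuadGrp.IsRegular (QuadGrp.baseChangeForm B Q) := by
  haveI : Nontrivial R := (algebraMap R B).domain_nontrivial
  exact ⟨by rw [Module.finrank_baseChange, hM], regular_bcf _ (Module.finBasis R M) hQ⟩

include hM hQ in
/-- The local Dickson condition commutes with base change. -/
theorem trivAt_bc {g : M ≃ₗ[R] M} (hg : g ∈ QuadGrp.O Q) (B : Type u) [CommRing B] [Algebra R B] (q : Ideal B)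
    [q.IsPrime] : TrivAt (CliffStr.bcAut_mem B hg) q ↔ TrivAt hg (q.comap (algebraMap R B)) := by
  haveI : Nontrivial B := ⟨⟨0, 1, fun h => ‹q.IsPrime›.ne_top ((Ideal.eq_top_iff_one q).2 (h ▸ q.zero_mem))⟩⟩
  haveI : Nontrivial R := (algebraMap R B).domain_nontrivial
  set p := q.comap (algebraMap R B) with hp
  obtain ⟨hM', hQ'⟩ := data_bc hM hQ B
  obtain ⟨t, r, y, -, hr, hy⟩ := exists_near hM hQ p
  have hy' : NearArf (QuadGrp.baseChangeForm B Q) (algebraMap R B t) (algebraMap R B r) (bcHom B Q y) :=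
    { even := bcHom_mem _ Q hy.even
      rel := relation_bc B (Module.finBasis R M) hy.rel
      sq := by
        have e := congrArg (bcHom B Q) hy.sq
        rwa [map_mul, map_sub, map_mul, map_ofNat, bcHom_algebraMap, bcHom_algebraMap] at e }
  have hrq : algebraMap R B r ∉ q := hr
  obtain ⟨a1, a2, -⟩ := triv_of_near hM hQ hg p hy
  obtain ⟨b1, b2, b3⟩ := triv_of_near hM' hQ' (CliffStr.bcAut_mem B hg) q hy'
  have push : ∀ d, bcHom (Localization.AtPrime p) Q d = 0 →
      bcHom (Localization.AtPrime q) (QuadGrp.baseChangeForm B Q) (bcHom B Q d) = 0 := fun d hd => by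
    obtain ⟨s, hs, h⟩ := exists_smul_eq_zero p hd
    have e := congrArg (bcHom B Q) h
    rw [map_zero, bcHom_smul] at e
    have e2 := congrArg (bcHom (Localization.AtPrime q) (QuadGrp.baseChangeForm B Q)) e
    rw [map_zero, bcHom_smul] at e2
    exact ((IsLocalization.AtPrime.isUnit_to_map_iff (Localization.AtPrime q) q (algebraMap R B s)).2 hs).smul_eq_zero.1 e2
  have hcontra : ∀ {d1 d2 : CliffordAlgebra (QuadGrp.baseChangeForm B Q)},
      bcHom (Localization.AtPrime q) (QuadGrp.baseChangeForm B Q) d1 = 0 →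
      bcHom (Localization.AtPrime q) (QuadGrp.baseChangeForm B Q) d2 = 0 →
      algebraMap B _ (algebraMap R B t) - 2 * bcHom B Q y = d1 - d2 → False := fun h1 h2 e => b3 hrq (by
    rw [e, map_sub, h1, h2, sub_zero])
  constructor
  · intro hq
    by_contra hpn
    have h1 := b1 hq
    have h2 := push _ (a2 hpn)
    rw [map_sub (bcHom B Q), bcHom_map _ hg, map_sub (bcHom B Q), bcHom_algebraMap] at h2
    refine hcontra h1 h2 ?_
    noncomm_ring
  · intro hpt
    by_contra hqn
    have h1 := b2 hqn
    have h2 := push _ (a1 hpt)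
    rw [map_sub (bcHom B Q), bcHom_map _ hg] at h2
    refine hcontra h2 h1 ?_
    noncomm_ring

end bc

section push

variable [Module.Free R M] [Module.Finite R M] (Q : QuadraticForm R M) {A B : Type u} [CommRing A] [CommRing B]
  [Algebra R A] [Algebra R B]

/-- Pushing vectors along an algebra map respects the forms. -/
theorem baseChangeForm_push (φ : A →ₐ[R] B) (z : A ⊗[R] M) :
    QuadGrp.baseChangeForm B Q (LinearMap.rTensor M φ.toLinearMap z) = φ (QuadGrp.baseChangeForm A Q z) := by
  have key : ∀ x y : A ⊗[R] M,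
      AlgebraTensorModule.rid R B B ((QuadGrp.bilinLift Q).baseChange B (LinearMap.rTensor M φ.toLinearMap x)
        (LinearMap.rTensor M φ.toLinearMap y)) =
      φ (AlgebraTensorModule.rid R A A ((QuadGrp.bilinLift Q).baseChange A x y)) := by
    intro x y
    induction x with
    | zero => simp
    | add a c ha hc => simp only [map_add, LinearMap.add_apply, ha, hc]
    | tmul a i =>
      induction y with
      | zero => simp
      | add c d hc hd => simp only [map_add, hc, hd]
      | tmul c j =>
        simp [Algebra.smul_def, map_mul, AlgHom.commutes]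
  exact key z z

variable [Algebra A B] [IsScalarTower R A B]

/-- Cancelling a base change is an isometry. -/
theorem baseChangeForm_cancel (z : B ⊗[A] (A ⊗[R] M)) :
    QuadGrp.baseChangeForm B Q (AlgebraTensorModule.cancelBaseChange R A B B M z) =
      QuadGrp.baseChangeForm B (QuadGrp.baseChangeForm A Q) z := by
  have h : QuadraticMap.comp (QuadGrp.baseChangeForm B Q)
      (AlgebraTensorModule.cancelBaseChange R A B B M).toLinearMap =
      QuadGrp.baseChangeForm B (QuadGrp.baseChangeForm A Q) := baseChange_ext fun v => by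
    rw [QuadraticMap.comp_apply, LinearEquiv.coe_toLinearMap, bcf_tmul (B) (QuadGrp.baseChangeForm A Q) 1 v,
      one_mul, one_mul]
    have e : AlgebraTensorModule.cancelBaseChange R A B B M ((1 : B) ⊗ₜ[A] v) =
        LinearMap.rTensor M (IsScalarTower.toAlgHom R A B).toLinearMap v := by
      induction v with
      | zero => simp
      | add a c ha hc => simp only [TensorProduct.tmul_add, map_add, ha, hc]
      | tmul a i => simp [Algebra.smul_def]
    rw [e, baseChangeForm_push]
    rfl
  exact QuadraticMap.congr_fun h z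

variable {Q} {m : ℕ} (hM : Module.finrank R M = 2 * m) (hQ : QuadGrp.IsRegular Q)

include hM hQ in
/-- The Dickson condition of a pushed isometry. -/
theorem dickson_push_iff [Nontrivial B] {g : (A ⊗[R] M) ≃ₗ[A] (A ⊗[R] M)}
    (hg : g ∈ QuadGrp.O (QuadGrp.baseChangeForm A Q)) {h : (B ⊗[R] M) ≃ₗ[B] (B ⊗[R] M)}
    (hh : h ∈ QuadGrp.O (QuadGrp.baseChangeForm B Q))
    (hgh : ∀ v : M, h (1 ⊗ₜ[R] v) = LinearMap.rTensor M (IsScalarTower.toAlgHom R A B).toLinearMap (g (1 ⊗ₜ[R] v))) :
    QuadGrp.IsDicksonTrivial (QuadGrp.baseChangeForm B Q) h hh ↔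
      ∀ (q : Ideal B) [q.IsMaximal], TrivAt hg (q.comap (algebraMap A B)) := by
  haveI : Nontrivial A := (algebraMap A B).domain_nontrivial
  obtain ⟨hMA, hQA⟩ := data_bc hM hQ A
  obtain ⟨hMB, hQB⟩ := data_bc hMA hQA B
  have lin : ∀ (x : A) (w : A ⊗[R] M), LinearMap.rTensor M (IsScalarTower.toAlgHom R A B).toLinearMap (x • w) =
      algebraMap A B x • LinearMap.rTensor M (IsScalarTower.toAlgHom R A B).toLinearMap w := fun x w => by
    induction w with
    | zero => simp
    | add c d hc hd => simp only [smul_add, map_add, hc, hd]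
    | tmul c j => simp [TensorProduct.smul_tmul', Algebra.smul_def]
  have hpush : ∀ v, h (LinearMap.rTensor M (IsScalarTower.toAlgHom R A B).toLinearMap v) =
      LinearMap.rTensor M (IsScalarTower.toAlgHom R A B).toLinearMap (g v) := fun v => by
    induction v with
    | zero => simp
    | add a c ha hc => simp only [map_add, ha, hc]
    | tmul a i =>
      rw [show a ⊗ₜ[R] i = a • ((1 : A) ⊗ₜ[R] i) by rw [TensorProduct.smul_tmul', smul_eq_mul, mul_one],
        lin, map_smul, map_smul g, lin, LinearMap.rTensor_tmul, AlgHom.toLinearMap_apply, map_one, hgh]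
  have hc : ∀ z, h (AlgebraTensorModule.cancelBaseChange R A B B M z) =
      AlgebraTensorModule.cancelBaseChange R A B B M (CliffStr.bcAut B g z) := by
    have e : ∀ v : A ⊗[R] M, AlgebraTensorModule.cancelBaseChange R A B B M ((1 : B) ⊗ₜ[A] v) =
        LinearMap.rTensor M (IsScalarTower.toAlgHom R A B).toLinearMap v := fun v => by
      induction v with
      | zero => simp
      | add a c ha hc => simp only [TensorProduct.tmul_add, map_add, ha, hc]
      | tmul a i => simp [Algebra.smul_def]
    intro z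
    induction z with
    | zero => simp
    | add a c ha hc => simp only [map_add, ha, hc]
    | tmul b v =>
      have eb : b ⊗ₜ[A] v = b • ((1 : B) ⊗ₜ[A] v) := by rw [TensorProduct.smul_tmul', smul_eq_mul, mul_one]
      rw [eb, map_smul, map_smul, map_smul, map_smul, CliffStr.bcAut_tmul, e, e, hpush]
  rw [← dickson_conj (AlgebraTensorModule.cancelBaseChange R A B B M) (baseChangeForm_cancel Q)
    (CliffStr.bcAut_mem B hg) hh hc]
  constructor
  · intro hd q _
    exact (trivAt_bc hMA hQA hg B q).1 (trivAt_of_trivial hMB hQB (CliffStr.bcAut_mem B hg) hd q)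
  · intro H
    exact trivial_of_trivAt hMB hQB (CliffStr.bcAut_mem B hg) fun q _ => (trivAt_bc hMA hQA hg B q).2 (H q)

include hM hQ in
/-- An idempotent detects the Dickson condition after base change. -/
theorem exists_dickson_idem {g : (A ⊗[R] M) ≃ₗ[A] (A ⊗[R] M)}
    (hg : g ∈ QuadGrp.O (QuadGrp.baseChangeForm A Q)) :
    ∃ e : A, IsIdempotentElem e ∧ ∀ (B : Type u) [CommRing B] [Algebra R B] [Nontrivial B] (φ : A →ₐ[R] B)
      (h : (B ⊗[R] M) ≃ₗ[B] (B ⊗[R] M)) (hh : h ∈ QuadGrp.O (QuadGrp.baseChangeForm B Q)),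
      (∀ v : M, h (1 ⊗ₜ[R] v) = LinearMap.rTensor M φ.toLinearMap (g (1 ⊗ₜ[R] v))) →
      (QuadGrp.IsDicksonTrivial (QuadGrp.baseChangeForm B Q) h hh ↔ IsUnit (φ e)) := by
  rcases subsingleton_or_nontrivial A with hA | hA
  · refine ⟨1, IsIdempotentElem.one, fun B _ _ _ φ _ _ _ => ?_⟩
    haveI : Nontrivial A := φ.toRingHom.domain_nontrivial
    exact absurd hA (not_subsingleton A)
  obtain ⟨hMA, hQA⟩ := data_bc hM hQ A
  obtain ⟨e, he, hs⟩ :=
    PrimeSpectrum.exists_idempotent_basicOpen_eq_of_isClopen (isClopen_trivLocus hMA hQA hg)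
  refine ⟨e, he, fun B _ _ _ φ h hh hgh => ?_⟩
  letI : Algebra A B := φ.toRingHom.toAlgebra
  haveI : IsScalarTower R A B := IsScalarTower.of_algebraMap_eq fun r => (φ.commutes r).symm
  rw [dickson_push_iff hM hQ hg hh hgh]
  have hmem : ∀ (p : Ideal A) [p.IsPrime], TrivAt hg p ↔ e ∉ p := fun p _ =>
    (Set.ext_iff.1 hs ⟨p, inferInstance⟩).trans Iff.rfl
  constructor
  · intro H
    by_contra hu
    obtain ⟨q, hq, hmq⟩ := exists_max_ideal_of_mem_nonunits hu
    exact (hmem _).1 (H q) hmq
  · intro hu q _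
    exact (hmem _).2 fun hm => (inferInstance : q.IsPrime).ne_top (q.eq_top_of_isUnit_mem hm hu)

end push

end Groth.Agent.QuadLib
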