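import Groth.Agent.QuadLib.RelDim
import Groth.Agent.CAlgH3.Components
import Mathlib.AlgebraicGeometry.Fiber
import Mathlib.AlgebraicGeometry.Morphisms.Smooth
import Mathlib.RingTheory.Jacobson.Ring
import Mathlib.FieldTheory.IsAlgClosed.AlgebraicClosure

/-!
# Connected fibres from curves between geometric points

`connectedSpace_of_points`, `idem_const_of_family`, `sol_of_evals`, `smoothOfRelativeDimension_connected_of_iso`.
-/

set_option autoImplicit false
set_option linter.unusedSectionVars false
set_option linter.style.haveILetI false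

noncomputable section

open CategoryTheory AlgebraicGeometry TensorProduct

universe u

namespace Groth.Agent.QuadLib

/-- A finitely generated algebra over an algebraically closed field is connected when idempotents take
equal values at all points and there is a point. -/
theorem connectedSpace_of_points {k S : Type u} [Field k] [IsAlgClosed k] [CommRing S] [Algebra k S]
    [Algebra.FiniteType k S] (x : S →ₐ[k] k)
    (h : ∀ e : S, IsIdempotentElem e → ∀ f g : S →ₐ[k] k, f e = g e) : ConnectedSpace (PrimeSpectrum S) := by
  haveI : IsJacobsonRing S := isJacobsonRing_of_finiteType (A := k)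
  have zero_of : ∀ e : S, IsIdempotentElem e → (∀ f : S →ₐ[k] k, f e = 0) → e = 0 := by
    intro e he hf
    have hj : e ∈ (⊥ : Ideal S).jacobson := by
      rw [Ideal.jacobson, Submodule.mem_sInf]
      rintro m ⟨-, hm⟩
      letI := Ideal.Quotient.field m
      haveI : Algebra.FiniteType k (S ⧸ m) :=
        Algebra.FiniteType.of_surjective (Ideal.Quotient.mkₐ k m) (Ideal.Quotient.mkₐ_surjective k m)
      haveI := finite_of_finite_type_of_isJacobsonRing k (S ⧸ m)
      let ε : (S ⧸ m) ≃ₐ[k] k := (AlgEquiv.ofBijective (Algebra.ofId k (S ⧸ m))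
        (IsAlgClosed.algebraMap_bijective_of_isIntegral)).symm
      have := hf (ε.toAlgHom.comp (Ideal.Quotient.mkₐ k m))
      exact Ideal.Quotient.eq_zero_iff_mem.1 ((map_eq_zero_iff ε ε.injective).1 this)
    have h2 : e ∈ nilradical S := by
      have h3 : (nilradical S).jacobson = nilradical S := IsJacobsonRing.out ‹_› (Ideal.radical_isRadical _)
      exact h3.le (Ideal.jacobson_mono bot_le hj)
    exact he.eq_zero_of_isNilpotent h2
  haveI : Nontrivial S := x.toRingHom.domain_nontrivial
  haveI : PreconnectedSpace (PrimeSpectrum S) := CAlgH3.preconnectedSpace_of_idempotents fun e he => by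
    rcases IsIdempotentElem.iff_eq_zero_or_one.1 (he.map x) with h0 | h1
    · exact Or.inl (zero_of e he fun f => (h e he f x).trans h0)
    · refine Or.inr (sub_eq_zero.1 (zero_of (1 - e) he.one_sub fun f => ?_)).symm
      rw [map_sub, map_one, h e he f x, h1, sub_self]
  exact { toNonempty := inferInstance }

/-- Solutions in a domain from solutions at a separating family of points. -/
theorem MatEqs.eval_zero {R : Type u} [CommRing R] {n : ℕ} {κ : Type} [Finite κ] (Eq : MatEqs R n κ)
    {D k : Type u} [CommRing D] [Algebra R D] [CommRing k] [Algebra R k] {ι : Type*} (ev : ι → D →ₐ[R] k)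
    (hev : ∀ x, (∀ t, ev t x = 0) → x = 0) (Γ : Matrix (Fin n) (Fin n) D)
    (h : ∀ t s, Eq.E k (Γ.map (ev t)) s = 0) (s : κ) : Eq.E D Γ s = 0 :=
  hev _ fun t => by rw [Eq.map, h]

variable {R : Type u} [CommRing R] {C : Type u} [CommRing C] [Algebra R C]

theorem exists_prime_over {k : Type u} [Field k] [Algebra R k] (p : Ideal R) [p.IsPrime]
    (hk : RingHom.ker (algebraMap R k) = p) (q : PrimeSpectrum C) (hq : q.asIdeal.comap (algebraMap R C) = p) :
    ∃ P : PrimeSpectrum (k ⊗[R] C),
      PrimeSpectrum.comap (Algebra.TensorProduct.includeRight (R := R) (A := k) (B := C)).toRingHom P = q := by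
  let K := p.ResidueField
  let L := q.asIdeal.ResidueField
  letI : Algebra K k := (Ideal.ResidueField.lift p (algebraMap R k) hk.ge (fun r hr => by
    rw [Submonoid.mem_comap, IsUnit.mem_submonoid_iff, isUnit_iff_ne_zero, Ne, ← RingHom.mem_ker, hk]
    exact hr)).toAlgebra
  haveI : IsScalarTower R K k := IsScalarTower.of_algebraMap_eq fun r => by simp [RingHom.algebraMap_toAlgebra, K]
  letI : Algebra K L := (Ideal.ResidueField.map p q.asIdeal (algebraMap R C) hq.symm).toAlgebra
  haveI : IsScalarTower R K L := IsScalarTower.of_algebraMap_eq fun r => by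
    simp [RingHom.algebraMap_toAlgebra, K, L, IsScalarTower.algebraMap_apply R C q.asIdeal.ResidueField]
  let ψ : k ⊗[R] C →ₐ[R] k ⊗[K] L :=
    Algebra.TensorProduct.lift ((Algebra.TensorProduct.includeLeft (R := K) (S := K) (A := k) (B := L)).restrictScalars R)
      (((Algebra.TensorProduct.includeRight (R := K) (A := k) (B := L)).restrictScalars R).comp
        (IsScalarTower.toAlgHom R C L)) fun _ _ => Commute.all _ _
  haveI : Nontrivial (k ⊗[K] L) := inferInstance
  obtain ⟨m, hm⟩ := Ideal.exists_maximal (k ⊗[K] L)
  let π : L →+* k ⊗[K] L ⧸ m :=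
    (Ideal.Quotient.mk m).comp (Algebra.TensorProduct.includeRight (R := K) (A := k) (B := L)).toRingHom
  haveI : Nontrivial (k ⊗[K] L ⧸ m) := Ideal.Quotient.nontrivial_iff.2 hm.ne_top
  refine ⟨PrimeSpectrum.comap ψ.toRingHom ⟨m, hm.isPrime⟩, PrimeSpectrum.ext (Ideal.ext fun c => ?_)⟩
  show ψ ((1 : k) ⊗ₜ[R] c) ∈ m ↔ c ∈ q.asIdeal
  rw [← Ideal.algebraMap_residueField_eq_zero (I := q.asIdeal), ← map_eq_zero_iff π π.injective,
    ← Ideal.Quotient.eq_zero_iff_mem]
  simp [ψ, π, L]

theorem isConnected_fibre {k : Type u} [Field k] [Algebra R k] (p : PrimeSpectrum R)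
    (hk : RingHom.ker (algebraMap R k) = p.asIdeal) [ConnectedSpace (PrimeSpectrum (k ⊗[R] C))] :
    _root_.IsConnected ((PrimeSpectrum.comap (algebraMap R C)) ⁻¹' {p}) := by
  let ir := (Algebra.TensorProduct.includeRight (R := R) (A := k) (B := C)).toRingHom
  have he : (PrimeSpectrum.comap (algebraMap R C)) ⁻¹' {p} = Set.range (PrimeSpectrum.comap ir) := by
    ext q
    constructor
    · intro hq
      exact exists_prime_over p.asIdeal hk q (congrArg PrimeSpectrum.asIdeal hq)
    · rintro ⟨P, rfl⟩
      refine PrimeSpectrum.ext (Eq.trans ?_ hk)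
      ext r
      show ir (algebraMap R C r) ∈ P.asIdeal ↔ r ∈ RingHom.ker (algebraMap R k)
      rw [show ir (algebraMap R C r) = algebraMap k (k ⊗[R] C) (algebraMap R k r) from
        ((Algebra.TensorProduct.includeRight (R := R) (A := k) (B := C)).commutes r).trans
          (IsScalarTower.algebraMap_apply R k _ r), RingHom.mem_ker]
      constructor
      · intro h
        by_contra hne
        exact P.isPrime.ne_top (P.asIdeal.eq_top_of_isUnit_mem h ((isUnit_iff_ne_zero.2 hne).map _))
      · intro h
        rw [h, map_zero]
        exact P.asIdeal.zero_mem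
  rw [he]
  exact isConnected_range (PrimeSpectrum.continuous_comap _)

/-- Relative dimension and connected fibres through a presentation as a spectrum. -/
theorem smoothOfRelativeDimension_connected_of_iso {G : Over (Spec (CommRingCat.of R))} (d : ℕ)
    (u : Spec (CommRingCat.of C) ⟶ G.left) [IsIso u]
    (he : u ≫ G.hom = Spec.map (CommRingCat.ofHom (algebraMap R C)))
    (hd : RingHom.Locally (RingHom.IsStandardSmoothOfRelativeDimension d) (algebraMap R C))
    (hc : ∀ (k : Type u) [Field k] [IsAlgClosed k] [Algebra R k], ConnectedSpace (PrimeSpectrum (k ⊗[R] C))) :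
    SmoothOfRelativeDimension d G.hom ∧
      ∀ s : ↥(Spec (CommRingCat.of R)), ConnectedSpace ↥(G.hom.fiber s) := by
  constructor
  · rw [← MorphismProperty.cancel_left_of_respectsIso (@SmoothOfRelativeDimension d) u G.hom, he,
      HasRingHomProperty.Spec_iff (P := @SmoothOfRelativeDimension d)]
    exact hd
  · intro s
    let p : PrimeSpectrum R := s
    let k := AlgebraicClosure p.asIdeal.ResidueField
    haveI := hc k
    have hk : RingHom.ker (algebraMap R k) = p.asIdeal := by
      rw [IsScalarTower.algebraMap_eq R p.asIdeal.ResidueField k, RingHom.ker_comp_of_injective _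
        (algebraMap p.asIdeal.ResidueField k).injective, Ideal.ker_algebraMap_residueField]
    have h1 : _root_.IsConnected (G.hom ⁻¹' {s}) := by
      have h2 : G.hom ⁻¹' {s} = u '' ((PrimeSpectrum.comap (algebraMap R C)) ⁻¹' {p}) := by
        have hbase : ∀ z, G.hom (u z) = PrimeSpectrum.comap (algebraMap R C) z := fun z => by
          rw [← Scheme.Hom.comp_apply, he]
          rfl
        ext x
        constructor
        · intro hx
          have hux : u ((inv u) x) = x := by rw [← Scheme.Hom.comp_apply, IsIso.inv_hom_id]; rfl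
          refine ⟨(inv u) x, ?_, hux⟩
          show PrimeSpectrum.comap (algebraMap R C) ((inv u) x) = p
          rw [← hbase, hux]
          exact hx
        · rintro ⟨z, hz, rfl⟩
          show G.hom (u z) = s
          rw [hbase]
          exact hz
      rw [h2]
      exact (isConnected_fibre p hk).image _ u.continuous.continuousOn
    haveI := isConnected_iff_connectedSpace.1 h1
    exact (G.hom.fiberHomeo s).symm.surjective.connectedSpace (G.hom.fiberHomeo s).symm.continuous

end Groth.Agent.QuadLib

end
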