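import Groth.Prelude.Def_QuadGrp
import Mathlib.FieldTheory.IsAlgClosed.Basic
import Mathlib.LinearAlgebra.Dimension.Finrank
import Mathlib.LinearAlgebra.FiniteDimensional.Basic

/-!
# Eichler transformations generate the special orthogonal group over an algebraically closed field

`eichler`, `torus`, `refl`, `gens`, `mem_closure_gens`: every element of a subgroup `S` of the orthogonal group
containing the generators and no reflection lies in their closure.
-/

set_option autoImplicit false
set_option linter.unusedSectionVars false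

universe u v

namespace Groth.Agent.QuadLib

variable {k : Type u} [Field k] {V : Type v} [AddCommGroup V] [Module k V] (Q : QuadraticForm k V)

local notation "B" => QuadraticMap.polar Q

theorem polar_add_left' (x y z : V) : B (x + y) z = B x z + B y z := QuadraticMap.polar_add_left Q x y z

/-- The underlying map of an Eichler transformation. -/
noncomputable def eichlerLin (p w : V) : V →ₗ[k] V :=
  LinearMap.id + (QuadraticMap.polarBilin Q w).smulRight p - (QuadraticMap.polarBilin Q p).smulRight w -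
    (Q w) • (QuadraticMap.polarBilin Q p).smulRight p

theorem eichlerLin_apply (p w x : V) :
    eichlerLin Q p w x = x + B w x • p - B p x • w - (Q w * B p x) • p := by
  simp [eichlerLin, smul_smul]

theorem eichlerLin_comp {p w : V} (hp : Q p = 0) (hpw : B p w = 0) (x : V) :
    eichlerLin Q p w (eichlerLin Q p (-w) x) = x := by
  have hpp : B p p = 0 := by rw [QuadraticMap.polar_self, hp, nsmul_zero]
  have hwp : B w p = 0 := by rw [QuadraticMap.polar_comm, hpw]
  have hww : B w w = 2 * Q w := by rw [QuadraticMap.polar_self]; simp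
  simp only [eichlerLin_apply, QuadraticMap.polar_neg_left, QuadraticMap.map_neg, neg_smul, smul_neg,
    sub_neg_eq_add, QuadraticMap.polar_add_right, QuadraticMap.polar_sub_right, QuadraticMap.polar_neg_right,
    QuadraticMap.polar_smul_right, smul_eq_mul, hpp, hwp, hpw, hww, mul_zero, neg_zero, add_zero, sub_zero]
  module

/-- An Eichler transformation. -/
noncomputable def eichler {p w : V} (hp : Q p = 0) (hpw : B p w = 0) : V ≃ₗ[k] V :=
  { eichlerLin Q p w with
    invFun := eichlerLin Q p (-w)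
    left_inv := fun x => by
      have := eichlerLin_comp Q hp (w := -w) (by rw [QuadraticMap.polar_neg_right, hpw, neg_zero]) x
      rwa [neg_neg] at this
    right_inv := eichlerLin_comp Q hp hpw }

theorem eichler_apply {p w : V} (hp : Q p = 0) (hpw : B p w = 0) (x : V) :
    eichler Q hp hpw x = x + B w x • p - B p x • w - (Q w * B p x) • p := eichlerLin_apply Q p w x

theorem eichler_mem {p w : V} (hp : Q p = 0) (hpw : B p w = 0) : eichler Q hp hpw ∈ QuadGrp.O Q := by
  intro x
  rw [eichler_apply]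
  have h : x + B w x • p - B p x • w - (Q w * B p x) • p =
      x + ((B w x - Q w * B p x) • p + (-B p x) • w) := by module
  rw [h, QuadraticMap.map_add (⇑Q) x, QuadraticMap.map_add (⇑Q) ((B w x - Q w * B p x) • p),
    QuadraticMap.map_smul, QuadraticMap.map_smul, QuadraticMap.polar_smul_left, QuadraticMap.polar_smul_right, hpw, hp,
    QuadraticMap.polar_add_right, QuadraticMap.polar_smul_right, QuadraticMap.polar_smul_right,
    QuadraticMap.polar_comm Q x p, QuadraticMap.polar_comm Q x w]
  simp only [smul_eq_mul]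
  ring

/-- The underlying map of the torus of a hyperbolic pair. -/
noncomputable def torusLin (p q : V) (s t : k) : V →ₗ[k] V :=
  LinearMap.id + (s - 1) • (QuadraticMap.polarBilin Q q).smulRight p +
    (t - 1) • (QuadraticMap.polarBilin Q p).smulRight q

theorem torusLin_apply (p q : V) (s t : k) (x : V) :
    torusLin Q p q s t x = x + ((s - 1) * B q x) • p + ((t - 1) * B p x) • q := by
  simp [torusLin, smul_smul]

theorem torusLin_comp {p q : V} (hp : Q p = 0) (hq : Q q = 0) (hpq : B p q = 1) {s t : k} (hst : s * t = 1)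
    (x : V) : torusLin Q p q s t (torusLin Q p q t s x) = x := by
  have hpp : B p p = 0 := by rw [QuadraticMap.polar_self, hp, nsmul_zero]
  have hqq : B q q = 0 := by rw [QuadraticMap.polar_self, hq, nsmul_zero]
  have hqp : B q p = 1 := by rw [QuadraticMap.polar_comm, hpq]
  simp only [torusLin_apply, QuadraticMap.polar_add_right, QuadraticMap.polar_smul_right, smul_eq_mul, hpp, hqq, hpq,
    hqp, mul_zero, add_zero, mul_one]
  match_scalars
  · ring
  · linear_combination (B q x) * hst
  · linear_combination (B p x) * hst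

/-- The torus of a hyperbolic pair. -/
noncomputable def torus {p q : V} (hp : Q p = 0) (hq : Q q = 0) (hpq : B p q = 1) (c : kˣ) : V ≃ₗ[k] V :=
  { torusLin Q p q c ↑c⁻¹ with
    invFun := torusLin Q p q ↑c⁻¹ c
    left_inv := torusLin_comp Q hp hq hpq (Units.inv_mul c)
    right_inv := torusLin_comp Q hp hq hpq (Units.mul_inv c) }

theorem torus_apply {p q : V} (hp : Q p = 0) (hq : Q q = 0) (hpq : B p q = 1) (c : kˣ) (x : V) :
    torus Q hp hq hpq c x = x + (((c : k) - 1) * B q x) • p + (((↑c⁻¹ : k) - 1) * B p x) • q :=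
  torusLin_apply Q p q _ _ x

theorem torus_mem {p q : V} (hp : Q p = 0) (hq : Q q = 0) (hpq : B p q = 1) (c : kˣ) :
    torus Q hp hq hpq c ∈ QuadGrp.O Q := by
  intro x
  rw [torus_apply, add_assoc, QuadraticMap.map_add (⇑Q) x,
    QuadraticMap.map_add (⇑Q) ((((c : k) - 1) * B q x) • p),
    QuadraticMap.map_smul, QuadraticMap.map_smul, QuadraticMap.polar_smul_left, QuadraticMap.polar_smul_right, hpq,
    hp, hq, QuadraticMap.polar_add_right, QuadraticMap.polar_smul_right, QuadraticMap.polar_smul_right,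
    QuadraticMap.polar_comm Q x p, QuadraticMap.polar_comm Q x q]
  simp only [smul_eq_mul]
  linear_combination (B q x * B p x) * (Units.mul_inv c)

/-- The generators: Eichler transformations and tori of hyperbolic pairs. -/
def gens : Set (V ≃ₗ[k] V) :=
  {h | (∃ (p w : V) (hp : Q p = 0) (hpw : B p w = 0), h = eichler Q hp hpw) ∨
    ∃ (p q : V) (hp : Q p = 0) (hq : Q q = 0) (hpq : B p q = 1) (c : kˣ), h = torus Q hp hq hpq c}

/-- A map is a reflection. -/
def IsRefl (g : V ≃ₗ[k] V) : Prop := ∃ e, Q e ≠ 0 ∧ ∀ x, g x = x - (B e x / Q e) • e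

/-- The subgroup generated by the generators acting trivially on a subspace. -/
def fixOn (U : Submodule k V) : Subgroup (V ≃ₗ[k] V) where
  carrier := {h | h ∈ Subgroup.closure (gens Q) ∧ ∀ x ∈ U, h x = x}
  one_mem' := ⟨one_mem _, fun _ _ => rfl⟩
  mul_mem' := fun {a c} ha hc => ⟨mul_mem ha.1 hc.1, fun x hx => by
    show a (c x) = x
    rw [hc.2 x hx, ha.2 x hx]⟩
  inv_mem' := fun {a} ha => ⟨inv_mem ha.1, fun x hx => by
    show a.symm x = x
    exact a.symm_apply_eq.2 (ha.2 x hx).symm⟩

theorem eichler_mem_fixOn {U : Submodule k V} {p w : V} (hp : Q p = 0) (hpw : B p w = 0)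
    (hpU : ∀ x ∈ U, B p x = 0) (hwU : ∀ x ∈ U, B w x = 0) : eichler Q hp hpw ∈ fixOn Q U :=
  ⟨Subgroup.subset_closure (Or.inl ⟨p, w, hp, hpw, rfl⟩), fun x hx => by
    rw [eichler_apply, hpU x hx, hwU x hx]; simp⟩

theorem torus_mem_fixOn {U : Submodule k V} {p q : V} (hp : Q p = 0) (hq : Q q = 0) (hpq : B p q = 1) (c : kˣ)
    (hpU : ∀ x ∈ U, B p x = 0) (hqU : ∀ x ∈ U, B q x = 0) : torus Q hp hq hpq c ∈ fixOn Q U :=
  ⟨Subgroup.subset_closure (Or.inr ⟨p, q, hp, hq, hpq, c, rfl⟩), fun x hx => by
    rw [torus_apply, hpU x hx, hqU x hx]; simp⟩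

theorem exists_scalar_ne [IsAlgClosed k] {a c : k} (h : a ≠ 0 ∨ c ≠ 0) : ∃ t : k, t * a + t * t * c ≠ 0 := by
  by_contra hne
  push Not at hne
  classical
  obtain ⟨s, hs⟩ := Infinite.exists_notMem_finset ({0, 1} : Finset k)
  simp only [Finset.mem_insert, Finset.mem_singleton, not_or] at hs
  have h1 := hne 1
  have h2 := hne s
  have h3 : (s * s - s) * c = 0 := by linear_combination h2 - s * h1
  have hss : s * s - s ≠ 0 := by
    rw [show s * s - s = s * (s - 1) by ring]
    exact mul_ne_zero hs.1 (sub_ne_zero.2 hs.2)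
  have hc : c = 0 := (mul_eq_zero.1 h3).resolve_left hss
  rcases h with h | h
  · exact h (by linear_combination h1 - hc)
  · exact h hc

variable [IsAlgClosed k] [FiniteDimensional k V]

theorem exists_hyperbolic {W : Submodule k V} (hN : ∀ x ∈ W, (∀ y ∈ W, B x y = 0) → Q x = 0 → x = 0)
    (h2 : 2 ≤ Module.finrank k W) :
    ∃ p ∈ W, ∃ q ∈ W, Q p = 0 ∧ Q q = 0 ∧ B p q = 1 := by
  obtain ⟨p, hp, hp0, hQp⟩ : ∃ p ∈ W, p ≠ 0 ∧ Q p = 0 := by
    let bW := Module.finBasis k W
    let x : V := (bW ⟨0, by omega⟩ : W)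
    let y : V := (bW ⟨1, by omega⟩ : W)
    have hx : x ∈ W := (bW ⟨0, by omega⟩).2
    have hy : y ∈ W := (bW ⟨1, by omega⟩).2
    by_cases hQx : Q x = 0
    · exact ⟨x, hx, fun h => bW.ne_zero ⟨0, by omega⟩ (Subtype.ext h), hQx⟩
    · obtain ⟨a, ha⟩ := IsAlgClosed.exists_root
        (Polynomial.C (Q x) * Polynomial.X ^ 2 + Polynomial.C (B x y) * Polynomial.X + Polynomial.C (Q y))
        (by rw [Polynomial.degree_quadratic hQx]; decide)
      refine ⟨a • x + y, add_mem (W.smul_mem a hx) hy, fun h => ?_, ?_⟩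
      · have h0 : a • bW ⟨0, by omega⟩ + bW ⟨1, by omega⟩ = 0 := Subtype.ext h
        have := congrArg (fun z => bW.repr z ⟨1, by omega⟩) h0
        simp at this
      · simp only [Polynomial.IsRoot.def, Polynomial.eval_add, Polynomial.eval_mul, Polynomial.eval_pow,
          Polynomial.eval_C, Polynomial.eval_X] at ha
        rw [QuadraticMap.map_add (⇑Q), QuadraticMap.map_smul, QuadraticMap.polar_smul_left, ← ha, smul_eq_mul,
          smul_eq_mul]
        ring
  obtain ⟨y, hy, hpy⟩ : ∃ y ∈ W, B p y ≠ 0 := by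
    by_contra h
    push Not at h
    exact hp0 (hN p hp h hQp)
  let y' := (B p y)⁻¹ • y
  have hy' : B p y' = 1 := by rw [QuadraticMap.polar_smul_right, smul_eq_mul, inv_mul_cancel₀ hpy]
  have hy'' : y' ∈ W := W.smul_mem _ hy
  clear_value y'
  refine ⟨p, hp, y' - Q y' • p, sub_mem hy'' (W.smul_mem _ hp), hQp, ?_, ?_⟩
  · rw [sub_eq_add_neg, ← neg_smul, QuadraticMap.map_add (⇑Q), QuadraticMap.map_smul,
      QuadraticMap.polar_smul_right, QuadraticMap.polar_comm Q y' p, hy', hQp]
    simp
  · rw [QuadraticMap.polar_sub_right, QuadraticMap.polar_smul_right, hy', QuadraticMap.polar_self, hQp]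
    simp

variable (S : Subgroup (V ≃ₗ[k] V))
  (hgen : gens Q ⊆ (S : Set (V ≃ₗ[k] V))) (hSO : S ≤ QuadGrp.O Q)
  (hrefl : Even (Module.finrank k V) ∨ (2 : k) ≠ 0 → ∀ g ∈ S, ¬ IsRefl Q g)

include hgen hSO hrefl in
theorem mem_closure_aux (d : ℕ) : ∀ (U W : Submodule k V), Module.finrank k W = d → Even (Module.finrank k U) →
    IsCompl W U → (∀ x ∈ W, ∀ y ∈ U, B x y = 0) → (∀ x ∈ U, (∀ y ∈ U, B x y = 0) → x = 0) →
    (∀ x ∈ W, (∀ y ∈ W, B x y = 0) → Q x = 0 → x = 0) →
    ∀ g ∈ S, (∀ x ∈ U, g x = x) → g ∈ Subgroup.closure (gens Q) := by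
  induction d using Nat.strong_induction_on with
  | _ d ih =>
  intro U W hd hUeven hc hWU hU hW g hg hgU
  have hgO : ∀ x, Q (g x) = Q x := hSO hg
  have hgB : ∀ x y, B (g x) (g y) = B x y := fun x y => by
    simp only [QuadraticMap.polar, ← map_add, hgO]
  have hgW : ∀ x ∈ W, g x ∈ W := by
    intro x hx
    obtain ⟨w, hw, z, hz, e⟩ := Submodule.mem_sup.1 (hc.sup_eq_top.ge (Submodule.mem_top (x := g x)))
    have hz0 : z = 0 := hU z hz fun y hy => by
      have h := hgB x y
      rwa [hgU y hy, hWU x hx y hy, ← e, QuadraticMap.polar_add_left, hWU w hw y hy, zero_add] at h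
    rw [← e, hz0, add_zero]
    exact hw
  have hext : ∀ h : V ≃ₗ[k] V, (∀ x ∈ W, h x = g x) → (∀ x ∈ U, h x = x) → h = g := by
    intro h h1 h2
    refine LinearEquiv.ext fun x => ?_
    obtain ⟨w, hw, z, hz, rfl⟩ := Submodule.mem_sup.1 (hc.sup_eq_top.ge (Submodule.mem_top (x := x)))
    rw [map_add, map_add, h1 w hw, h2 z hz, hgU z hz]
  rcases Nat.lt_or_ge d 2 with hlt | hge
  · rcases Nat.eq_zero_or_pos d with h0 | h0
    · have : g = 1 := (hext 1 (fun x hx => by
        have hx0 : x = 0 := by
          have hbot : W = ⊥ := Submodule.finrank_eq_zero.1 (hd.trans h0)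
          rw [hbot] at hx
          exact hx
        simp [hx0]) fun x _ => rfl).symm
      exact this ▸ one_mem _
    · have hd1 : Module.finrank k W = 1 := by omega
      obtain ⟨⟨z, hz⟩, hz0, hspan⟩ := finrank_eq_one_iff'.1 hd1
      have hzne : z ≠ 0 := fun h => hz0 (Subtype.ext h)
      have hline : ∀ y ∈ W, ∃ c : k, y = c • z := fun y hy => by
        obtain ⟨c, hc'⟩ := hspan ⟨y, hy⟩
        exact ⟨c, (congrArg Subtype.val hc').symm⟩
      have hQz : Q z ≠ 0 := fun h => hzne (hW z hz (fun y hy => by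
        obtain ⟨c, rfl⟩ := hline y hy
        rw [QuadraticMap.polar_smul_right, QuadraticMap.polar_self, h, nsmul_zero, smul_zero]) h)
      obtain ⟨c, hc'⟩ := hline _ (hgW z hz)
      have hc2 : c * c = 1 := by
        have h := hgO z
        rw [hc', QuadraticMap.map_smul, smul_eq_mul] at h
        exact mul_right_cancel₀ hQz (h.trans (one_mul _).symm)
      rcases eq_or_ne c 1 with rfl | hc1
      · have : g = 1 := (hext 1 (fun x hx => by
          obtain ⟨a, rfl⟩ := hline x hx
          rw [map_smul, map_smul, hc', one_smul]; rfl) fun x _ => rfl).symm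
        exact this ▸ one_mem _
      · have hcn : c = -1 := (mul_self_eq_one_iff.1 hc2).resolve_left hc1
        have h20 : (2 : k) ≠ 0 := fun h => hc1 (by rw [hcn]; linear_combination -h)
        refine absurd ⟨z, hQz, fun x => ?_⟩ (hrefl (Or.inr h20) g hg)
        obtain ⟨w, hw, y, hy, rfl⟩ := Submodule.mem_sup.1 (hc.sup_eq_top.ge (Submodule.mem_top (x := x)))
        obtain ⟨a, rfl⟩ := hline w hw
        rw [map_add, map_smul, hc', hgU y hy, hcn, QuadraticMap.polar_add_right, hWU z hz y hy, add_zero,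
          QuadraticMap.polar_smul_right, QuadraticMap.polar_self, smul_smul,
          show a • (2 • Q z) / Q z = 2 * a by rw [smul_eq_mul, nsmul_eq_mul]; field_simp; simp]
        module
  obtain ⟨p, hpW, q, hqW, hp, hq, hpq⟩ := exists_hyperbolic Q hW (hd ▸ hge)
  have hpp : B p p = 0 := by rw [QuadraticMap.polar_self, hp, nsmul_zero]
  have hqq : B q q = 0 := by rw [QuadraticMap.polar_self, hq, nsmul_zero]
  have hqp : B q p = 1 := by rw [QuadraticMap.polar_comm, hpq]
  let W' : Submodule k V :=
    W ⊓ LinearMap.ker (QuadraticMap.polarBilin Q p) ⊓ LinearMap.ker (QuadraticMap.polarBilin Q q)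
  have hmem : ∀ {x}, x ∈ W' ↔ (x ∈ W ∧ B p x = 0) ∧ B q x = 0 := by
    intro x; simp [W', Submodule.mem_inf, LinearMap.mem_ker]
  have hdec : ∀ x ∈ W, x - B q x • p - B p x • q ∈ W' := fun x hx => by
    refine hmem.2 ⟨⟨sub_mem (sub_mem hx (W.smul_mem _ hpW)) (W.smul_mem _ hqW), ?_⟩, ?_⟩
    · simp [QuadraticMap.polar_sub_right, QuadraticMap.polar_smul_right, hpp, hpq]
    · simp [QuadraticMap.polar_sub_right, QuadraticMap.polar_smul_right, hqq, hqp]
  have hWp : ∀ x ∈ W', B x p = 0 ∧ B x q = 0 := fun x hx => by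
    rw [QuadraticMap.polar_comm Q x p, QuadraticMap.polar_comm Q x q]; exact ⟨(hmem.1 hx).1.2, (hmem.1 hx).2⟩
  let U' : Submodule k V := U ⊔ Submodule.span k {p, q}
  have hspanW : Submodule.span k {p, q} ≤ W := Submodule.span_le.2 (by
    rintro x (rfl | rfl); exacts [hpW, hqW])
  have hpU : ∀ x ∈ U, B p x = 0 := hWU p hpW
  have hqU : ∀ x ∈ U, B q x = 0 := hWU q hqW
  -- finishing once the pair is fixed
  have finish : ∀ g' ∈ S, (∀ x ∈ U, g' x = x) → g' p = p → g' q = q → g' ∈ Subgroup.closure (gens Q) := by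
    intro g' hg' hU' hp' hq'
    refine ih (Module.finrank k W') ?_ U' W' rfl ?_ ?_ ?_ ?_ ?_ g' hg' ?_
    · rw [← hd]
      refine Submodule.finrank_lt_finrank_of_lt (lt_of_le_of_ne (fun x hx => (hmem.1 hx).1.1) fun h => ?_)
      have := (hmem.1 (h ▸ hqW : q ∈ W')).1.2
      rw [hpq] at this
      exact one_ne_zero this
    · have hdisj : U ⊓ Submodule.span k {p, q} = ⊥ :=
        disjoint_iff.1 (hc.disjoint.symm.mono_right hspanW)
      have h2 : Module.finrank k (Submodule.span k ({p, q} : Set V)) = 2 := by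
        have hli : LinearIndependent k ![p, q] := LinearIndependent.pair_iff.2 fun s t hst => by
          have h1 := congrArg (fun z => B q z) hst
          have h2 := congrArg (fun z => B p z) hst
          simp [QuadraticMap.polar_add_right, QuadraticMap.polar_smul_right, hqp, hqq, hpp, hpq] at h1 h2
          exact ⟨h1, h2⟩
        rw [show ({p, q} : Set V) = Set.range ![p, q] by simp [Matrix.range_cons, Set.pair_comm],
          finrank_span_eq_card hli, Fintype.card_fin]
      have := Submodule.finrank_sup_add_finrank_inf_eq U (Submodule.span k ({p, q} : Set V))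
      rw [hdisj, finrank_bot, add_zero, h2] at this
      show Even (Module.finrank k ↥(U ⊔ Submodule.span k {p, q}))
      rw [this]
      exact hUeven.add even_two
    · refine ⟨disjoint_iff_inf_le.2 fun x ⟨hx, hx'⟩ => ?_, codisjoint_iff_le_sup.2 fun x _ => ?_⟩
      · obtain ⟨y, hy, z, hz, rfl⟩ := Submodule.mem_sup.1 hx'
        obtain ⟨s, t, rfl⟩ := Submodule.mem_span_pair.1 hz
        have hyW : y ∈ W := (Submodule.add_mem_iff_left W (hspanW hz)).1 (hmem.1 hx).1.1
        obtain rfl : y = 0 := Submodule.disjoint_def.1 hc.disjoint y hyW hy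
        obtain ⟨⟨-, h1⟩, h2⟩ := hmem.1 hx
        simp [QuadraticMap.polar_add_right, QuadraticMap.polar_smul_right, hqp, hqq, hpp, hpq] at h1 h2
        simp [h1, h2]
      · obtain ⟨w, hw, y, hy, rfl⟩ := Submodule.mem_sup.1 (hc.sup_eq_top.ge (Submodule.mem_top (x := x)))
        have e : w + y = (w - B q w • p - B p w • q) + (y + (B q w • p + B p w • q)) := by abel
        rw [e]
        exact Submodule.add_mem_sup (hdec w hw)
          (Submodule.add_mem_sup hy (Submodule.mem_span_pair.2 ⟨_, _, rfl⟩))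
    · intro x hx v hv
      obtain ⟨y, hy, z, hz, rfl⟩ := Submodule.mem_sup.1 hv
      obtain ⟨s, t, rfl⟩ := Submodule.mem_span_pair.1 hz
      simp [QuadraticMap.polar_add_right, QuadraticMap.polar_smul_right, hWU x (hmem.1 hx).1.1 y hy, (hWp x hx).1,
        (hWp x hx).2]
    · intro x hx h
      obtain ⟨y, hy, z, hz, rfl⟩ := Submodule.mem_sup.1 hx
      obtain ⟨s, t, rfl⟩ := Submodule.mem_span_pair.1 hz
      have h1 := h p (Submodule.mem_sup_right (Submodule.subset_span (by simp)))
      have h2 := h q (Submodule.mem_sup_right (Submodule.subset_span (by simp)))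
      simp [QuadraticMap.polar_add_left, QuadraticMap.polar_smul_left, QuadraticMap.polar_comm Q y p, hpU y hy, QuadraticMap.polar_comm Q y q, hqU y hy, hqp, hqq, hpp, hpq] at h1 h2
      subst h1 h2
      have hy0 : y = 0 := hU y hy fun y' hy' => by
        simpa using h y' (Submodule.mem_sup_left hy')
      simp [hy0]
    · intro x hx h hQ
      refine hW x (hmem.1 hx).1.1 (fun y hy => ?_) hQ
      have e : y = (y - B q y • p - B p y • q) + (B q y • p + B p y • q) := by abel
      rw [e, QuadraticMap.polar_add_right, h _ (hdec y hy), QuadraticMap.polar_add_right,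
        QuadraticMap.polar_smul_right, QuadraticMap.polar_smul_right, (hWp x hx).1, (hWp x hx).2]
      simp
    · intro x hx
      obtain ⟨y, hy, z, hz, rfl⟩ := Submodule.mem_sup.1 hx
      obtain ⟨s, t, rfl⟩ := Submodule.mem_span_pair.1 hz
      rw [map_add, map_add, map_smul, map_smul, hp', hq', hU' y hy]
  -- moving by generators
  have hmove : ∀ h ∈ fixOn Q U, h * g ∈ Subgroup.closure (gens Q) → g ∈ Subgroup.closure (gens Q) :=
    fun h hh h' => by simpa using mul_mem (inv_mem hh.1) h'
  have hfS : fixOn Q U ≤ S := fun h hh => (Subgroup.closure_le S).2 hgen hh.1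
  have hWU' : ∀ w ∈ W, ∀ x ∈ U, B w x = 0 := hWU
  have hrad : ∀ y ∈ W', (∀ w ∈ W', B y w = 0) → Q y = 0 → y = 0 := by
    intro x hx h hQ
    refine hW x (hmem.1 hx).1.1 (fun y hy => ?_) hQ
    have e : y = (y - B q y • p - B p y • q) + (B q y • p + B p y • q) := by abel
    rw [e, QuadraticMap.polar_add_right, h _ (hdec y hy), QuadraticMap.polar_add_right,
      QuadraticMap.polar_smul_right, QuadraticMap.polar_smul_right, (hWp x hx).1, (hWp x hx).2]
    simp
  -- second vector
  have second : ∀ g' ∈ S, (∀ x ∈ U, g' x = x) → (∀ x ∈ W, g' x ∈ W) → g' p = p → g' ∈ Subgroup.closure (gens Q) := by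
    intro g' hg' hU' hW'g hp'
    have hO' : ∀ x, Q (g' x) = Q x := hSO hg'
    set x := g' q with hx
    have hxW : x ∈ W := hW'g q hqW
    have hpx : B p x = 1 := by
      conv_lhs => rw [← hp', hx]
      simp only [QuadraticMap.polar, ← map_add, hO']
      exact hpq
    set y := x - B q x • p - B p x • q with hy
    have hyW' : y ∈ W' := hdec x hxW
    have hpy : B p y = 0 := (hmem.1 hyW').1.2
    have hh : eichler Q hp hpy ∈ fixOn Q U := eichler_mem_fixOn Q hp hpy hpU (hWU' y (hmem.1 hyW').1.1)
    have h1 : eichler Q hp hpy x = q := by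
      have hQx : Q x = 0 := by rw [hx, hO', hq]
      rw [eichler_apply, hpx, one_smul, mul_one]
      have e : x = B q x • p + q + y := by rw [hy, hpx, one_smul]; abel
      have hqy : B q y = 0 := (hmem.1 hyW').2
      have hyy : Q y = -(B q x) := by
        have := congrArg Q e
        rw [hQx, QuadraticMap.map_add (⇑Q), QuadraticMap.map_add (⇑Q), QuadraticMap.map_smul, hp, hq,
          QuadraticMap.polar_smul_left, hpq, QuadraticMap.polar_add_left, QuadraticMap.polar_smul_left, hpy, hqy] at this
        simp only [smul_eq_mul] at this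
        linear_combination -this
      have hByx : B y x = 2 * Q y := by
        conv_lhs => rw [e]
        rw [QuadraticMap.polar_add_right, QuadraticMap.polar_add_right, QuadraticMap.polar_smul_right,
          QuadraticMap.polar_comm Q y p, hpy, QuadraticMap.polar_comm Q y q, hqy, QuadraticMap.polar_self]
        simp
      rw [hByx, hyy]
      nth_rw 1 [e]
      module
    have h2 : eichler Q hp hpy * g' ∈ Subgroup.closure (gens Q) := by
      refine finish _ (mul_mem (hfS hh) hg') (fun z hz => ?_) ?_ ?_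
      · show eichler Q hp hpy (g' z) = z
        rw [hU' z hz, hh.2 z hz]
      · show eichler Q hp hpy (g' p) = p
        rw [hp', eichler_apply, hpp, QuadraticMap.polar_comm Q y p, hpy]
        simp
      · exact h1
    simpa using mul_mem (inv_mem hh.1) h2
  -- first vector with non-zero coordinate
  have first : ∀ g' ∈ S, (∀ x ∈ U, g' x = x) → (∀ x ∈ W, g' x ∈ W) → B q (g' p) ≠ 0 →
      g' ∈ Subgroup.closure (gens Q) := by
    intro g' hg' hU' hW'g ha
    have hO' : ∀ x, Q (g' x) = Q x := hSO hg'
    set x := g' p with hx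
    have hxW : x ∈ W := hW'g p hpW
    set a := B q x with hadef
    set y := x - a • p - B p x • q with hy
    have hyW' : y ∈ W' := hdec x hxW
    let w := a⁻¹ • y
    have hwW : w ∈ W := W.smul_mem _ (hmem.1 hyW').1.1
    have hqw : B q w = 0 := by simp [w, QuadraticMap.polar_smul_right, (hmem.1 hyW').2]
    have hpw : B p w = 0 := by simp [w, QuadraticMap.polar_smul_right, (hmem.1 hyW').1.2]
    have hh : eichler Q hq hqw ∈ fixOn Q U := eichler_mem_fixOn Q hq hqw hqU (hWU' w hwW)
    set x' := eichler Q hq hqw x with hx'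
    obtain ⟨b', hb'⟩ : ∃ b' : k, x' = a • p + b' • q := by
      refine ⟨B p x + B w x - Q w * a, ?_⟩
      rw [hx', eichler_apply, ← hadef]
      have e : a • w = y := by simp [w, smul_smul, ha]
      rw [e, hy]
      module
    have hb0 : b' = 0 := by
      have h := congrArg Q hb'
      rw [hx', eichler_mem Q hq hqw x, hx, hO', hp, QuadraticMap.map_add (⇑Q), QuadraticMap.map_smul,
        QuadraticMap.map_smul, hp, hq, QuadraticMap.polar_smul_left, QuadraticMap.polar_smul_right, hpq] at h
      simp only [smul_eq_mul, mul_zero, zero_add, mul_one] at h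
      exact (mul_eq_zero.1 h.symm).resolve_left ha
    rw [hb0, zero_smul, add_zero] at hb'
    let c : kˣ := (Units.mk0 a ha)⁻¹
    have hd' : torus Q hp hq hpq c ∈ fixOn Q U := torus_mem_fixOn Q hp hq hpq c hpU hqU
    have hh2 := mul_mem hd' hh
    have h2 : torus Q hp hq hpq c * eichler Q hq hqw * g' ∈ Subgroup.closure (gens Q) := by
      refine second _ (mul_mem (hfS hh2) hg') (fun z hz => ?_) (fun z hz => ?_) ?_
      · show (torus Q hp hq hpq c * eichler Q hq hqw) (g' z) = z
        rw [hU' z hz, hh2.2 z hz]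
      · show torus Q hp hq hpq c (eichler Q hq hqw (g' z)) ∈ W
        have h1 : eichler Q hq hqw (g' z) ∈ W := by
          rw [eichler_apply]
          exact sub_mem (sub_mem (add_mem (hW'g z hz) (W.smul_mem _ hqW)) (W.smul_mem _ hwW)) (W.smul_mem _ hqW)
        rw [torus_apply]
        exact add_mem (add_mem h1 (W.smul_mem _ hpW)) (W.smul_mem _ hqW)
      · show torus Q hp hq hpq c x' = p
        rw [hb', map_smul, torus_apply, hpp, hqp]
        simp [c, smul_smul, sub_smul, ha]
    have h3 := mul_mem (inv_mem hh2.1) h2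
    rwa [inv_mul_cancel_left] at h3
  have hgp := hgW p hpW
  by_cases ha : B q (g p) ≠ 0
  · exact first g hg hgU hgW ha
  rw [not_not] at ha
  set y := g p - B q (g p) • p - B p (g p) • q with hy
  have hyW' : y ∈ W' := hdec _ hgp
  by_cases hex : ∃ w ∈ W', B w y ≠ 0 ∨ Q w * B p (g p) ≠ 0
  · obtain ⟨w₀, hw₀, hne⟩ := hex
    obtain ⟨t, ht⟩ := exists_scalar_ne (a := B w₀ y) (c := -(Q w₀ * B p (g p)))
      (hne.imp id fun h => neg_ne_zero.2 h)
    let w := t • w₀
    have hpw : B p w = 0 := by simp [w, QuadraticMap.polar_smul_right, (hmem.1 hw₀).1.2]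
    have hqw : B q w = 0 := by simp [w, QuadraticMap.polar_smul_right, (hmem.1 hw₀).2]
    have hh : eichler Q hp hpw ∈ fixOn Q U :=
      eichler_mem_fixOn Q hp hpw hpU (hWU' w (W.smul_mem _ (hmem.1 hw₀).1.1))
    refine hmove _ hh (first _ (mul_mem (hfS hh) hg) (fun z hz => ?_) (fun z hz => ?_) ?_)
    · show eichler Q hp hpw (g z) = z
      rw [hgU z hz, hh.2 z hz]
    · show eichler Q hp hpw (g z) ∈ W
      rw [eichler_apply]
      exact sub_mem (sub_mem (add_mem (hgW z hz) (W.smul_mem _ hpW)) (W.smul_mem _ (W.smul_mem _ (hmem.1 hw₀).1.1)))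
        (W.smul_mem _ hpW)
    · show B q (eichler Q hp hpw (g p)) ≠ 0
      have e : B w₀ (g p) = B w₀ y := by
        rw [hy, ha, QuadraticMap.polar_sub_right, QuadraticMap.polar_sub_right, QuadraticMap.polar_smul_right,
          QuadraticMap.polar_smul_right, (hWp w₀ hw₀).2]
        simp
      rw [eichler_apply]
      simp only [QuadraticMap.polar_sub_right, QuadraticMap.polar_add_right, QuadraticMap.polar_smul_right,
        smul_eq_mul, hqp, hqw, ha]
      simp only [w, QuadraticMap.polar_smul_left, QuadraticMap.map_smul, smul_eq_mul, e]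
      convert ht using 1
      ring
  push Not at hex
  have hb : B p (g p) ≠ 0 := by
    intro hb
    have hy0 : g p = y := by rw [hy, ha, hb]; simp
    have := hrad y hyW' (fun w hw => (QuadraticMap.polar_comm Q y w).trans (hex w hw).1) (by rw [← hy0, hgO, hp])
    rw [← hy0, map_eq_zero_iff g g.injective] at this
    rw [this] at hpq
    simp [QuadraticMap.polar] at hpq
  have hW'0 : ∀ w ∈ W', w = 0 := by
    intro w hw
    have hQ0 : ∀ z ∈ W', Q z = 0 := fun z hz => (mul_eq_zero.1 (hex z hz).2).resolve_right hb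
    refine hrad w hw (fun z hz => ?_) (hQ0 w hw)
    simp only [QuadraticMap.polar, hQ0 _ (add_mem hw hz), hQ0 w hw, hQ0 z hz, sub_zero]
  have hy0 : y = 0 := hW'0 y hyW'
  have hgp' : g p = B p (g p) • q := by
    rw [← sub_eq_zero]; rw [hy, ha] at hy0; simpa using hy0
  let c : kˣ := Units.mk0 _ hb
  have hd' : torus Q hp hq hpq c ∈ fixOn Q U := torus_mem_fixOn Q hp hq hpq c hpU hqU
  set g' := torus Q hp hq hpq c * g with hg'
  have hg'S : g' ∈ S := mul_mem (hfS hd') hg
  have h1 : g' p = q := by
    show torus Q hp hq hpq c (g p) = q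
    rw [hgp', map_smul, torus_apply, hqq, hpq]
    simp [c, smul_smul, sub_smul, hb]
  have hg'W : ∀ x ∈ W, g' x ∈ W := fun z hz => by
    show torus Q hp hq hpq c (g z) ∈ W
    rw [torus_apply]
    exact add_mem (add_mem (hgW z hz) (W.smul_mem _ hpW)) (W.smul_mem _ hqW)
  have hdec0 : ∀ x ∈ W, x = B q x • p + B p x • q := fun x hx => by
    have := hW'0 _ (hdec x hx)
    rw [sub_sub, sub_eq_zero] at this
    exact this
  have h2 : g' q = p := by
    have hO' : ∀ x, Q (g' x) = Q x := hSO hg'S
    have hbq : B q (g' q) = 1 := by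
      have h : B (g' p) (g' q) = B p q := by simp only [QuadraticMap.polar, ← map_add, hO']
      rw [h1, hpq] at h
      exact h
    have e := hdec0 _ (hg'W q hqW)
    rw [hbq, one_smul] at e
    have hQ := congrArg Q e
    rw [hO', hq, QuadraticMap.map_add (⇑Q), QuadraticMap.map_smul, hp, hq, QuadraticMap.polar_smul_right, hpq] at hQ
    simp only [smul_eq_mul, mul_zero, zero_add, mul_one] at hQ
    rw [e, ← hQ, zero_smul, add_zero]
  have hfin : Module.finrank k W = 2 := by
    refine le_antisymm ?_ (hd ▸ hge)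
    refine (Submodule.finrank_mono (t := Submodule.span k (Set.range ![p, q])) fun x hx => ?_).trans
      ((finrank_range_le_card _).trans (le_of_eq (Fintype.card_fin 2)))
    rw [hdec0 x hx]
    exact add_mem (Submodule.smul_mem _ _ (Submodule.subset_span ⟨0, rfl⟩))
      (Submodule.smul_mem _ _ (Submodule.subset_span ⟨1, rfl⟩))
  have hQe : Q (p - q) = -1 := by
    rw [sub_eq_add_neg, QuadraticMap.map_add (⇑Q), QuadraticMap.map_neg, QuadraticMap.polar_neg_right, hp, hq, hpq]
    simp
  refine absurd ⟨p - q, by rw [hQe]; simp, fun x => ?_⟩ (hrefl (Or.inl ?_) g' hg'S)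
  · rw [← Submodule.finrank_add_eq_of_isCompl hc, hfin]
    exact even_two.add hUeven
  · obtain ⟨w, hw, z, hz, rfl⟩ := Submodule.mem_sup.1 (hc.sup_eq_top.ge (Submodule.mem_top (x := x)))
    have hgz : g' z = z := by
      show torus Q hp hq hpq c (g z) = z
      rw [hgU z hz, hd'.2 z hz]
    rw [hdec0 w hw, map_add, map_add, map_smul, map_smul, h1, h2, hgz, hQe]
    simp only [QuadraticMap.polar_sub_left, QuadraticMap.polar_add_right, QuadraticMap.polar_smul_right, hqp, hqq,
      hpp, hpq, hpU z hz, hqU z hz, smul_eq_mul]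
    module

include hgen hSO hrefl in
/-- The generators generate. -/
theorem mem_closure_gens (hN : ∀ x, (∀ y, B x y = 0) → Q x = 0 → x = 0) {g : V ≃ₗ[k] V} (hg : g ∈ S) :
    g ∈ Subgroup.closure (gens Q) :=
  mem_closure_aux Q S hgen hSO hrefl _ ⊥ ⊤ rfl (by simp) isCompl_top_bot
    (fun x _ y hy => by rw [(Submodule.mem_bot k).1 hy]; simp [QuadraticMap.polar])
    (fun x hx _ => (Submodule.mem_bot k).1 hx) (fun x _ h hQ => hN x (fun y => h y trivial) hQ) g hg
    fun x hx => by rw [(Submodule.mem_bot k).1 hx, map_zero]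

end Groth.Agent.QuadLib
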