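import Groth.Agent.QuadLib.Smooth
import Mathlib.RingTheory.Smooth.StandardSmoothCotangent
import Mathlib.RingTheory.RingHom.LocallyStandardSmooth
import Mathlib.RingTheory.RingHom.StandardSmooth
import Mathlib.Algebra.DualNumber
import Mathlib.LinearAlgebra.Dual.Lemmas
import Mathlib.RingTheory.Kaehler.Basic
import Mathlib.Data.Sym.Card

/-!
# Relative dimension of the orthogonal groups

`locally_standardSmooth_of_derivations`: relative dimension from the spaces of derivations into fields;
`finrank_derivation_orth`, `finrank_derivation_sorth`: these spaces for the orthogonal groups.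
-/

set_option autoImplicit false
set_option linter.unusedSectionVars false
set_option linter.style.haveILetI false

noncomputable section

open Matrix TensorProduct

universe u

namespace Groth.Agent.QuadLib

attribute [-simp] DualNumber.inr_eq_smul_eps

section criterion

variable {R C k : Type u} [CommRing R] [CommRing C] [Algebra R C] [Field k] [Algebra C k] [Algebra R k]
  [IsScalarTower R C k]

theorem finrank_derivation [Algebra.EssFiniteType R C] :
    Module.finrank k (k ⊗[C] Ω[C⁄R]) = Module.finrank k (Derivation R C k) := by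
  let e : (Ω[C⁄R] →ₗ[C] k) ≃ₗ[k] Derivation R C k :=
    { (KaehlerDifferential.linearMapEquivDerivation R C).toEquiv with
      map_add' := fun f g => map_add (KaehlerDifferential.linearMapEquivDerivation R C) f g
      map_smul' := fun c f => Derivation.ext fun x => rfl }
  rw [← e.finrank_eq, ← Subspace.dual_finrank_eq,
    ← LinearEquiv.finrank_eq ((LinearMap.liftBaseChangeEquiv k : (Ω[C⁄R] →ₗ[C] k) ≃ₗ[k] _))]

/-- The point in the dual numbers of a derivation. -/
def derivPt (D : Derivation R C k) : C →ₐ[R] DualNumber k where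
  toFun c := TrivSqZeroExt.inl (algebraMap C k c) + TrivSqZeroExt.inr (D c)
  map_one' := by ext <;> simp
  map_mul' a b := by
    ext
    · simp
    · simp [Derivation.leibniz, Algebra.smul_def, mul_comm]
  map_zero' := by ext <;> simp
  map_add' a b := by ext <;> simp
  commutes' r := by
    ext
    · simp [TrivSqZeroExt.algebraMap_eq_inl', ← IsScalarTower.algebraMap_apply]
    · simp [TrivSqZeroExt.algebraMap_eq_inl']

theorem fst_derivPt (D : Derivation R C k) (c : C) : TrivSqZeroExt.fst (derivPt D c) = algebraMap C k c := by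
  simp [derivPt]

theorem snd_derivPt (D : Derivation R C k) (c : C) : TrivSqZeroExt.snd (derivPt D c) = D c := by
  simp [derivPt]

/-- The derivation of a point in the dual numbers. -/
theorem exists_derivation (ψ : C →ₐ[R] DualNumber k) (h : ∀ c, TrivSqZeroExt.fst (ψ c) = algebraMap C k c) :
    ∃ D : Derivation R C k, derivPt D = ψ := by
  let L : C →ₗ[R] k :=
    { toFun := fun c => TrivSqZeroExt.snd (ψ c)
      map_add' := fun a b => by simp
      map_smul' := fun r a => by simp }
  refine ⟨Derivation.mk' L fun a b => ?_, AlgHom.ext fun c => TrivSqZeroExt.ext ?_ ?_⟩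
  · simp only [L, LinearMap.coe_mk, AddHom.coe_mk, map_mul, TrivSqZeroExt.snd_mul, h, Algebra.smul_def]
    simp [mul_comm]
  · rw [fst_derivPt, h]
  · rw [snd_derivPt]; rfl

theorem derivPt_injective : Function.Injective (derivPt : Derivation R C k → C →ₐ[R] DualNumber k) :=
  fun D D' h => Derivation.ext fun c => by rw [← snd_derivPt D c, h, snd_derivPt]

theorem finrank_derivation_of_away (f : C) (Cf : Type u) [CommRing Cf] [Algebra C Cf] [Algebra R Cf]
    [IsScalarTower R C Cf] [IsLocalization.Away f Cf] [Algebra Cf k] [IsScalarTower C Cf k] [IsScalarTower R Cf k] :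
    Module.finrank k (Derivation R Cf k) = Module.finrank k (Derivation R C k) := by
  let res : Derivation R Cf k →ₗ[k] Derivation R C k :=
    { toFun := fun D => D.compAlgebraMap C
      map_add' := fun D D' => rfl
      map_smul' := fun c D => rfl }
  refine LinearEquiv.finrank_eq (LinearEquiv.ofBijective res ⟨fun D D' h => ?_, fun D => ?_⟩)
  · apply derivPt_injective
    refine IsLocalization.algHom_ext (Submonoid.powers f) (AlgHom.ext fun c => TrivSqZeroExt.ext ?_ ?_)
    · simp [fst_derivPt]
    · have hc : D (algebraMap C Cf c) = D' (algebraMap C Cf c) := Derivation.congr_fun h c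
      show TrivSqZeroExt.snd (derivPt D (algebraMap C Cf c)) = TrivSqZeroExt.snd (derivPt D' (algebraMap C Cf c))
      rwa [snd_derivPt, snd_derivPt]
  · have hu : ∀ y : Submonoid.powers f, IsUnit (derivPt D y) := fun y => by
      rw [TrivSqZeroExt.isUnit_iff_isUnit_fst, fst_derivPt, IsScalarTower.algebraMap_apply C Cf k]
      exact (IsLocalization.map_units Cf y).map _
    let ψ : Cf →ₐ[R] DualNumber k := IsLocalization.liftAlgHom (M := Submonoid.powers f) hu
    have hψ : ∀ c, ψ (algebraMap C Cf c) = derivPt D c := fun c => IsLocalization.lift_eq _ c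
    obtain ⟨D', hD'⟩ := exists_derivation (k := k) ψ fun x => by
      have h1 : (TrivSqZeroExt.fstHom k k k).toRingHom.comp ψ.toRingHom = algebraMap Cf k :=
        IsLocalization.ringHom_ext (Submonoid.powers f) (RingHom.ext fun c => by
          show TrivSqZeroExt.fst (ψ (algebraMap C Cf c)) = algebraMap Cf k (algebraMap C Cf c)
          rw [hψ, fst_derivPt, ← IsScalarTower.algebraMap_apply])
      exact RingHom.congr_fun h1 x
    refine ⟨D', Derivation.ext fun c => ?_⟩
    show D' (algebraMap C Cf c) = D c
    rw [← snd_derivPt D', hD', hψ, snd_derivPt]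

end criterion

/-- Relative dimension from derivations into fields. -/
theorem locally_standardSmooth_of_derivations {R C : Type u} [CommRing R] [CommRing C] [Algebra R C]
    [Algebra.Smooth R C] (d : ℕ)
    (h : ∀ (k : Type u) [Field k] [Algebra C k] [Algebra R k] [IsScalarTower R C k],
      Module.finrank k (Derivation R C k) = d) :
    RingHom.Locally (RingHom.IsStandardSmoothOfRelativeDimension d) (algebraMap R C) := by
  obtain ⟨s, hs, hstd⟩ := RingHom.smooth_iff_locally_isStandardSmooth.1
    (RingHom.smooth_algebraMap.2 ‹Algebra.Smooth R C›)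
  refine ⟨{f ∈ s | ¬ IsNilpotent f}, ?_, fun f hf => ?_⟩
  · by_contra hne
    obtain ⟨m, hm, hle⟩ := Ideal.exists_le_maximal _ hne
    refine hm.ne_top (top_le_iff.1 (hs ▸ Ideal.span_le.2 fun f hf => ?_))
    by_cases hn : IsNilpotent f
    · exact nilradical_le_prime m hn
    · exact hle (Ideal.subset_span ⟨hf, hn⟩)
  · obtain ⟨hfs, hn⟩ := hf
    haveI : Nontrivial (Localization.Away f) := by
      by_contra hsub
      rw [not_nontrivial_iff_subsingleton, IsLocalization.subsingleton_iff (M := Submonoid.powers f)] at hsub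
      obtain ⟨i, hi⟩ := hsub
      exact hn ⟨i, hi⟩
    have hf' : RingHom.IsStandardSmooth (algebraMap R (Localization.Away f)) := by
      rw [IsScalarTower.algebraMap_eq R C]; exact hstd f hfs
    rw [← IsScalarTower.algebraMap_eq R C, RingHom.isStandardSmoothOfRelativeDimension_algebraMap]
    rw [RingHom.isStandardSmooth_algebraMap] at hf'
    obtain ⟨ι, σ, hι, hσ, ⟨P⟩⟩ := hf'.out
    suffices hP : P.dimension = d from ⟨ι, σ, inferInstance, inferInstance, P, hP⟩
    haveI : Algebra.IsStandardSmoothOfRelativeDimension P.dimension R (Localization.Away f) :=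
      ⟨ι, σ, inferInstance, inferInstance, P, rfl⟩
    haveI : Algebra.IsStandardSmooth R (Localization.Away f) :=
      Algebra.IsStandardSmoothOfRelativeDimension.isStandardSmooth P.dimension
    obtain ⟨m, hm⟩ := Ideal.exists_maximal (Localization.Away f)
    letI := Ideal.Quotient.field m
    rw [← h (Localization.Away f ⧸ m), ← finrank_derivation_of_away f (Localization.Away f),
      ← finrank_derivation, Module.finrank_baseChange]
    exact (Module.finrank_eq_of_rank_eq
      (Algebra.IsStandardSmoothOfRelativeDimension.rank_kaehlerDifferential (R := R) (S := Localization.Away f)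
        P.dimension)).symm

section tangent

variable {R : Type u} [CommRing R] {n : ℕ} {κ : Type} [Finite κ] (Eq : MatEqs R n κ)
  (k : Type u) [Field k] [Algebra Eq.Coord k] [Algebra R k] [IsScalarTower R Eq.Coord k]

/-- The matrix of the point. -/
def ptMat : Matrix (Fin n) (Fin n) k := Eq.matOf (IsScalarTower.toAlgHom R Eq.Coord k)

theorem isUnit_det_ptMat : IsUnit (ptMat Eq k).det := (Eq.matOf_mem _).1

/-- The tangent matrix of a derivation. -/
def tan : Derivation R Eq.Coord k →ₗ[k] Matrix (Fin n) (Fin n) k where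
  toFun D := (ptMat Eq k)⁻¹ * Matrix.of fun i j => D (Ideal.Quotient.mk _ (MvPolynomial.X (some (i, j))))
  map_add' D D' := by rw [← Matrix.mul_add]; rfl
  map_smul' c D := by rw [RingHom.id_apply, ← Matrix.mul_smul]; rfl

/-- The first order point of a tangent matrix. -/
def tanPt (η : Matrix (Fin n) (Fin n) k) : Matrix (Fin n) (Fin n) (DualNumber k) :=
  (ptMat Eq k).map TrivSqZeroExt.inl * (1 + η.map TrivSqZeroExt.inr)

theorem matOf_derivPt (D : Derivation R Eq.Coord k) : Eq.matOf (derivPt D) = tanPt Eq k (tan Eq k D) := by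
  ext i j
  · simp [MatEqs.matOf, tanPt, fst_derivPt, Matrix.mul_apply, Matrix.one_apply, TrivSqZeroExt.fst_sum,
      apply_ite (TrivSqZeroExt.fst : DualNumber k → k), ptMat]
  · have h : (ptMat Eq k * tan Eq k D) i j = D (Ideal.Quotient.mk _ (MvPolynomial.X (some (i, j)))) := by
      show (ptMat Eq k * ((ptMat Eq k)⁻¹ *
        Matrix.of fun a c => D (Ideal.Quotient.mk _ (MvPolynomial.X (some (a, c)))))) i j = _
      rw [Matrix.mul_nonsing_inv_cancel_left _ _ (isUnit_det_ptMat Eq k)]
      rfl
    simp only [MatEqs.matOf, Matrix.of_apply, snd_derivPt, ← h]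
    simp [tanPt, Matrix.mul_apply, Matrix.one_apply, TrivSqZeroExt.snd_sum, TrivSqZeroExt.snd_mul,
      apply_ite (TrivSqZeroExt.snd : DualNumber k → k)]

theorem tan_injective : Function.Injective (tan Eq k) := fun D D' h => by
  refine derivPt_injective ((Eq.equiv (DualNumber k)).injective (Subtype.ext ?_))
  show Eq.matOf (derivPt D) = Eq.matOf (derivPt D')
  rw [matOf_derivPt, matOf_derivPt, h]

theorem exists_tan {η : Matrix (Fin n) (Fin n) k} (h : ∀ s, Eq.E (DualNumber k) (tanPt Eq k η) s = 0) :
    ∃ D, tan Eq k D = η := by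
  have hfst : (tanPt Eq k η).map TrivSqZeroExt.fst = ptMat Eq k := by
    ext i j
    simp [tanPt, Matrix.mul_apply, Matrix.one_apply, TrivSqZeroExt.fst_sum,
      apply_ite (TrivSqZeroExt.fst : DualNumber k → k)]
  have hu : IsUnit (tanPt Eq k η).det := by
    rw [TrivSqZeroExt.isUnit_iff_isUnit_fst]
    have := RingHom.map_det (TrivSqZeroExt.fstHom k k k).toRingHom (tanPt Eq k η)
    rw [show TrivSqZeroExt.fst (tanPt Eq k η).det = ((tanPt Eq k η).map TrivSqZeroExt.fst).det from this, hfst]
    exact isUnit_det_ptMat Eq k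
  let ψ := (Eq.equiv (DualNumber k)).symm ⟨tanPt Eq k η, hu, h⟩
  have hψ : Eq.matOf ψ = tanPt Eq k η :=
    congrArg Subtype.val ((Eq.equiv (DualNumber k)).apply_symm_apply ⟨tanPt Eq k η, hu, h⟩)
  obtain ⟨D, hD⟩ := exists_derivation (k := k) ψ fun c => by
    have h1 : ((TrivSqZeroExt.fstHom R k k).comp ψ) = IsScalarTower.toAlgHom R Eq.Coord k :=
      (Eq.equiv k).injective (Subtype.ext (by
        rw [Eq.equiv_comp]
        show (Eq.matOf ψ).map (TrivSqZeroExt.fstHom R k k) = ptMat Eq k
        rw [hψ]; exact hfst))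
    exact AlgHom.congr_fun h1 c
  refine ⟨D, ?_⟩
  have h2 := matOf_derivPt Eq k D
  rw [hD, hψ] at h2
  have h3 := congrArg (fun X : Matrix (Fin n) (Fin n) (DualNumber k) => X.map TrivSqZeroExt.snd) h2
  have e : ∀ ξ : Matrix (Fin n) (Fin n) k, (tanPt Eq k ξ).map TrivSqZeroExt.snd = ptMat Eq k * ξ := fun ξ => by
    ext i j
    simp [tanPt, Matrix.mul_apply, Matrix.one_apply, TrivSqZeroExt.snd_sum, TrivSqZeroExt.snd_mul,
      apply_ite (TrivSqZeroExt.snd : DualNumber k → k)]
  simp only [e] at h3
  exact (((Matrix.isUnit_iff_isUnit_det _).2 (isUnit_det_ptMat Eq k)).mul_left_cancel h3).symm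

theorem finrank_derivation_eq (T : Submodule k (Matrix (Fin n) (Fin n) k))
    (hT : ∀ η, η ∈ T ↔ ∀ s, Eq.E (DualNumber k) (tanPt Eq k η) s = 0) :
    Module.finrank k (Derivation R Eq.Coord k) = Module.finrank k T := by
  have hr : LinearMap.range (tan Eq k) = T := by
    refine le_antisymm ?_ fun η hη => exists_tan Eq k ((hT η).1 hη)
    rintro _ ⟨D, rfl⟩
    rw [hT, ← matOf_derivPt]
    exact (Eq.matOf_mem _).2
  rw [← hr]
  exact (LinearEquiv.ofInjective (tan Eq k) (tan_injective Eq k)).finrank_eq

end tangent

section orth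

variable {R : Type u} [CommRing R] {M : Type u} [AddCommGroup M] [Module R M] [Module.Free R M] {n : ℕ}
  (b : Module.Basis (Fin n) R M) (Q : QuadraticForm R M)

variable {k : Type u} [Field k] [Algebra R k]

theorem map_cf_inr (X : Matrix (Fin n) (Fin n) k) (s : Sym2 (Fin n)) :
    cf (X.map (TrivSqZeroExt.inr : k → DualNumber k)) s = TrivSqZeroExt.inr (cf X s) := by
  induction s using Sym2.ind with
  | _ i j => rw [cf_mk, cf_mk]; split_ifs <;> simp

/-- The first order equations. -/
theorem orth_tanPt (G η : Matrix (Fin n) (Fin n) k)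
    (hG : ∀ s, (orthEqs b Q).E k G s = 0) (s : Sym2 (Fin n)) :
    (orthEqs b Q).E (DualNumber k) (G.map TrivSqZeroExt.inl * (1 + η.map TrivSqZeroExt.inr)) s = 0 ↔
      cf ((polarMat b Q).map (algebraMap R k) * η) s = 0 := by
  let incl : k →ₐ[R] DualNumber k := (TrivSqZeroExt.inlAlgHom k k k).restrictScalars R
  set B := (liftMat b Q).map (algebraMap R (DualNumber k))
  have hB : B = ((liftMat b Q).map (algebraMap R k)).map incl := by
    exact Matrix.ext fun i j => (incl.commutes _).symm
  have hI : (RingHom.ker (TrivSqZeroExt.fstHom k k k).toRingHom : Ideal (DualNumber k)) ^ 2 = ⊥ := by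
    rw [pow_two, eq_bot_iff, Ideal.mul_le]
    intro x hx y hy
    rw [Ideal.mem_bot]
    rw [RingHom.mem_ker] at hx hy
    have hx' : TrivSqZeroExt.fst x = 0 := hx
    have hy' : TrivSqZeroExt.fst y = 0 := hy
    ext <;> simp [TrivSqZeroExt.snd_mul, hx', hy']
  have hη : ∀ i j, η.map (TrivSqZeroExt.inr : k → DualNumber k) i j ∈
      RingHom.ker (TrivSqZeroExt.fstHom k k k).toRingHom := fun i j => by simp
  have h0 : ∀ s, cf ((G.map incl).transpose * B * G.map incl) s - cf B s = 0 := fun s => by
    have := (orthEqs b Q).map k (DualNumber k) incl G s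
    rw [hG, map_zero] at this
    exact this.symm
  show cf _ s - cf B s = 0 ↔ _
  rw [show G.map (TrivSqZeroExt.inl : k → DualNumber k) = G.map incl from rfl,
    cf_correct hI B _ _ hη fun s => by rw [h0]; exact Submodule.zero_mem _,
    Pi.add_apply, sub_eq_zero.1 (h0 s), add_sub_cancel_left]
  have hP : (B + B.transpose) * η.map (TrivSqZeroExt.inr : k → DualNumber k) =
      ((polarMat b Q).map (algebraMap R k) * η).map TrivSqZeroExt.inr := by
    have e : B + B.transpose = ((polarMat b Q).map (algebraMap R k)).map incl := by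
      rw [hB, ← Matrix.transpose_map, ← Matrix.map_add _ (map_add incl), ← Matrix.transpose_map,
        ← Matrix.map_add _ (map_add (algebraMap R k)), ← polarMat_eq]
    rw [e]
    ext i j
    · simp [Matrix.mul_apply, TrivSqZeroExt.fst_sum, incl]
    · simp [Matrix.mul_apply, TrivSqZeroExt.snd_sum, TrivSqZeroExt.snd_mul, TrivSqZeroExt.algebraMap_eq_inl', incl]
  rw [hP, map_cf_inr]
  exact ⟨fun h => by simpa using congrArg TrivSqZeroExt.snd h, fun h => by rw [h, TrivSqZeroExt.inr_zero]⟩

theorem finrank_matrix_eq : Module.finrank k (Matrix (Fin n) (Fin n) k) = n * n := by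
  rw [Module.finrank_matrix, Module.finrank_self, Fintype.card_fin, mul_one]

theorem card_sym2 : Fintype.card (Sym2 (Fin n)) = Nat.choose (n + 1) 2 := by
  rw [Sym2.card, Fintype.card_fin]

theorem sq_sub_choose : n * n - Nat.choose (n + 1) 2 = Nat.choose n 2 := by
  have h : Nat.choose (n + 1) 2 = n + Nat.choose n 2 := by rw [Nat.choose_succ_succ, Nat.choose_one_right]
  have h2 : n * n = n + 2 * Nat.choose n 2 := by
    rw [Nat.choose_two_right, Nat.two_mul_div_two_of_even (Nat.even_mul_pred_self n)]
    cases n with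
    | zero => rfl
    | succ m => rw [Nat.add_sub_cancel]; ring
  omega

/-- Derivations of the orthogonal group in even rank. -/
theorem finrank_derivation_orth [Algebra (orthEqs b Q).Coord k] [IsScalarTower R (orthEqs b Q).Coord k]
    (hP : IsUnit (polarMat b Q).det) :
    Module.finrank k (Derivation R (orthEqs b Q).Coord k) = Nat.choose n 2 := by
  let P := (polarMat b Q).map (algebraMap R k)
  let L : Matrix (Fin n) (Fin n) k →ₗ[k] (Sym2 (Fin n) → k) :=
    { toFun := fun η => cf (P * η)
      map_add' := fun x y => by rw [Matrix.mul_add, cf_add]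
      map_smul' := fun a x => by rw [Matrix.mul_smul, cf_smul, RingHom.id_apply] }
  have hPu : IsUnit P.det := by
    rw [show P.det = algebraMap R k (polarMat b Q).det from (RingHom.map_det _ _).symm]
    exact hP.map _
  have hL : Function.Surjective L := fun c => ⟨P⁻¹ * ut c, by
    show cf (P * (P⁻¹ * ut c)) = c
    rw [Matrix.mul_nonsing_inv_cancel_left _ _ hPu, cf_ut]⟩
  rw [finrank_derivation_eq (orthEqs b Q) k (LinearMap.ker L) fun η => by
    rw [LinearMap.mem_ker]
    exact ⟨fun h s => (orth_tanPt b Q _ η (MatEqs.matOf_mem _ _).2 s).2 (congrFun h s),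
      fun h => funext fun s => (orth_tanPt b Q _ η (MatEqs.matOf_mem _ _).2 s).1 (h s)⟩]
  have h := LinearMap.finrank_range_add_finrank_ker L
  rw [LinearMap.range_eq_top.2 hL, finrank_top, finrank_matrix_eq, Module.finrank_fintype_fun_eq_card,
    card_sym2] at h
  have := sq_sub_choose (n := n)
  omega

/-- Derivations of the special orthogonal group in odd rank. -/
theorem finrank_derivation_sorth [Algebra (sorthEqs b Q).Coord k] [IsScalarTower R (sorthEqs b Q).Coord k]
    (m : ℕ) (hn : n = 2 * m + 1) (hQ : QuadGrp.IsSemiregular b (LinearEquiv.refl R R) Q) :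
    Module.finrank k (Derivation R (sorthEqs b Q).Coord k) = Nat.choose n 2 := by
  set B := (liftMat b Q).map (algebraMap R k) with hB
  have hBu : IsUnit (hd (cf B)) := by
    rw [hB, ← map_cf, ← map_hd]; exact (isUnit_hd_liftMat b Q hQ).map _
  have hPB : (polarMat b Q).map (algebraMap R k) = B + B.transpose := by
    rw [hB, ← Matrix.transpose_map, ← Matrix.map_add _ (map_add (algebraMap R k)), ← polarMat_eq]
  have hext : extra m B ∉ LinearMap.range (lin B) := by
    rintro ⟨η, hη⟩
    have h1 : cf ((B + B.transpose) * η) = cf B := funext fun s => congrFun hη (some s)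
    have h2 : η.trace = (m : k) := congrFun hη none
    -- first order variation of the half-discriminant
    let incl : k →+* DualNumber k := TrivSqZeroExt.inlHom k k
    let ε : Matrix (Fin n) (Fin n) (DualNumber k) := η.map TrivSqZeroExt.inr
    have hI : (RingHom.ker (TrivSqZeroExt.fstHom k k k).toRingHom : Ideal (DualNumber k)) ^ 2 = ⊥ := by
      rw [pow_two, eq_bot_iff, Ideal.mul_le]
      intro x hx y hy
      rw [Ideal.mem_bot]
      rw [RingHom.mem_ker] at hx hy
      have hx' : TrivSqZeroExt.fst x = 0 := hx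
      have hy' : TrivSqZeroExt.fst y = 0 := hy
      ext <;> simp [TrivSqZeroExt.snd_mul, hx', hy']
    have hε : ∀ i j, ε i j ∈ RingHom.ker (TrivSqZeroExt.fstHom k k k).toRingHom := fun i j => by simp [ε]
    have hc : cf ((1 * (1 + ε)).transpose * B.map incl * (1 * (1 + ε))) =
        (1 + TrivSqZeroExt.inr 1 : DualNumber k) • cf (B.map incl) := by
      rw [cf_correct hI (B.map incl) 1 ε hε fun s => by simp]
      funext s
      have e : ((B.map incl) + (B.map incl).transpose) * ε = ((B + B.transpose) * η).map TrivSqZeroExt.inr := by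
        ext i j
        · simp [Matrix.mul_apply, TrivSqZeroExt.fst_sum, ε, incl]
        · simp [Matrix.mul_apply, TrivSqZeroExt.snd_sum, TrivSqZeroExt.snd_mul, ε, incl]
      rw [e, Pi.add_apply, map_cf_inr, h1, Matrix.transpose_one, Matrix.one_mul, Matrix.mul_one, Pi.smul_apply,
        smul_eq_mul, ← map_cf]
      ext <;> simp [TrivSqZeroExt.snd_mul, incl]
    have hodd : Odd n := ⟨m, hn⟩
    have h3 := hd_cf_congr hodd (1 * (1 + ε)) (B.map incl)
    rw [hc, hd_smul hodd, Matrix.one_mul, det_one_add_of_sq hI ε hε] at h3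
    have hu : IsUnit (hd (cf (B.map incl))) := by rw [← map_cf, ← map_hd]; exact hBu.map _
    have h4 := hu.mul_right_cancel h3
    have htr : ε.trace = TrivSqZeroExt.inr (m : k) := by
      rw [← h2]; simp [ε, Matrix.trace, TrivSqZeroExt.inr_sum]
    have hp : ∀ (a : k) (i : ℕ), ((1 + TrivSqZeroExt.inr a : DualNumber k)) ^ i = 1 + TrivSqZeroExt.inr (i * a) := by
      intro a i
      induction i with
      | zero => simp
      | succ j ih => rw [pow_succ, ih]; ext <;> simp [TrivSqZeroExt.snd_mul, add_mul, add_comm]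
    rw [htr, hp, hp, mul_one, add_right_inj] at h4
    have h5 : (n : k) = 2 * (m : k) := by simpa using congrArg TrivSqZeroExt.snd h4
    rw [hn] at h5
    push_cast at h5
    exact one_ne_zero (add_left_cancel (a := 2 * (m : k)) (by rw [h5, add_zero]) : (1 : k) = 0)
  rw [finrank_derivation_eq (sorthEqs b Q) k (LinearMap.ker (lin B)) fun η => ?_]
  · have htop : LinearMap.range (lin B) ⊔ Submodule.span k {extra m B} = ⊤ := by
      refine eq_top_iff.2 fun w _ => ?_
      obtain ⟨η, c, h⟩ := global_surj m hn B hBu w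
      rw [← h]
      exact Submodule.add_mem_sup ⟨η, rfl⟩ (Submodule.smul_mem _ _ (Submodule.subset_span rfl))
    have hne : extra m B ≠ 0 := fun h => hext (h ▸ Submodule.zero_mem _)
    have hinf : LinearMap.range (lin B) ⊓ Submodule.span k {extra m B} = ⊥ := by
      refine eq_bot_iff.2 fun x ⟨hx1, hx2⟩ => ?_
      obtain ⟨c, rfl⟩ := Submodule.mem_span_singleton.1 hx2
      rcases eq_or_ne c 0 with rfl | hc
      · simp
      · exact absurd (by simpa [smul_smul, hc] using Submodule.smul_mem _ c⁻¹ hx1) hext
    have h1 := Submodule.finrank_sup_add_finrank_inf_eq (LinearMap.range (lin B)) (Submodule.span k {extra m B})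
    rw [htop, hinf, finrank_top, finrank_bot, finrank_span_singleton hne, Module.finrank_fintype_fun_eq_card,
      Fintype.card_option, card_sym2] at h1
    have h := LinearMap.finrank_range_add_finrank_ker (lin B)
    rw [finrank_matrix_eq] at h
    have := sq_sub_choose (n := n)
    omega
  · have hG := (sorthEqs b Q).matOf_mem (IsScalarTower.toAlgHom R (sorthEqs b Q).Coord k)
    have hO : ∀ s, (orthEqs b Q).E k (ptMat (sorthEqs b Q) k) s = 0 := fun s => hG.2 (some s)
    have hd1 : (ptMat (sorthEqs b Q) k).det = 1 := sub_eq_zero.1 (hG.2 none)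
    have hdet : (tanPt (sorthEqs b Q) k η).det - 1 = TrivSqZeroExt.inr η.trace := by
      have hI : (RingHom.ker (TrivSqZeroExt.fstHom k k k).toRingHom : Ideal (DualNumber k)) ^ 2 = ⊥ := by
        rw [pow_two, eq_bot_iff, Ideal.mul_le]
        intro x hx y hy
        rw [Ideal.mem_bot]
        rw [RingHom.mem_ker] at hx hy
        have hx' : TrivSqZeroExt.fst x = 0 := hx
        have hy' : TrivSqZeroExt.fst y = 0 := hy
        ext <;> simp [TrivSqZeroExt.snd_mul, hx', hy']
      rw [tanPt, Matrix.det_mul, det_one_add_of_sq hI _ (fun i j => by simp),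
        show ((ptMat (sorthEqs b Q) k).map (TrivSqZeroExt.inl : k → DualNumber k)).det =
          TrivSqZeroExt.inl (ptMat (sorthEqs b Q) k).det from (RingHom.map_det (TrivSqZeroExt.inlHom k k) _).symm,
        hd1, TrivSqZeroExt.inl_one, one_mul, add_sub_cancel_left]
      simp [Matrix.trace, TrivSqZeroExt.inr_sum]
    rw [LinearMap.mem_ker, funext_iff, Option.forall, Option.forall]
    refine and_congr ?_ (forall_congr' fun s => ?_)
    · show η.trace = 0 ↔ (tanPt (sorthEqs b Q) k η).det - 1 = 0
      rw [hdet]
      exact ⟨fun h => by rw [h, TrivSqZeroExt.inr_zero], fun h => by simpa using congrArg TrivSqZeroExt.snd h⟩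
    · show cf ((B + B.transpose) * η) s = 0 ↔ _
      rw [← hPB]
      exact (orth_tanPt b Q _ η hO s).symm

end orth

end Groth.Agent.QuadLib

end
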