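import Groth.Prelude.Def_QuadGrp2
import Mathlib.RingTheory.Smooth.Basic
import Mathlib.AlgebraicGeometry.Morphisms.Smooth
import Mathlib.LinearAlgebra.Matrix.NonsingularInverse
import Mathlib.RingTheory.FinitePresentation

/-!
# Pinned group schemes of linear automorphisms are coordinate algebras

`exists_iso_of_ptData`: a `QuadGrp.LinRep` group scheme is `Spec C` for any algebra `C` whose points
are the given functor; matrix coordinate algebras and their formal smoothness.
-/

set_option autoImplicit false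
set_option linter.unusedSectionVars false

noncomputable section

open CategoryTheory Limits AlgebraicGeometry TensorProduct MvPolynomial MonObj

universe u

namespace Groth.Agent.QuadLib

/-- A morphism bijective on affine-valued points is an isomorphism. -/
theorem isIso_of_affinePoints {X Y : Scheme.{u}} (u : X ⟶ Y)
    (H : ∀ (A : CommRingCat.{u}) (h : Spec A ⟶ Y), ∃ k : Spec A ⟶ X, k ≫ u = h)
    (H' : ∀ (A : CommRingCat.{u}) (k k' : Spec A ⟶ X), k ≫ u = k' ≫ u → k = k') : IsIso u := by
  have hmono : ∀ {T : Scheme.{u}} (k k' : T ⟶ X), k ≫ u = k' ≫ u → k = k' := by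
    intro T k k' hkk
    refine Scheme.Cover.hom_ext T.affineCover _ _ fun x => ?_
    have h1 := H' _ ((T.affineCover.X x).isoSpec.inv ≫ T.affineCover.f x ≫ k)
      ((T.affineCover.X x).isoSpec.inv ≫ T.affineCover.f x ≫ k')
      (by simp only [Category.assoc, hkk])
    exact (cancel_epi _).mp h1
  have hlift : ∀ i, ∃ k : Y.affineCover.X i ⟶ X, k ≫ u = Y.affineCover.f i := fun i => by
    obtain ⟨k, hk⟩ := H _ ((Y.affineCover.X i).isoSpec.inv ≫ Y.affineCover.f i)
    exact ⟨(Y.affineCover.X i).isoSpec.hom ≫ k, by rw [Category.assoc, hk, Iso.hom_inv_id_assoc]⟩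
  choose k hk using hlift
  let s := Y.affineCover.glueMorphisms k fun x y => hmono _ _ (by
    simp only [Category.assoc, hk, pullback.condition])
  have hsu : s ≫ u = 𝟙 Y := Scheme.Cover.hom_ext Y.affineCover _ _ fun x => by
    rw [Scheme.Cover.ι_glueMorphisms_assoc, hk, Category.comp_id]
  exact ⟨⟨s, hmono _ _ (by rw [Category.assoc, hsu, Category.comp_id, Category.id_comp]), hsu⟩⟩

section Rep

variable {R : Type u} [CommRing R] {M : Type u} [AddCommGroup M] [Module R M]
variable (S : ∀ (A : Type u) [CommRing A] [Algebra R A],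
  Subgroup ((A ⊗[R] M) ≃ₗ[A] (A ⊗[R] M)))

/-- An algebra whose points are the functor `S`, naturally. -/
structure PtData (C : Type u) [CommRing C] [Algebra R C] where
  /-- points -/
  Φ : ∀ (A : Type u) [CommRing A] [Algebra R A], (C →ₐ[R] A) ≃ ↥(S A)
  /-- naturality -/
  nat : ∀ (A B : Type u) [CommRing A] [Algebra R A] [CommRing B] [Algebra R B] (φ : A →ₐ[R] B)
    (ψ : C →ₐ[R] A) (m : M),
    ((Φ B (φ.comp ψ) : ↥(S B)) : (B ⊗[R] M) ≃ₗ[B] (B ⊗[R] M)) (1 ⊗ₜ[R] m) =
      LinearMap.rTensor M φ.toLinearMap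
        (((Φ A ψ : ↥(S A)) : (A ⊗[R] M) ≃ₗ[A] (A ⊗[R] M)) (1 ⊗ₜ[R] m))

theorem ext_one_tmul {A : Type u} [CommRing A] [Algebra R A]
    {f g : (A ⊗[R] M) ≃ₗ[A] (A ⊗[R] M)} (h : ∀ m, f (1 ⊗ₜ[R] m) = g (1 ⊗ₜ[R] m)) : f = g := by
  refine LinearEquiv.ext fun z => ?_
  induction z with
  | zero => simp
  | add a b ha hb => rw [map_add, map_add, ha, hb]
  | tmul a m =>
    have e : a ⊗ₜ[R] m = a • ((1 : A) ⊗ₜ[R] m) := by
      rw [TensorProduct.smul_tmul', smul_eq_mul, _root_.mul_one]
    rw [e, map_smul, map_smul, h]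

variable {S} {C : Type u} [CommRing C] [Algebra R C]

theorem exists_iso_of_ptData (P : PtData S C) {G : Over (Spec (CommRingCat.of R))} [GrpObj G]
    (D : QuadGrp.LinRep R M S G) :
    ∃ u : Spec (CommRingCat.of C) ⟶ G.left, IsIso u ∧
      u ≫ G.hom = Spec.map (CommRingCat.ofHom (algebraMap R C)) := by
  let y₀ : QuadGrp.specOver R C ⟶ G := (D.pts C).symm (P.Φ C (AlgHom.id R C))
  have key : ∀ (A : Type u) [CommRing A] [Algebra R A] (ψ : C →ₐ[R] A),
      D.pts A (QuadGrp.specOverMap R ψ ≫ y₀) = P.Φ A ψ := by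
    intro A _ _ ψ
    apply Subtype.ext
    refine ext_one_tmul fun m => ?_
    rw [D.natural, MulEquiv.apply_symm_apply, ← P.nat, AlgHom.comp_id]
  have hy₀ : y₀.left ≫ G.hom = Spec.map (CommRingCat.ofHom (algebraMap R C)) := Over.w y₀
  refine ⟨y₀.left, isIso_of_affinePoints _ (fun A h => ?_) (fun A k k' hkk => ?_), hy₀⟩
  · letI : Algebra R A := (Spec.preimage (h ≫ G.hom)).hom.toAlgebra
    let y : QuadGrp.specOver R A ⟶ G := Over.homMk h (by
      show h ≫ G.hom = Spec.map (CommRingCat.ofHom (algebraMap R A))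
      exact (Spec.map_preimage (h ≫ G.hom)).symm)
    let ψ := (P.Φ A).symm (D.pts A y)
    refine ⟨Spec.map (CommRingCat.ofHom ψ.toRingHom), ?_⟩
    have h1 : QuadGrp.specOverMap R ψ ≫ y₀ = y :=
      (D.pts A).injective (by rw [key, Equiv.apply_symm_apply])
    exact congrArg CommaMorphism.left h1
  · have hk : k ≫ Spec.map (CommRingCat.ofHom (algebraMap R C)) =
        k' ≫ Spec.map (CommRingCat.ofHom (algebraMap R C)) := by
      rw [← hy₀]
      exact (Category.assoc _ _ _).symm.trans ((congrArg (· ≫ G.hom) hkk).trans (Category.assoc _ _ _))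
    obtain ⟨φ, rfl⟩ := Spec.map_surjective k
    obtain ⟨φ', rfl⟩ := Spec.map_surjective k'
    rw [← Spec.map_comp, ← Spec.map_comp] at hk
    have hk' : φ.hom.comp (algebraMap R C) = φ'.hom.comp (algebraMap R C) :=
      congrArg CommRingCat.Hom.hom (Spec.map_injective hk)
    letI : Algebra R A := (φ.hom.comp (algebraMap R C)).toAlgebra
    let ψ : C →ₐ[R] A := { φ.hom with commutes' := fun r => rfl }
    let ψ' : C →ₐ[R] A := { φ'.hom with commutes' := fun r => (RingHom.congr_fun hk' r).symm }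
    have h1 : QuadGrp.specOverMap R ψ ≫ y₀ = QuadGrp.specOverMap R ψ' ≫ y₀ :=
      Over.OverMorphism.ext hkk
    have h2 : ψ = ψ' := (P.Φ A).injective (by rw [← key, ← key, h1])
    have h3 : φ.hom = φ'.hom := RingHom.ext fun c => AlgHom.congr_fun h2 c
    rw [CommRingCat.hom_ext h3]

theorem smooth_iff_of_ptData (P : PtData S C) {G : Over (Spec (CommRingCat.of R))} [GrpObj G]
    (D : QuadGrp.LinRep R M S G) :
    AlgebraicGeometry.Smooth G.hom ↔ Algebra.Smooth R C := by
  obtain ⟨u, hu, he⟩ := exists_iso_of_ptData P D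
  rw [← MorphismProperty.cancel_left_of_respectsIso @AlgebraicGeometry.Smooth u G.hom, he,
    HasRingHomProperty.Spec_iff (P := @AlgebraicGeometry.Smooth), CommRingCat.hom_ofHom,
    RingHom.smooth_algebraMap]

end Rep

section Coord

variable (R : Type u) [CommRing R] {n : ℕ} {κ : Type} [Finite κ]

/-- Matrix equations natural in the algebra. -/
structure MatEqs (n : ℕ) (κ : Type) where
  /-- the equations -/
  E : ∀ (A : Type u) [CommRing A] [Algebra R A], Matrix (Fin n) (Fin n) A → κ → A
  /-- naturality -/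
  map : ∀ (A B : Type u) [CommRing A] [Algebra R A] [CommRing B] [Algebra R B] (φ : A →ₐ[R] B)
    (G : Matrix (Fin n) (Fin n) A) (s : κ), φ (E A G s) = E B (G.map φ) s

variable {R} (Eq : MatEqs R n κ)

/-- Solutions in `A`. -/
def MatEqs.Sol (A : Type u) [CommRing A] [Algebra R A] : Type u :=
  {G : Matrix (Fin n) (Fin n) A // IsUnit G.det ∧ ∀ s, Eq.E A G s = 0}

/-- The universal matrix. -/
def univMat : Matrix (Fin n) (Fin n) (MvPolynomial (Option (Fin n × Fin n)) R) :=
  Matrix.of fun i j => X (some (i, j))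

/-- The relations. -/
def MatEqs.rels : Option κ → MvPolynomial (Option (Fin n × Fin n)) R
  | none => X none * (univMat (R := R)).det - 1
  | some s => Eq.E _ univMat s

/-- The coordinate algebra. -/
abbrev MatEqs.Coord : Type u :=
  MvPolynomial (Option (Fin n × Fin n)) R ⧸ Ideal.span (Set.range Eq.rels)

theorem MatEqs.finitePresentation : Algebra.FinitePresentation R Eq.Coord := by
  haveI := Fintype.ofFinite κ
  exact Algebra.FinitePresentation.quotient (Submodule.fg_span (Set.finite_range _))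

theorem map_univMat {A : Type u} [CommRing A] [Algebra R A]
    (φ : MvPolynomial (Option (Fin n × Fin n)) R →ₐ[R] A) :
    (univMat (R := R)).map φ = Matrix.of fun i j => φ (X (some (i, j))) := rfl

/-- The matrix of a point. -/
def MatEqs.matOf {A : Type u} [CommRing A] [Algebra R A] (ψ : Eq.Coord →ₐ[R] A) :
    Matrix (Fin n) (Fin n) A :=
  Matrix.of fun i j => ψ (Ideal.Quotient.mk _ (X (some (i, j))))

theorem MatEqs.matOf_mem {A : Type u} [CommRing A] [Algebra R A] (ψ : Eq.Coord →ₐ[R] A) :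
    IsUnit (Eq.matOf ψ).det ∧ ∀ s, Eq.E A (Eq.matOf ψ) s = 0 := by
  let φ := ψ.comp (Ideal.Quotient.mkₐ R (Ideal.span (Set.range Eq.rels)))
  have h0 : ∀ o, φ (Eq.rels o) = 0 := fun o => by
    simp [φ, Ideal.Quotient.eq_zero_iff_mem.mpr (Ideal.subset_span (Set.mem_range_self o))]
  have hmat : (univMat (R := R)).map φ = Eq.matOf ψ := rfl
  constructor
  · have := h0 none
    rw [MatEqs.rels, map_sub, map_mul, map_one, sub_eq_zero, AlgHom.map_det,
      AlgHom.mapMatrix_apply, hmat] at this
    exact IsUnit.of_mul_eq_one_right _ this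
  · intro s
    rw [← hmat, ← Eq.map]
    exact h0 (some s)

/-- The point of a solution. -/
def MatEqs.ofSol {A : Type u} [CommRing A] [Algebra R A] (G : Eq.Sol A) : Eq.Coord →ₐ[R] A :=
  Ideal.Quotient.liftₐ _ (aeval fun o => o.elim (Ring.inverse G.1.det) fun q => G.1 q.1 q.2)
    (fun a ha => by
      have : Ideal.span (Set.range Eq.rels) ≤ RingHom.ker
          (aeval fun o : Option (Fin n × Fin n) =>
            o.elim (Ring.inverse G.1.det) fun q => G.1 q.1 q.2 : MvPolynomial _ R →ₐ[R] A) := by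
        rw [Ideal.span_le]
        rintro _ ⟨o, rfl⟩
        rw [SetLike.mem_coe, RingHom.mem_ker]
        have hmat : (univMat (R := R)).map (aeval fun o : Option (Fin n × Fin n) =>
            o.elim (Ring.inverse G.1.det) fun q => G.1 q.1 q.2) = G.1 := by
          ext i j; simp [univMat]
        cases o with
        | none =>
          rw [MatEqs.rels, map_sub, map_mul, map_one, AlgHom.map_det, AlgHom.mapMatrix_apply, hmat,
            aeval_X, Option.elim_none, Ring.inverse_mul_cancel _ G.2.1, sub_self]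
        | some s => rw [MatEqs.rels, Eq.map, hmat, G.2.2 s]
      exact this ha)

/-- Points are solutions. -/
def MatEqs.equiv (A : Type u) [CommRing A] [Algebra R A] : (Eq.Coord →ₐ[R] A) ≃ Eq.Sol A where
  toFun ψ := ⟨Eq.matOf ψ, Eq.matOf_mem ψ⟩
  invFun := Eq.ofSol
  left_inv ψ := by
    refine Ideal.Quotient.algHom_ext R (MvPolynomial.algHom_ext fun o => ?_)
    simp only [AlgHom.comp_apply, Ideal.Quotient.mkₐ_eq_mk, MatEqs.ofSol]
    show (aeval _ : MvPolynomial _ R →ₐ[R] A) (X o) = _
    rw [aeval_X]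
    cases o with
    | some q => rfl
    | none =>
      have h := congrArg ψ (Ideal.Quotient.eq_zero_iff_mem.mpr
        (Ideal.subset_span (Set.mem_range_self none)) : Ideal.Quotient.mk _ (Eq.rels none) = 0)
      rw [MatEqs.rels, map_sub, map_mul, map_one, map_sub, map_mul, map_one, map_zero,
        sub_eq_zero] at h
      have hd : ψ (Ideal.Quotient.mk _ (univMat (R := R)).det) = (Eq.matOf ψ).det := by
        show (ψ.comp (Ideal.Quotient.mkₐ R (Ideal.span (Set.range Eq.rels)))) _ = _
        rw [AlgHom.map_det, AlgHom.mapMatrix_apply]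
        rfl
      rw [hd] at h
      show Ring.inverse (Eq.matOf ψ).det = _
      exact (left_inv_eq_right_inv h (Ring.mul_inverse_cancel _ (Eq.matOf_mem ψ).1)).symm
  right_inv G := by
    apply Subtype.ext
    ext i j
    show (aeval _ : MvPolynomial _ R →ₐ[R] A) (X (some (i, j))) = _
    rw [aeval_X]
    rfl

theorem MatEqs.equiv_comp {A B : Type u} [CommRing A] [Algebra R A] [CommRing B] [Algebra R B]
    (φ : A →ₐ[R] B) (ψ : Eq.Coord →ₐ[R] A) :
    (Eq.equiv B (φ.comp ψ)).1 = (Eq.equiv A ψ).1.map φ := rfl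

/-- Lifting solutions along square-zero extensions gives formal smoothness. -/
theorem MatEqs.smooth_of_lift
    (H : ∀ (B : Type u) [CommRing B] [Algebra R B] (I : Ideal B), I ^ 2 = ⊥ → ∀ G₀ : Eq.Sol (B ⧸ I),
      ∃ G : Eq.Sol B, G.1.map (Ideal.Quotient.mk I) = G₀.1) :
    Algebra.Smooth R Eq.Coord := by
  haveI := Eq.finitePresentation
  haveI : Algebra.FormallySmooth R Eq.Coord := Algebra.FormallySmooth.of_comp_surjective
    fun B _ _ I hI f => by
      obtain ⟨G, hG⟩ := H B I hI (Eq.equiv _ f)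
      refine ⟨(Eq.equiv B).symm G, (Eq.equiv _).injective (Subtype.ext ?_)⟩
      rw [Eq.equiv_comp, Equiv.apply_symm_apply]
      exact hG
  exact { formallySmooth := inferInstance, finitePresentation := inferInstance }

theorem MatEqs.lift_of_smooth [Algebra.Smooth R Eq.Coord] (B : Type u) [CommRing B] [Algebra R B]
    (I : Ideal B) (hI : I ^ 2 = ⊥) (G₀ : Eq.Sol (B ⧸ I)) :
    ∃ G : Eq.Sol B, G.1.map (Ideal.Quotient.mk I) = G₀.1 := by
  obtain ⟨f, hf⟩ := Algebra.FormallySmooth.comp_surjective R Eq.Coord I hI ((Eq.equiv _).symm G₀)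
  refine ⟨Eq.equiv B f, ?_⟩
  have := congrArg (fun ψ => (Eq.equiv (B ⧸ I) ψ).1) hf
  simp only [Equiv.apply_symm_apply, Eq.equiv_comp] at this
  exact this

end Coord

end Groth.Agent.QuadLib

end
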