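import Groth.Agent.QuadLib.Moves
import Groth.Agent.QuadLib.FibreConnected
import Mathlib.RingTheory.Localization.Away.Basic
import Mathlib.RingTheory.FiniteType
import Mathlib.Algebra.Polynomial.Roots

/-!
# Connectedness of the geometric fibres of special orthogonal group schemes

`toMatrix_push`, `connectedSpace_baseChange`: curves through Eichler transformations and tori join all points.
-/

set_option autoImplicit false
set_option linter.unusedSectionVars false
set_option linter.style.haveILetI false

noncomputable section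

open TensorProduct

universe u

namespace Groth.Agent.QuadLib

variable {R : Type u} [CommRing R] {M : Type u} [AddCommGroup M] [Module R M] {n : ℕ}
  (b : Module.Basis (Fin n) R M)

local notation "mat" A:max g:max =>
  LinearMap.toMatrix (Module.Basis.baseChange A b) (Module.Basis.baseChange A b) (LinearEquiv.toLinearMap g)

theorem repr_push {A B : Type u} [CommRing A] [Algebra R A] [CommRing B] [Algebra R B] (φ : A →ₐ[R] B)
    (v : A ⊗[R] M) (i : Fin n) :
    (b.baseChange B).repr (LinearMap.rTensor M φ.toLinearMap v) i = φ ((b.baseChange A).repr v i) := by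
  induction v with
  | zero => simp
  | add a c ha hc => simp only [map_add, Finsupp.add_apply, ha, hc]
  | tmul a m => simp

variable {S : ∀ (A : Type u) [CommRing A] [Algebra R A], Subgroup ((A ⊗[R] M) ≃ₗ[A] (A ⊗[R] M))}
  {Cf : Type u} [CommRing Cf] [Algebra R Cf]

theorem toMatrix_push (P : PtData S Cf) {A B : Type u} [CommRing A] [Algebra R A] [CommRing B] [Algebra R B]
    (φ : A →ₐ[R] B) (ψ : Cf →ₐ[R] A) :
    mat B (P.Φ B (φ.comp ψ) : (B ⊗[R] M) ≃ₗ[B] (B ⊗[R] M)) =
      (mat A (P.Φ A ψ : (A ⊗[R] M) ≃ₗ[A] (A ⊗[R] M))).map φ := by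
  ext i j
  simp only [LinearMap.toMatrix_apply, Matrix.map_apply, LinearEquiv.coe_toLinearMap, Module.Basis.baseChange_apply]
  rw [P.nat, repr_push]

variable [Module.Free R M] (Q : QuadraticForm R M) (k : Type u) [Field k] [IsAlgClosed k] [Algebra R k]

/-- The geometric fibre is connected. -/
theorem connectedSpace_baseChange [Algebra.FiniteType R Cf] (P : PtData S Cf)
    (hSO : ∀ g, g ∈ S k → g ∈ QuadGrp.orth Q k)
    (hN : ∀ x, (∀ y, QuadraticMap.polar (QuadGrp.baseChangeForm k Q) x y = 0) →
      QuadGrp.baseChangeForm k Q x = 0 → x = 0)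
    (hsq : ∀ (D : Type u) [CommRing D] [Algebra R D] (G : Matrix (Fin n) (Fin n) D),
      (∀ s, (orthEqs b Q).E D G s = 0) → G.det * G.det = 1)
    (hlift : ∀ (D : Type u) [CommRing D] [IsDomain D] [Algebra R D] [Algebra k D] (ev : D →ₐ[R] k)
      (g : (D ⊗[R] M) ≃ₗ[D] (D ⊗[R] M)), g ∈ QuadGrp.orth Q D →
      (∃ g' ∈ S k, mat k g' = (mat D g).map ev) → g ∈ S D)
    (hrefl : Even n ∨ (2 : k) ≠ 0 → ∀ g ∈ S k, ¬ IsRefl (QuadGrp.baseChangeForm k Q) g) :
    ConnectedSpace (PrimeSpectrum (k ⊗[R] Cf)) := by
  haveI := Module.Finite.of_basis b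
  set bk := b.baseChange k
  have hrank : Module.finrank k (k ⊗[R] M) = n := by rw [Module.finrank_eq_card_basis bk, Fintype.card_fin]
  let one : Cf →ₐ[R] k := (P.Φ k).symm 1
  refine connectedSpace_of_points (Algebra.TensorProduct.lift (Algebra.ofId k k) one fun _ _ => Commute.all _ _)
    fun ε hε => ?_
  let Fv : (Cf →ₐ[R] k) → k := fun ψ => Algebra.TensorProduct.lift (Algebra.ofId k k) ψ (fun _ _ => Commute.all _ _) ε
  let Fg : S k → k := fun g => Fv ((P.Φ k).symm g)
  have hfam : ∀ (D : Type u) [CommRing D] [IsDomain D] [Algebra k D] [Algebra R D] [IsScalarTower R k D]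
      (ψ : Cf →ₐ[R] D) (e e' : D →ₐ[k] k), Fv ((e.restrictScalars R).comp ψ) = Fv ((e'.restrictScalars R).comp ψ) := by
    intro D _ _ _ _ _ ψ e e'
    let L := Algebra.TensorProduct.lift (Algebra.ofId k D) ψ fun _ _ => Commute.all _ _
    have hL : ∀ e : D →ₐ[k] k, Fv ((e.restrictScalars R).comp ψ) = e (L ε) := by
      intro e
      have : e.comp L = Algebra.TensorProduct.lift (Algebra.ofId k k) ((e.restrictScalars R).comp ψ)
          fun _ _ => Commute.all _ _ := Algebra.TensorProduct.ext (by ext) (by ext; simp [L])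
      exact (AlgHom.congr_fun this ε).symm
    rw [hL, hL]
    rcases IsIdempotentElem.iff_eq_zero_or_one.1 (hε.map L) with h | h <;> simp [h]
  have hmul : ∀ g h : (k ⊗[R] M) ≃ₗ[k] (k ⊗[R] M), mat k (g * h) = mat k g * mat k h :=
    fun g h => LinearMap.toMatrix_comp bk bk bk g.toLinearMap h.toLinearMap
  have hinj : ∀ g h : (k ⊗[R] M) ≃ₗ[k] (k ⊗[R] M), mat k g = mat k h → g = h := fun g h e =>
    LinearEquiv.toLinearMap_injective ((LinearMap.toMatrix bk bk).injective e)
  have path : ∀ (D : Type u) [CommRing D] [IsDomain D] [Algebra k D] [Algebra R D] [IsScalarTower R k D] (ι : Type u)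
      (ev : ι → D →ₐ[k] k), (∀ x, (∀ t, ev t x = 0) → x = 0) → ∀ (Γ : Matrix (Fin n) (Fin n) D)
      (hs : ι → (k ⊗[R] M) ≃ₗ[k] (k ⊗[R] M)), (∀ t, hs t ∈ QuadGrp.O (QuadGrp.baseChangeForm k Q)) →
      (∀ t, mat k (hs t) = Γ.map (ev t)) → ∀ t₀ t₁, hs t₀ = 1 → ∀ g : S k,
      ∃ hm : (g : (k ⊗[R] M) ≃ₗ[k] (k ⊗[R] M)) * hs t₁ ∈ S k, Fg ⟨_, hm⟩ = Fg g := by
    intro D _ _ _ _ _ ι ev hsep Γ hs hO hΓ t₀ t₁ h0 g
    let G' := (mat k g.1).map (algebraMap k D) * Γ
    have hG' : ∀ t, G'.map (ev t) = mat k (g.1 * hs t) := fun t => by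
      rw [hmul, hΓ]
      show (((mat k g.1).map (algebraMap k D)) * Γ).map (ev t) = _
      rw [Matrix.map_mul, Matrix.map_map]
      congr 1
      ext i j
      exact (ev t).commutes _
    have hE : ∀ s, (orthEqs b Q).E D G' s = 0 := fun s =>
      (orthEqs b Q).eval_zero (fun t => (ev t).restrictScalars R) hsep G' (fun t s => by
        show (orthEqs b Q).E k (G'.map (ev t)) s = 0
        rw [hG']
        exact (mem_orth_iff b Q k _).1 ((mem_O_baseChange_iff Q k _).1
          ((QuadGrp.O _).mul_mem ((mem_O_baseChange_iff Q k _).2 (hSO _ g.2)) (hO t))) s) s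
    have hu : IsUnit G'.det := IsUnit.of_mul_eq_one _ (hsq D G' hE)
    let gD := Matrix.toLinearEquiv (b.baseChange D) G' hu
    have hgD : mat D gD = G' := by
      rw [show gD.toLinearMap = Matrix.toLin (b.baseChange D) (b.baseChange D) G' from LinearMap.ext fun _ => rfl,
        LinearMap.toMatrix_toLin]
    have hgO : gD ∈ QuadGrp.orth Q D := (mem_orth_iff b Q D gD).2 fun s => by rw [hgD]; exact hE s
    have hgS : gD ∈ S D := hlift D ((ev t₀).restrictScalars R) gD hgO ⟨g.1, g.2, by
      rw [hgD]
      show _ = G'.map (ev t₀)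
      rw [hG', h0, mul_one]⟩
    let ψ := (P.Φ D).symm ⟨gD, hgS⟩
    have hpt : ∀ t, (P.Φ k (((ev t).restrictScalars R).comp ψ) : (k ⊗[R] M) ≃ₗ[k] (k ⊗[R] M)) = g.1 * hs t :=
      fun t => hinj _ _ (by
        rw [toMatrix_push, Equiv.apply_symm_apply, hgD]
        exact hG' t)
    refine ⟨hpt t₁ ▸ (P.Φ k _).2, ?_⟩
    have e1 : (P.Φ k).symm ⟨g.1 * hs t₁, hpt t₁ ▸ (P.Φ k _).2⟩ = ((ev t₁).restrictScalars R).comp ψ := by
      rw [Equiv.symm_apply_eq]; exact Subtype.ext (hpt t₁).symm
    have e2 : (P.Φ k).symm g = ((ev t₀).restrictScalars R).comp ψ := by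
      rw [Equiv.symm_apply_eq]; exact Subtype.ext (by rw [hpt, h0, mul_one])
    show Fv _ = Fv _
    rw [e1, e2]
    exact hfam D ψ _ _
  have step : ∀ h ∈ gens (QuadGrp.baseChangeForm k Q), ∀ g : S k,
      ∃ hm : (g : (k ⊗[R] M) ≃ₗ[k] (k ⊗[R] M)) * h ∈ S k, Fg ⟨_, hm⟩ = Fg g := by
    rintro h (⟨p, w, hp, hpw, rfl⟩ | ⟨p, q, hp, hq, hpq, c, rfl⟩) g
    · set QK := QuadGrp.baseChangeForm k Q
      have hpt : ∀ t : k, QuadraticMap.polar QK p (t • w) = 0 := fun t => by
        rw [QuadraticMap.polar_smul_right, hpw, smul_zero]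
      let L₁ := (QuadraticMap.polarBilin QK w).smulRight p - (QuadraticMap.polarBilin QK p).smulRight w
      let L₂ := -((QK w) • (QuadraticMap.polarBilin QK p).smulRight p)
      let Γ : Matrix (Fin n) (Fin n) (Polynomial k) := 1 +
        (Polynomial.X : Polynomial k) • (LinearMap.toMatrix bk bk L₁).map Polynomial.C +
        (Polynomial.X * Polynomial.X : Polynomial k) • (LinearMap.toMatrix bk bk L₂).map Polynomial.C
      have hL : ∀ t : k, (eichler QK hp (hpt t)).toLinearMap = LinearMap.id + t • L₁ + (t * t) • L₂ := fun t => by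
        refine LinearMap.ext fun x => ?_
        rw [LinearEquiv.coe_toLinearMap, eichler_apply]
        simp only [L₁, L₂, LinearMap.add_apply, LinearMap.smul_apply, LinearMap.sub_apply, LinearMap.smulRight_apply,
          LinearMap.neg_apply, LinearMap.id_apply, QuadraticMap.polarBilin_apply_apply, QuadraticMap.map_smul,
          QuadraticMap.polar_smul_left, smul_eq_mul]
        module
      have hsep : ∀ x : Polynomial k, (∀ t : k, Polynomial.aeval t x = 0) → x = 0 := fun x hx =>
        Polynomial.funext fun t => by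
          rw [Polynomial.eval_zero]
          simpa [Polynomial.coe_aeval_eq_eval] using hx t
      obtain ⟨hm, hF⟩ := path (Polynomial k) k (fun t => Polynomial.aeval t) hsep Γ
        (fun t => eichler QK hp (hpt t)) (fun t => eichler_mem QK hp (hpt t)) (fun t => by
          rw [hL, map_add, map_add, map_smul, map_smul, LinearMap.toMatrix_id]
          ext i j
          simp only [Γ, Matrix.add_apply, Matrix.smul_apply, Matrix.map_apply, smul_eq_mul, map_add, map_mul,
            Polynomial.aeval_X, Polynomial.aeval_C, Algebra.algebraMap_self_apply]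
          congr 2
          by_cases hij : i = j <;> simp [Matrix.one_apply, hij]) 0 1
        (LinearEquiv.toLinearMap_injective (by rw [hL]; simp)) g
      have e : eichler QK hp (hpt 1) = eichler QK hp hpw := LinearEquiv.ext fun x => by
        rw [eichler_apply, eichler_apply, one_smul]
      rw [← e]
      exact ⟨hm, hF⟩
    · set QK := QuadGrp.baseChangeForm k Q
      let L₁ := (QuadraticMap.polarBilin QK q).smulRight p
      let L₂ := (QuadraticMap.polarBilin QK p).smulRight q
      let D := Localization.Away (Polynomial.X : Polynomial k)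
      haveI : IsDomain D := IsLocalization.isDomain_localization
        (powers_le_nonZeroDivisors_of_noZeroDivisors Polynomial.X_ne_zero)
      let T : D := algebraMap (Polynomial k) D Polynomial.X
      let T' : D := IsLocalization.Away.invSelf (Polynomial.X : Polynomial k)
      have hT : T * T' = 1 := IsLocalization.Away.mul_invSelf _
      let Γ : Matrix (Fin n) (Fin n) D := 1 + (T - 1) • (LinearMap.toMatrix bk bk L₁).map (algebraMap k D) +
        (T' - 1) • (LinearMap.toMatrix bk bk L₂).map (algebraMap k D)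
      have hunit : ∀ (t : kˣ) (y : Submonoid.powers (Polynomial.X : Polynomial k)),
          IsUnit (Polynomial.aeval (t : k) (y : Polynomial k)) := fun t ⟨y, i, hi⟩ => by
        subst hi
        simp
      let ev : kˣ → D →ₐ[k] k := fun t => IsLocalization.liftAlgHom (hunit t)
      have hev : ∀ (t : kˣ) p, ev t (algebraMap (Polynomial k) D p) = Polynomial.aeval (t : k) p :=
        fun t p => IsLocalization.lift_eq _ p
      have hevT : ∀ t : kˣ, ev t T = t := fun t => by rw [hev, Polynomial.aeval_X]
      have hevT' : ∀ t : kˣ, ev t T' = (↑t⁻¹ : k) := fun t => by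
        have h := congrArg (ev t) hT
        rw [map_mul, map_one, hevT] at h
        exact (left_inv_eq_right_inv (Units.inv_mul t) h).symm
      have hsep : ∀ x : D, (∀ t, ev t x = 0) → x = 0 := fun x hx => by
        obtain ⟨⟨a, y⟩, ha⟩ := IsLocalization.surj (Submonoid.powers (Polynomial.X : Polynomial k)) x
        have ha0 : a = 0 := Polynomial.eq_zero_of_infinite_isRoot a (Set.Infinite.mono (s := {0}ᶜ) (fun t ht => by
          have h := congrArg (ev (Units.mk0 t ht)) ha
          rw [map_mul, hx, zero_mul, hev, Polynomial.coe_aeval_eq_eval] at h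
          exact h.symm) (Set.finite_singleton (0 : k)).infinite_compl)
        rw [show algebraMap (Polynomial k) D (a, y).1 = 0 by rw [ha0, map_zero]] at ha
        exact (IsLocalization.map_units D y).mul_left_eq_zero.1 ha
      obtain ⟨hm, hF⟩ := path D kˣ ev hsep Γ (fun t => torus QK hp hq hpq t) (fun t => torus_mem QK hp hq hpq t)
        (fun t => by
          rw [show (torus QK hp hq hpq t).toLinearMap = LinearMap.id + ((t : k) - 1) • L₁ +
              (((t⁻¹ : kˣ) : k) - 1) • L₂ from rfl,
            map_add, map_add, map_smul, map_smul, LinearMap.toMatrix_id]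
          ext i j
          simp only [Γ, Matrix.add_apply, Matrix.smul_apply, Matrix.map_apply, smul_eq_mul, map_add, map_mul,
            map_sub, map_one, AlgHom.commutes, hevT, hevT', Algebra.algebraMap_self_apply]
          congr 2
          by_cases hij : i = j <;> simp [Matrix.one_apply, hij]) 1 c
        (LinearEquiv.ext fun x => by rw [torus_apply]; simp) g
      exact ⟨hm, hF⟩
  let H : Subgroup ↥(S k) :=
    { carrier := {h | ∀ g, Fg (g * h) = Fg g}
      one_mem' := fun g => by rw [mul_one]
      mul_mem' := fun {a c} ha hc g => by rw [← mul_assoc, hc, ha]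
      inv_mem' := fun {a} ha g => by rw [← ha (g * a⁻¹), inv_mul_cancel_right] }
  have hgensS : gens (QuadGrp.baseChangeForm k Q) ⊆ (S k : Set _) := fun h hh => by
    obtain ⟨hm, -⟩ := step h hh 1
    simpa using hm
  have hclos : Subgroup.closure (gens (QuadGrp.baseChangeForm k Q)) ≤ H.map (S k).subtype :=
    (Subgroup.closure_le _).2 fun h hh => ⟨⟨h, hgensS hh⟩, fun g => (step h hh g).2, rfl⟩
  have hall : ∀ g : S k, Fg g = Fg 1 := fun g => by
    obtain ⟨g', hg', e⟩ := hclos (mem_closure_gens (QuadGrp.baseChangeForm k Q) (S k) hgensS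
      (fun x hx => (mem_O_baseChange_iff Q k x).2 (hSO x hx)) (by rwa [hrank]) hN g.2)
    rw [← Subtype.ext e]
    simpa using hg' 1
  intro f f'
  have hF : ∀ f : k ⊗[R] Cf →ₐ[k] k, f ε = Fg 1 := fun f => by
    rw [← hall (P.Φ k ((f.restrictScalars R).comp Algebra.TensorProduct.includeRight))]
    show f ε = Fv _
    rw [Equiv.symm_apply_apply]
    exact AlgHom.congr_fun (Algebra.TensorProduct.ext (by ext) (by ext; simp) :
      f = Algebra.TensorProduct.lift (Algebra.ofId k k) ((f.restrictScalars R).comp Algebra.TensorProduct.includeRight)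
        fun _ _ => Commute.all _ _) ε
  rw [hF, hF]

end Groth.Agent.QuadLib

end
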