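import Groth.Agent.QuadLib.DicksonBC
import Groth.Agent.QuadLib.SOConnected
import Groth.Agent.QuadLib.Fibre
import Mathlib.LinearAlgebra.Transvection.Basic

/-!
# The special orthogonal group scheme: relative dimension and connected fibres

`awayPt`, `det_refl`, `not_dickson_refl`, `sorth_odd_main`, `sorth_even_main`.
-/

set_option autoImplicit false
set_option linter.unusedSectionVars false
set_option linter.style.haveILetI false

noncomputable section

open CategoryTheory AlgebraicGeometry TensorProduct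

universe u v

namespace Groth.Agent.QuadLib

section away

variable {R : Type u} [CommRing R] {M : Type u} [AddCommGroup M] [Module R M]
  {S T : ∀ (A : Type u) [CommRing A] [Algebra R A], Subgroup ((A ⊗[R] M) ≃ₗ[A] (A ⊗[R] M))}
  {C : Type u} [CommRing C] [Algebra R C]

/-- Points of a principal open. -/
def awayPt (P : PtData T C) (e : C)
    (h : ∀ (A : Type u) [CommRing A] [Algebra R A] (g : (A ⊗[R] M) ≃ₗ[A] (A ⊗[R] M)),
      g ∈ S A ↔ ∃ hg : g ∈ T A, IsUnit ((P.Φ A).symm ⟨g, hg⟩ e)) :
    PtData S (Localization.Away e) where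
  Φ A _ _ :=
    have hu : ∀ g : S A, ∀ y : Submonoid.powers e,
        IsUnit ((P.Φ A).symm ⟨g.1, ((h A g.1).1 g.2).1⟩ (y : C)) := fun g ⟨y, i, hi⟩ => by
      subst hi
      simp only [map_pow]
      exact (((h A g.1).1 g.2).2).pow i
    { toFun := fun ψ => ⟨(P.Φ A (ψ.comp (IsScalarTower.toAlgHom R C _)) : _), (h A _).2 ⟨(P.Φ A _).2, by
        rw [Subtype.coe_eta, Equiv.symm_apply_apply]
        exact (IsLocalization.Away.algebraMap_isUnit e).map ψ⟩⟩
      invFun := fun g => IsLocalization.liftAlgHom (hu g)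
      left_inv := fun ψ => IsLocalization.algHom_ext (Submonoid.powers e) (AlgHom.ext fun c => by
        refine (IsLocalization.lift_eq _ c).trans ?_
        simp only [Subtype.coe_eta, Equiv.symm_apply_apply]
        rfl)
      right_inv := fun g => by
        apply Subtype.ext
        have e' : (IsLocalization.liftAlgHom (hu g)).comp (IsScalarTower.toAlgHom R C (Localization.Away e)) =
            (P.Φ A).symm ⟨g.1, ((h A g.1).1 g.2).1⟩ := AlgHom.ext fun c => IsLocalization.lift_eq _ c
        simp only [e', Equiv.apply_symm_apply] }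
  nat A B _ _ _ _ φ ψ m := P.nat A B φ (ψ.comp (IsScalarTower.toAlgHom R C (Localization.Away e))) m

end away

section refl

variable {k : Type u} [Field k] {V : Type v} [AddCommGroup V] [Module k V] [Module.Finite k V]
  (Q : QuadraticForm k V)

theorem det_refl {g : V ≃ₗ[k] V} (h : IsRefl Q g) : (LinearEquiv.det g : k) = -1 := by
  obtain ⟨e, he, hg⟩ := h
  have : g.toLinearMap = LinearMap.transvection (-((Q e)⁻¹ • QuadraticMap.polarBilin Q e)) e :=
    LinearMap.ext fun x => by
      rw [LinearEquiv.coe_toLinearMap, hg, LinearMap.transvection.apply]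
      simp only [LinearMap.neg_apply, LinearMap.smul_apply, QuadraticMap.polarBilin_apply_apply, smul_eq_mul,
        div_eq_inv_mul]
      module
  rw [LinearEquiv.coe_det, this, LinearMap.transvection.det]
  simp only [LinearMap.neg_apply, LinearMap.smul_apply, QuadraticMap.polarBilin_apply_apply,
    QuadraticMap.polar_self, smul_eq_mul, nsmul_eq_mul, Nat.cast_ofNat]
  field_simp
  ring

open CliffordAlgebra in
theorem not_dickson_refl {m : ℕ} (hV : Module.finrank k V = 2 * m) (hQ : QuadGrp.IsRegular Q)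
    {g : V ≃ₗ[k] V} (hg : g ∈ QuadGrp.O Q) (h : IsRefl Q g) : ¬ QuadGrp.IsDicksonTrivial Q g hg := by
  obtain ⟨e, he, hge⟩ := h
  obtain ⟨z, b, hz⟩ := CliffStr.exists_even_data hV hQ
  let g' : V ≃ₗ[k] V := g.trans (LinearEquiv.neg k)
  have hg' : g' ∈ QuadGrp.O Q := fun x => by
    show Q (-(g x)) = Q x
    rw [QuadraticMap.map_neg, hg]
  let u : (CliffordAlgebra Q)ˣ :=
    ⟨ι Q e, (Q e)⁻¹ • ι Q e,
      by rw [mul_smul_comm, ι_sq_scalar, Algebra.algebraMap_eq_smul_one, smul_smul, inv_mul_cancel₀ he, one_smul],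
      by rw [smul_mul_assoc, ι_sq_scalar, Algebra.algebraMap_eq_smul_one, smul_smul, inv_mul_cancel₀ he, one_smul]⟩
  have hi : CliffStr.Induces u g' := CliffStr.induces_of_swap fun x => by
    show ι Q e * ι Q x = ι Q (-(g x)) * ι Q e
    rw [hge, map_neg, map_sub, map_smul, neg_sub, sub_mul, smul_mul_assoc, ι_sq_scalar,
      eq_sub_iff_add_eq, ι_mul_ι_add_swap, Algebra.algebraMap_eq_smul_one (R := k) (Q e), smul_smul,
      div_mul_cancel₀ _ he, Algebra.algebraMap_eq_smul_one]
  intro hd
  refine CliffStr.not_dickson_of_odd b hz hg' hi (ι_mem_evenOdd_one Q e) ((CliffStr.dickson_iff hg').2 fun y h0 hy => ?_)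
  have hm : (CliffordAlgebra.map (QuadGrp.isometryOfMem Q g' hg')) =
      (CliffordAlgebra.map (QuadGrp.isometryOfMem Q g hg)).comp CliffordAlgebra.involute := by
    apply CliffordAlgebra.hom_ext
    ext x
    simp [g', QuadGrp.isometryOfMem_apply]
  rw [hm, AlgHom.comp_apply, involute_eq_of_mem_even h0]
  exact (CliffStr.dickson_iff hg).1 hd y h0 hy

end refl

section main

variable {R : Type u} [CommRing R] {M : Type u} [AddCommGroup M] [Module R M] [Module.Free R M] {n : ℕ}
  (b : Module.Basis (Fin n) R M) (Q : QuadraticForm R M)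

include b in
theorem sorth_eq_of_odd {m : ℕ} (hn : n = 2 * m + 1) (A : Type u) [CommRing A] [Algebra R A]
    (g : (A ⊗[R] M) ≃ₗ[A] (A ⊗[R] M)) : g ∈ QuadGrp.sorth Q A ↔ g ∈ QuadGrp.sorth' Q A := by
  rcases subsingleton_or_nontrivial A with hA | hA
  · haveI := Module.subsingleton A (A ⊗[R] M)
    have : g = 1 := LinearEquiv.ext fun x => Subsingleton.elim _ _
    subst this
    exact ⟨fun _ => one_mem _, fun _ => one_mem _⟩
  · have hodd : ¬ Even (Module.finrank A (A ⊗[R] M)) := by
      rw [Module.finrank_eq_card_basis (b.baseChange A), Fintype.card_fin, hn]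
      exact Nat.not_even_iff_odd.2 ⟨m, rfl⟩
    haveI := Module.Finite.of_basis b
    unfold QuadGrp.sorth QuadGrp.SO
    rw [if_neg hodd]
    exact and_congr (mem_O_baseChange_iff Q A g) Iff.rfl

/-- Odd rank. -/
theorem sorth_odd_main {m : ℕ} (hn : n = 2 * m + 1) (hQ : QuadGrp.IsSemiregular b (LinearEquiv.refl R R) Q)
    {G : Over (Spec (CommRingCat.of R))} [GrpObj G] (D : QuadGrp.SOrthRep Q G) :
    SmoothOfRelativeDimension (Nat.choose n 2) G.hom ∧
      ∀ s : ↥(Spec (CommRingCat.of R)), ConnectedSpace ↥(G.hom.fiber s) := by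
  haveI := Module.Finite.of_basis b
  have hodd : Odd n := ⟨m, hn⟩
  haveI : Algebra.Smooth R (sorthEqs b Q).Coord :=
    sorth_smooth b Q ⟨fun he => absurd he (Nat.not_even_iff_odd.2 hodd), fun _ => hQ⟩ (Or.inl hodd)
  let P : PtData (fun A _ _ => QuadGrp.sorth Q A) (sorthEqs b Q).Coord :=
    ptData b (sorthEqs b Q) _ fun A _ _ g => (sorth_eq_of_odd b Q hn A g).trans (mem_sorth'_iff b Q A g)
  obtain ⟨u, hu, he⟩ := exists_iso_of_ptData P D
  refine smoothOfRelativeDimension_connected_of_iso _ u he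
    (locally_standardSmooth_of_derivations _ fun k _ _ _ _ => finrank_derivation_sorth b Q m hn hQ)
    fun k _ _ _ => ?_
  have hhd : IsUnit (hd (cf ((liftMat b Q).map (algebraMap R k)))) := by
    rw [← map_cf, ← map_hd]; exact (isUnit_hd_liftMat b Q hQ).map _
  refine connectedSpace_baseChange b Q k P (fun g hg => ((sorth_eq_of_odd b Q hn k g).1 hg).1) ?_ ?_ ?_ ?_
  · intro x hx hQx
    have hnd := (hd_ne_zero_iff_nondegenerate hodd (b.baseChange k) _ _ (baseChangeForm_repr b Q k)).1 hhd.ne_zero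
    have : x ∈ (QuadGrp.baseChangeForm k Q).radical :=
      QuadraticMap.mem_radical_iff'.2 ⟨hQx, fun y => by
        have := hx y
        rw [QuadraticMap.polar, sub_sub, sub_eq_zero, hQx, zero_add] at this
        exact this⟩
    rwa [hnd.radical_eq_bot, Submodule.mem_bot] at this
  · intro A _ _ G hG
    have h := hd_cf_congr hodd G ((liftMat b Q).map (algebraMap R A))
    rw [show cf (G.transpose * (liftMat b Q).map (algebraMap R A) * G) = cf ((liftMat b Q).map (algebraMap R A)) from
      funext fun s => sub_eq_zero.1 (hG s), pow_two] at h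
    have hu' : IsUnit (hd (cf ((liftMat b Q).map (algebraMap R A)))) := by
      rw [← map_cf, ← map_hd]; exact (isUnit_hd_liftMat b Q hQ).map _
    exact (hu'.mul_eq_right).1 h.symm
  · intro A _ _ _ _ ev g hg ⟨g', hg', hmat⟩
    refine (sorth_eq_of_odd b Q hn A g).2 ((mem_sorth'_iff b Q A g).2 fun s => ?_)
    have hE := (mem_orth_iff b Q A g).1 hg
    cases s with
    | some s => exact hE s
    | none =>
      set GA := LinearMap.toMatrix (b.baseChange A) (b.baseChange A) g.toLinearMap
      show GA.det - 1 = 0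
      have hsq : GA.det * GA.det = 1 := by
        have h := hd_cf_congr hodd GA ((liftMat b Q).map (algebraMap R A))
        rw [show cf (GA.transpose * (liftMat b Q).map (algebraMap R A) * GA) =
          cf ((liftMat b Q).map (algebraMap R A)) from funext fun s => sub_eq_zero.1 (hE s), pow_two] at h
        have hu' : IsUnit (hd (cf ((liftMat b Q).map (algebraMap R A)))) := by
          rw [← map_cf, ← map_hd]; exact (isUnit_hd_liftMat b Q hQ).map _
        exact (hu'.mul_eq_right).1 h.symm
      have h1 : ev GA.det = 1 := by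
        rw [AlgHom.map_det, AlgHom.mapMatrix_apply, ← hmat]
        exact sub_eq_zero.1 ((mem_sorth'_iff b Q k g').1 ((sorth_eq_of_odd b Q hn k g').1 hg') none)
      rcases mul_self_eq_one_iff.1 hsq with h | h
      · rw [h, sub_self]
      · rw [h, map_neg, map_one] at h1
        rw [h, sub_eq_zero, ← map_one (algebraMap k A), ← map_neg, h1]
  · intro hp g hg hr
    have h2 : (2 : k) ≠ 0 := hp.resolve_left (Nat.not_even_iff_odd.2 hodd)
    have h := sub_eq_zero.1 ((mem_sorth'_iff b Q k g).1 ((sorth_eq_of_odd b Q hn k g).1 hg) none)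
    rw [LinearMap.det_toMatrix, ← LinearEquiv.coe_det, det_refl _ hr] at h
    exact h2 (by linear_combination -h)

include b in
theorem sorth_eq_of_even {m : ℕ} (hn : n = 2 * m) (A : Type u) [CommRing A] [Algebra R A] [Nontrivial A]
    (g : (A ⊗[R] M) ≃ₗ[A] (A ⊗[R] M)) : g ∈ QuadGrp.sorth Q A ↔
      ∃ hg : g ∈ QuadGrp.O (QuadGrp.baseChangeForm A Q),
        QuadGrp.IsDicksonTrivial (QuadGrp.baseChangeForm A Q) g hg := by
  have heven : Even (Module.finrank A (A ⊗[R] M)) := by
    rw [Module.finrank_eq_card_basis (b.baseChange A), Fintype.card_fin, hn]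
    exact even_two_mul m
  unfold QuadGrp.sorth QuadGrp.SO
  rw [if_pos heven]
  exact Iff.rfl

theorem exists_soEven_idem {m : ℕ} (hn : n = 2 * m) (hQ : QuadGrp.IsRegular Q) :
    ∃ e : (orthEqs b Q).Coord, IsIdempotentElem e ∧ ∀ (A : Type u) [CommRing A] [Algebra R A]
      (g : (A ⊗[R] M) ≃ₗ[A] (A ⊗[R] M)), g ∈ QuadGrp.sorth Q A ↔
        ∃ hg : g ∈ QuadGrp.orth Q A, IsUnit (((orthPt b Q).Φ A).symm ⟨g, hg⟩ e) := by
  haveI := Module.Finite.of_basis b
  let C := (orthEqs b Q).Coord
  rcases subsingleton_or_nontrivial R with hR | hR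
  · refine ⟨1, IsIdempotentElem.one, fun A _ _ g => ?_⟩
    haveI : Subsingleton A := RingHom.codomain_trivial (algebraMap R A)
    haveI := Module.subsingleton A (A ⊗[R] M)
    have : g = 1 := LinearEquiv.ext fun x => Subsingleton.elim _ _
    subst this
    exact ⟨fun _ => ⟨one_mem _, isUnit_of_subsingleton _⟩, fun _ => one_mem _⟩
  have hM : Module.finrank R M = 2 * m := by rw [Module.finrank_eq_card_basis b, Fintype.card_fin, hn]
  obtain ⟨e, he, hev⟩ := exists_dickson_idem hM hQ
    ((mem_O_baseChange_iff Q C ((orthPt b Q).Φ C (AlgHom.id R C)).1).2 ((orthPt b Q).Φ C (AlgHom.id R C)).2)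
  refine ⟨e, he, fun A _ _ g => ?_⟩
  rcases subsingleton_or_nontrivial A with hA | hA
  · haveI := Module.subsingleton A (A ⊗[R] M)
    have : g = 1 := LinearEquiv.ext fun x => Subsingleton.elim _ _
    subst this
    exact ⟨fun _ => ⟨one_mem _, isUnit_of_subsingleton _⟩, fun _ => one_mem _⟩
  rw [sorth_eq_of_even b Q hn A g]
  have key : ∀ (hg : g ∈ QuadGrp.orth Q A) (hg' : g ∈ QuadGrp.O (QuadGrp.baseChangeForm A Q)),
      QuadGrp.IsDicksonTrivial (QuadGrp.baseChangeForm A Q) g hg' ↔
        IsUnit (((orthPt b Q).Φ A).symm ⟨g, hg⟩ e) := fun hg hg' => by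
    refine hev A (((orthPt b Q).Φ A).symm ⟨g, hg⟩) g hg' fun v => ?_
    rw [← (orthPt b Q).nat, AlgHom.comp_id, Equiv.apply_symm_apply]
  exact ⟨fun ⟨hg', hd⟩ => ⟨(mem_O_baseChange_iff Q A g).1 hg', (key _ hg').1 hd⟩,
    fun ⟨hg, hu⟩ => ⟨(mem_O_baseChange_iff Q A g).2 hg, (key hg _).2 hu⟩⟩

include b in
/-- Even rank. -/
theorem sorth_even_main {m : ℕ} (hn : n = 2 * m) (hQ : QuadGrp.IsRegular Q)
    {G : Over (Spec (CommRingCat.of R))} [GrpObj G] (D : QuadGrp.SOrthRep Q G) :
    SmoothOfRelativeDimension (Nat.choose n 2) G.hom ∧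
      ∀ s : ↥(Spec (CommRingCat.of R)), ConnectedSpace ↥(G.hom.fiber s) := by
  haveI := Module.Finite.of_basis b
  have heven : Even n := hn ▸ even_two_mul m
  have hnd : QuadGrp.IsNondeg b (LinearEquiv.refl R R) Q :=
    ⟨fun _ => hQ, fun ho => absurd heven (Nat.not_even_iff_odd.2 ho)⟩
  have hP : IsUnit (polarMat b Q).det := isUnit_det_polarMat b Q hnd (Or.inl heven)
  obtain ⟨e, hidem, hmem⟩ := exists_soEven_idem b Q hn hQ
  haveI : Algebra.Smooth R (orthEqs b Q).Coord := orth_smooth b Q hnd (Or.inl heven)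
  haveI : Algebra.Smooth (orthEqs b Q).Coord (Localization.Away e) := Algebra.Smooth.of_isLocalization_Away e
  haveI : Algebra.Smooth R (Localization.Away e) := Algebra.Smooth.comp R (orthEqs b Q).Coord _
  let P : PtData (fun A _ _ => QuadGrp.sorth Q A) (Localization.Away e) := awayPt (orthPt b Q) e hmem
  obtain ⟨u, hu, he⟩ := exists_iso_of_ptData P D
  refine smoothOfRelativeDimension_connected_of_iso _ u he
    (locally_standardSmooth_of_derivations _ fun k _ _ _ _ => ?_) fun k _ _ _ => ?_
  · letI : Algebra (orthEqs b Q).Coord k := Algebra.compHom k (algebraMap _ (Localization.Away e))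
    haveI : IsScalarTower (orthEqs b Q).Coord (Localization.Away e) k := IsScalarTower.of_algebraMap_eq (R := (orthEqs b Q).Coord) (S := Localization.Away e) (A := k) fun _ => rfl
    haveI : IsScalarTower R (orthEqs b Q).Coord k := IsScalarTower.of_algebraMap_eq (R := R) (S := (orthEqs b Q).Coord) (A := k) fun r => by
      rw [IsScalarTower.algebraMap_apply (orthEqs b Q).Coord (Localization.Away e) k,
        ← IsScalarTower.algebraMap_apply R _ (Localization.Away e), ← IsScalarTower.algebraMap_apply]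
    rw [finrank_derivation_of_away e (Localization.Away e)]
    exact finrank_derivation_orth b Q hP
  have hM : Module.finrank k (k ⊗[R] M) = 2 * m := by
    rw [Module.finrank_eq_card_basis (b.baseChange k), Fintype.card_fin, hn]
  have hQk : QuadGrp.IsRegular (QuadGrp.baseChangeForm k Q) := CliffStr.regular_bcf _ b hQ
  refine connectedSpace_baseChange b Q k P (fun g hg => ((hmem k g).1 hg).1) ?_ ?_ ?_ ?_
  · intro x hx _
    refine hQk.1 (LinearMap.ext fun y => ?_)
    rw [map_zero, LinearMap.zero_apply, QuadraticMap.polarBilin_apply_apply, hx y]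
  · intro A _ _ G hG
    have h := det_sq_mul _ _ (funext fun s => sub_eq_zero.1 (hG s))
    rw [pow_two] at h
    exact (isUnit_det_baseChange b Q hnd (Or.inl heven) A).mul_eq_right.1 h
  · intro A _ _ _ _ ev g hg ⟨g', hg', hmat⟩
    refine (hmem A g).2 ⟨hg, ?_⟩
    obtain ⟨hg'O, hu'⟩ := (hmem k g').1 hg'
    set ψ := ((orthPt b Q).Φ A).symm ⟨g, hg⟩ with hψ
    have hev : ((orthPt b Q).Φ k).symm ⟨g', hg'O⟩ = ev.comp ψ := by
      rw [Equiv.symm_apply_eq]
      refine Subtype.ext (LinearEquiv.toLinearMap_injective ((LinearMap.toMatrix (b.baseChange k) (b.baseChange k)).injective ?_))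
      rw [toMatrix_push b (orthPt b Q), hψ, Equiv.apply_symm_apply]
      exact hmat
    rcases IsIdempotentElem.iff_eq_zero_or_one.1 (hidem.map ψ) with h | h
    · rw [hev, AlgHom.comp_apply, h, map_zero] at hu'
      exact absurd hu' not_isUnit_zero
    · rw [h]; exact isUnit_one
  · intro _ g hg hr
    obtain ⟨hgO, hd⟩ := (sorth_eq_of_even b Q hn k g).1 hg
    exact not_dickson_refl _ hM hQk hgO hr hd

end main

end Groth.Agent.QuadLib

end
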