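import Groth.Agent.QuadLib.Smooth
import Groth.Agent.CAlgH.RegularSmooth
import Mathlib.RingTheory.Localization.Away.Basic

/-!
# The universal orthogonal group of a regular form

`matOrthEqs`: orthogonal equations of a bilinear matrix; `det_eq_one_of_two_eq_zero`: in
characteristic two an isometry of a regular form has determinant one.
-/

set_option autoImplicit false
set_option linter.unusedSectionVars false

noncomputable section

open Matrix

universe u v

namespace Groth.Agent.QuadLib

section Mat

variable {R : Type u} [CommRing R] {n : ℕ} (B : Matrix (Fin n) (Fin n) R)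

/-- The orthogonal equations of a matrix. -/
def matOrthEqs : MatEqs R n (Sym2 (Fin n)) where
  E A _ _ G s := cf (G.transpose * B.map (algebraMap R A) * G) s - cf (B.map (algebraMap R A)) s
  map A A' _ _ _ _ φ G s := by
    have e : (B.map (algebraMap R A)).map φ = B.map (algebraMap R A') := by
      ext i j; exact φ.commutes _
    have h : ∀ M' : Matrix (Fin n) (Fin n) A, φ (cf M' s) = cf (M'.map φ) s := fun M' =>
      congrFun (map_cf φ.toRingHom M') s
    rw [map_sub, h, h, Matrix.map_mul, Matrix.map_mul, Matrix.transpose_map, e]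

theorem isUnit_det_map (hB : IsUnit (B + B.transpose).det) (A : Type u) [CommRing A] [Algebra R A] :
    IsUnit (B.map (algebraMap R A) + (B.map (algebraMap R A)).transpose).det := by
  rw [← Matrix.transpose_map, ← Matrix.map_add _ (map_add (algebraMap R A)),
    ← RingHom.mapMatrix_apply, ← RingHom.map_det]
  exact hB.map _

theorem matOrth_smooth (hB : IsUnit (B + B.transpose).det) :
    Algebra.Smooth R (matOrthEqs B).Coord := by
  refine (matOrthEqs B).smooth_of_lift fun A _ _ I hI G₀ => ?_
  obtain ⟨G, hG⟩ := exists_map_eq G₀.1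
  have hδ : ∀ s, cf (G.transpose * B.map (algebraMap R A) * G) s -
      cf (B.map (algebraMap R A)) s ∈ I := fun s => by
    refine Ideal.Quotient.eq_zero_iff_mem.mp ?_
    exact ((matOrthEqs B).map A (A ⧸ I) (Ideal.Quotient.mkₐ R I) G s).trans
      (by rw [show G.map (Ideal.Quotient.mkₐ R I) = G₀.1 from hG]; exact G₀.2.2 s)
  obtain ⟨η, hη, hcf⟩ := exists_lift_regular hI _ G (isUnit_det_map B hB A) hδ
  have hmap : (G * (1 + η)).map (Ideal.Quotient.mk I) = G₀.1 := by rw [map_mul_one_add G η hη, hG]
  refine ⟨⟨G * (1 + η), isUnit_of_isUnit_quot hI ?_, fun s => sub_eq_zero.mpr (congrFun hcf s)⟩,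
    hmap⟩
  rw [RingHom.map_det, RingHom.mapMatrix_apply, hmap]
  exact G₀.2.1

/-- The determinant of the universal isometry. -/
def univDet : (matOrthEqs B).Coord := ((matOrthEqs B).matOf (AlgHom.id R _)).det

theorem univDet_sq (hB : IsUnit (B + B.transpose).det) : univDet B ^ 2 = 1 := by
  refine (isUnit_det_map B hB _).mul_right_cancel ?_
  rw [one_mul]
  exact det_sq_mul _ _
    (funext fun s => sub_eq_zero.mp (((matOrthEqs B).matOf_mem (AlgHom.id R _)).2 s))

theorem map_univDet {A : Type u} [CommRing A] [Algebra R A] (G : (matOrthEqs B).Sol A) :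
    ((matOrthEqs B).equiv A).symm G (univDet B) = G.1.det := by
  have h : (matOrthEqs B).matOf (((matOrthEqs B).equiv A).symm G) = G.1 :=
    congrArg Subtype.val (((matOrthEqs B).equiv A).apply_symm_apply G)
  rw [univDet, AlgHom.map_det, AlgHom.mapMatrix_apply, ← h]
  rfl

theorem univDet_eq_one_of_two_eq_zero [IsReduced R] (hB : IsUnit (B + B.transpose).det)
    (h2 : (2 : R) = 0) : univDet B = 1 := by
  haveI := matOrth_smooth B hB
  haveI : IsReduced (matOrthEqs B).Coord := Groth.Agent.CAlgH.isReduced_of_smooth R _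
  have h2' : (2 : (matOrthEqs B).Coord) = 0 := by
    rw [← map_ofNat (algebraMap R (matOrthEqs B).Coord) 2, h2, map_zero]
  rw [← sub_eq_zero]
  refine IsReduced.eq_zero _ ⟨2, ?_⟩
  linear_combination univDet_sq B hB + (1 - univDet B) * h2'

end Mat

/-- In characteristic two an isometry of a regular form has determinant one. -/
theorem det_eq_one_of_two_eq_zero {A : Type u} [CommRing A] [CharP A 2] {n : ℕ}
    (B G : Matrix (Fin n) (Fin n) A) (hB : IsUnit (B + B.transpose).det) (hG : IsUnit G.det)
    (hcf : cf (G.transpose * B * G) = cf B) : G.det = 1 := by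
  let P := MvPolynomial (Fin n × Fin n) (ULift.{u} (ZMod 2))
  let X₀ : Matrix (Fin n) (Fin n) P := Matrix.of fun i j => MvPolynomial.X (i, j)
  let r : P := (X₀ + X₀.transpose).det
  let R₀ := Localization.Away r
  let B₀ : Matrix (Fin n) (Fin n) R₀ := X₀.map (algebraMap P R₀)
  haveI : IsReduced R₀ := isReduced_localizationPreserves (Submonoid.powers r) R₀ inferInstance
  have hB₀ : IsUnit (B₀ + B₀.transpose).det := by
    rw [← Matrix.transpose_map, ← Matrix.map_add _ (map_add (algebraMap P R₀)),
      ← RingHom.mapMatrix_apply, ← RingHom.map_det]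
    exact IsLocalization.Away.algebraMap_isUnit r
  have h20 : (2 : R₀) = 0 := by
    have h : (2 : ULift.{u} (ZMod 2)) = 0 := rfl
    rw [← map_ofNat (algebraMap P R₀) 2, ← map_ofNat (MvPolynomial.C (σ := Fin n × Fin n)) 2, h,
      map_zero, map_zero]
  let c : ULift.{u} (ZMod 2) →+* A :=
    (ZMod.castHom (dvd_refl 2) A).comp ULift.ringEquiv.toRingHom
  let f₁ : P →+* A := MvPolynomial.eval₂Hom c fun q => B q.1 q.2
  have hX : X₀.map f₁ = B := by
    ext i j; exact MvPolynomial.eval₂Hom_X' _ _ _
  have hr : IsUnit (f₁ r) := by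
    rw [RingHom.map_det, RingHom.mapMatrix_apply, Matrix.map_add _ (map_add f₁),
      Matrix.transpose_map, hX]
    exact hB
  let f : R₀ →+* A := IsLocalization.Away.lift r hr
  letI : Algebra R₀ A := f.toAlgebra
  have hBA : B₀.map (algebraMap R₀ A) = B := by
    rw [← hX]
    ext i j
    exact IsLocalization.Away.lift_eq r hr _
  have h := congrArg (((matOrthEqs B₀).equiv A).symm ⟨G, hG, fun s => by
    show cf (G.transpose * B₀.map (algebraMap R₀ A) * G) s - cf (B₀.map (algebraMap R₀ A)) s = 0
    rw [hBA, hcf, sub_self]⟩) (univDet_eq_one_of_two_eq_zero B₀ hB₀ h20)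
  rw [map_univDet, map_one] at h
  exact h

/-- Every isometry of a regular form in characteristic two has determinant one. -/
theorem O_le_SO'_of_two_eq_zero {R : Type u} [CommRing R] [CharP R 2] {M : Type v}
    [AddCommGroup M] [Module R M] [Module.Free R M] {n : ℕ} (b : Module.Basis (Fin n) R M)
    (Q : QuadraticForm R M) (hQ : IsUnit (polarMat b Q).det) : QuadGrp.O Q ≤ QuadGrp.SO' Q := by
  intro g hg
  refine ⟨hg, ?_⟩
  let B : Matrix (Fin n) (Fin n) R := Matrix.of fun i j => QuadGrp.bilinLift Q (b i) (b j)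
  have hqv : ∀ v, Q v = (b.repr v : Fin n → R) ⬝ᵥ (B *ᵥ (b.repr v : Fin n → R)) := fun v => by
    conv_lhs => rw [← QuadGrp.bilinLift_spec Q, LinearMap.BilinMap.toQuadraticMap_apply,
      ← b.sum_repr v]
    simp only [map_sum, LinearMap.coe_sum, Finset.sum_apply, map_smul, LinearMap.smul_apply,
      smul_eq_mul, dotProduct, Matrix.mulVec, Finset.mul_sum, B, Matrix.of_apply]
    rw [Finset.sum_comm]
    exact Finset.sum_congr rfl fun i _ => Finset.sum_congr rfl fun j _ => by ring
  have hP : polarMat b Q = B + B.transpose := by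
    ext i j
    conv_lhs => rw [polarMat, Matrix.of_apply, ← QuadGrp.bilinLift_spec Q]
    simp [B, LinearMap.BilinMap.polar_toQuadraticMap]
  let G := LinearMap.toMatrix b b g.toLinearMap
  have hcf : cf (G.transpose * B * G) = cf B := by
    rw [← sub_eq_zero, ← cf_sub]
    refine (qv_eq_zero_iff _).mp fun x => ?_
    have e : (b.repr (b.equivFun.symm x) : Fin n → R) = x := b.equivFun.apply_symm_apply x
    have h1 := hg (b.equivFun.symm x)
    rw [hqv, hqv, show (b.repr (g (b.equivFun.symm x)) : Fin n → R) = G *ᵥ b.repr (b.equivFun.symm x)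
      from (LinearMap.toMatrix_mulVec_repr b b g.toLinearMap _).symm, e] at h1
    rw [Matrix.sub_mulVec, dotProduct_sub, ← qv_transpose_mul_mul, h1, sub_self]
  have hd := det_eq_one_of_two_eq_zero B G (hP ▸ hQ) (LinearEquiv.isUnit_det g b b) hcf
  refine MonoidHom.mem_ker.mpr (Units.ext ?_)
  rw [LinearEquiv.coe_det, ← LinearMap.det_toMatrix b, Units.val_one]
  exact hd

end Groth.Agent.QuadLib

end
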